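import Mathlib.RingTheory.Support
import Mathlib.RingTheory.LocalRing.Module
import Mathlib.RingTheory.LocalRing.ResidueField.Ideal
import Mathlib.RingTheory.Flat.FaithfullyFlat.Basic
import Mathlib.RingTheory.Spectrum.Prime.RingHom

set_option autoImplicit false
universe u v w

namespace Groth.Agent.H31

open TensorProduct

/-- For a finite module `M` and a field `K` over `R` whose structure map has kernel `p`,
`K ⊗ M` is nontrivial iff `p` is in the support of `M`. -/
theorem nontrivial_field_tensor_iff {R : Type u} [CommRing R] (M : Type v) [AddCommGroup M]
    [Module R M] [Module.Finite R M] (K : Type w) [Field K] [Algebra R K] (p : PrimeSpectrum R)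
    (hp : RingHom.ker (algebraMap R K) = p.asIdeal) :
    Nontrivial (K ⊗[R] M) ↔ p ∈ Module.support R M := by
  constructor
  · intro hnt
    by_contra hns
    rw [Module.mem_support_iff_of_finite, SetLike.not_le_iff_exists] at hns
    obtain ⟨r, hr, hrp⟩ := hns
    have hr0 : algebraMap R K r ≠ 0 := by
      intro h0
      apply hrp
      rw [← hp]
      exact h0
    have hz : ∀ z : K ⊗[R] M, z = 0 := by
      intro z
      have h1 : r • z = 0 := by
        induction z using TensorProduct.induction_on with
        | zero => simp
        | add y z hy hz => rw [smul_add, hy, hz, add_zero]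
        | tmul k m =>
          rw [TensorProduct.smul_tmul', TensorProduct.smul_tmul, (Module.mem_annihilator.1 hr m),
            TensorProduct.tmul_zero]
      have h2 : (algebraMap R K r) • z = 0 := by
        rw [algebraMap_smul]; exact h1
      have h3 := congrArg (fun w => (algebraMap R K r)⁻¹ • w) h2
      simp only [smul_smul, inv_mul_cancel₀ hr0, one_smul, smul_zero] at h3
      exact h3
    obtain ⟨a, b, hab⟩ := hnt
    exact hab ((hz a).trans (hz b).symm)
  · intro hsupp
    have h1 : Nontrivial (p.asIdeal.ResidueField ⊗[R] M) :=
      (Module.mem_support_iff_nontrivial_residueField_tensorProduct p).1 hsupp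
    let φ : p.asIdeal.ResidueField →+* K :=
      Ideal.ResidueField.lift p.asIdeal (algebraMap R K) (le_of_eq hp.symm) (by
        intro r hr
        show IsUnit (algebraMap R K r)
        rw [isUnit_iff_ne_zero]
        intro h0
        apply hr
        show r ∈ p.asIdeal
        rw [← hp]
        exact h0)
    let _ : Algebra p.asIdeal.ResidueField K := φ.toAlgebra
    have : IsScalarTower R p.asIdeal.ResidueField K :=
      IsScalarTower.of_algebraMap_eq (fun r =>
        (Ideal.ResidueField.lift_algebraMap p.asIdeal (algebraMap R K) _ _ r).symm)
    let e := AlgebraTensorModule.cancelBaseChange R p.asIdeal.ResidueField K K M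
    rw [← e.toEquiv.nontrivial_congr]
    exact (Module.FaithfullyFlat.nontrivial_tensorProduct_iff_right _ _).2 h1

/-- The support of a base change of a finite module is the preimage of the support. -/
theorem support_baseChange_eq_preimage {R : Type u} {R' : Type v} [CommRing R] [CommRing R']
    [Algebra R R'] (M : Type w) [AddCommGroup M] [Module R M] [Module.Finite R M] :
    Module.support R' (R' ⊗[R] M) =
      PrimeSpectrum.comap (algebraMap R R') ⁻¹' Module.support R M := by
  ext q
  rw [Set.mem_preimage]
  rw [Module.mem_support_iff_nontrivial_residueField_tensorProduct]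
  let e := AlgebraTensorModule.cancelBaseChange R R' q.asIdeal.ResidueField q.asIdeal.ResidueField M
  rw [e.toEquiv.nontrivial_congr]
  apply nontrivial_field_tensor_iff
  ext r
  rw [RingHom.mem_ker, IsScalarTower.algebraMap_apply R R' q.asIdeal.ResidueField,
    Ideal.algebraMap_residueField_eq_zero]
  rfl

end Groth.Agent.H31
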