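import Mathlib

set_option autoImplicit false
open CategoryTheory CategoryTheory.Limits
universe u

namespace Groth.Agent.H31

/-- For a reflective situation `a ⊣ i` with invertible counit, a functor `G` out of the subcategory
preserves a colimit as soon as `a ⋙ G` preserves the corresponding colimit upstairs. -/
theorem preservesColimit_of_reflective {K : Type*} [Category K] {Sub Amb E : Type*}
    [Category Sub] [Category Amb] [Category E]
    {i : Sub ⥤ Amb} {a : Amb ⥤ Sub} (adj : a ⊣ i) [IsIso adj.counit] (G : Sub ⥤ E)
    (F : K ⥤ Sub) [HasColimit (F ⋙ i)] [PreservesColimit (F ⋙ i) (a ⋙ G)] :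
    PreservesColimit F G := by
  have : PreservesColimit (F ⋙ i) a := adj.leftAdjoint_preservesColimits.preservesColimitsOfShape.preservesColimit
  let e : (F ⋙ i) ⋙ a ≅ F :=
    Functor.associator _ _ _ ≪≫ Functor.isoWhiskerLeft F (asIso adj.counit) ≪≫ Functor.rightUnitor _
  let c' := colimit.cocone (F ⋙ i)
  let c₀ : Cocone F := (Cocone.precompose e.inv).obj (a.mapCocone c')
  have hc₀ : IsColimit c₀ :=
    (IsColimit.precomposeInvEquiv e _).symm (isColimitOfPreserves a (colimit.isColimit _))
  have hG : IsColimit (G.mapCocone c₀) := by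
    have h1 : IsColimit ((a ⋙ G).mapCocone c') := isColimitOfPreserves (a ⋙ G) (colimit.isColimit _)
    have h2 : IsColimit ((Cocone.precompose (Functor.isoWhiskerRight e G).inv).obj
        ((a ⋙ G).mapCocone c')) :=
      (IsColimit.precomposeInvEquiv (Functor.isoWhiskerRight e G) _).symm h1
    refine IsColimit.ofIsoColimit h2 (Cocone.ext (Iso.refl _) ?_)
    intro k
    simp [c₀]
  exact preservesColimit_of_preserves_colimit_cocone hc₀ hG

section
variable {C : Type u} [SmallCategory C] {J : GrothendieckTopology C} (R : Sheaf J RingCat.{u})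

theorem toSheaf_preservesColimits :
    PreservesColimitsOfSize.{u, u} (SheafOfModules.toSheaf.{u} R) := by
  refine ⟨fun {K} _ => ⟨fun {F} => ?_⟩⟩
  have h1 : PreservesColimitsOfSize.{u, u}
      (PresheafOfModules.sheafification.{u} (𝟙 R.obj) ⋙ SheafOfModules.toSheaf.{u} R) := by
    show PreservesColimitsOfSize.{u, u}
      (PresheafOfModules.toPresheaf _ ⋙ presheafToSheaf J AddCommGrpCat.{u})
    infer_instance
  exact preservesColimit_of_reflective
    (PresheafOfModules.sheafificationAdjunction.{u} (𝟙 R.obj)) (SheafOfModules.toSheaf.{u} R) F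

theorem toSheaf_preservesLimits :
    PreservesLimitsOfSize.{u, u} (SheafOfModules.toSheaf.{u} R) := by
  have h1 : PreservesLimitsOfSize.{u, u}
      (SheafOfModules.toSheaf.{u} R ⋙ sheafToPresheaf J AddCommGrpCat.{u}) := by
    show PreservesLimitsOfSize.{u, u}
      (SheafOfModules.forget.{u} R ⋙ PresheafOfModules.toPresheaf R.obj)
    infer_instance
  exact preservesLimits_of_reflects_of_preserves _ (sheafToPresheaf J AddCommGrpCat.{u})
end


end Groth.Agent.H31
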