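import Groth.Agent.H31.AcycRes
import Groth.Agent.H30.LerayB
import Groth.Agent.H30.ExtendMap

/-!
# `Rᵠ(T ⋙ S) ≅ T ⋙ RᵠS` for an exact functor `T` sending injectives to `S`-acyclic objects
-/

set_option autoImplicit false
set_option linter.unusedSectionVars false
universe w w' v v' v'' u u' u''
open CategoryTheory Limits HomologicalComplex CochainComplex Category

namespace Groth.Agent.H31.AcycComp

noncomputable section

open Groth.Agent.H30

section Extend

variable {B : Type u'} [Category.{v'} B] [Abelian B]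
  {D : Type u''} [Category.{v''} D] [Abelian D]
  (S : B ⥤ D) [S.Additive]

lemma mapXIso_naturality {ι : Type*} {c : ComplexShape ι} {K L : HomologicalComplex B c}
    (φ : K ⟶ L) (o : Option ι) :
    S.map (HomologicalComplex.extend.mapX φ o) ≫ (ExtendMap.mapXIso S L o).hom =
      (ExtendMap.mapXIso S K o).hom ≫
        HomologicalComplex.extend.mapX ((S.mapHomologicalComplex c).map φ) o := by
  match o with
  | none => exact (S.map_isZero (isZero_zero B)).eq_of_src _ _
  | some i =>
      simp only [ExtendMap.mapXIso, HomologicalComplex.extend.mapX, Iso.refl_hom]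
      exact (Category.comp_id _).trans (Category.id_comp _).symm

lemma mapExtendIso_naturality {ι ι' : Type*} {c : ComplexShape ι} {c' : ComplexShape ι'}
    {K L : HomologicalComplex B c} (φ : K ⟶ L) (e : c.Embedding c') :
    (S.mapHomologicalComplex c').map (HomologicalComplex.extendMap φ e) ≫
        (ExtendMap.mapExtendIso S L e).hom =
      (ExtendMap.mapExtendIso S K e).hom ≫
        HomologicalComplex.extendMap ((S.mapHomologicalComplex c).map φ) e := by
  ext i'
  exact mapXIso_naturality S φ (e.r i')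

end Extend

section QuasiIso

variable {B : Type u'} [Category.{v'} B] [Abelian B] [EnoughInjectives B]
  {D : Type u''} [Category.{v''} D] [Abelian D]
  (S : B ⥤ D) [S.Additive] [PreservesFiniteLimits S]

lemma acyclic_of_iso {X Y : B} (e : X ≅ Y) (h : Leray.acyclic S X) : Leray.acyclic S Y :=
  fun i hi => (h i hi).of_iso ((S.rightDerived i).mapIso e.symm)

/-- A left exact functor preserves quasi-isomorphisms between `ℕ`-indexed cochain complexes
of acyclic objects. -/
theorem quasiIso_map_of_acyclic {K L : CochainComplex B ℕ} (c : K ⟶ L) [QuasiIso c]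
    (hK : ∀ n, Leray.acyclic S (K.X n)) (hL : ∀ n, Leray.acyclic S (L.X n)) :
    QuasiIso ((S.mapHomologicalComplex (ComplexShape.up ℕ)).map c) := by
  have : HasDerivedCategory.{max u' v'} B := HasDerivedCategory.standard B
  have : HasDerivedCategory.{max u'' v''} D := HasDerivedCategory.standard D
  let e := ComplexShape.embeddingUpNat
  have hext : ∀ (M : CochainComplex B ℕ), (∀ n, Leray.acyclic S (M.X n)) →
      ∀ n : ℤ, Leray.acyclic S ((M.extend e).X n) := fun M hM n => by
    by_cases hn : ∃ i, e.f i = n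
    · obtain ⟨i, hi⟩ := hn
      exact acyclic_of_iso S (M.extendXIso e hi).symm (hM i)
    · exact Leray.acyclic_of_isZero S
        (M.isZero_extend_X e n (fun i hi => hn ⟨i, hi⟩))
  have sK : CochainComplex.IsStrictlyGE (K.extend e) 0 := by dsimp [e]; infer_instance
  have sL : CochainComplex.IsStrictlyGE (L.extend e) 0 := by dsimp [e]; infer_instance
  let K' : CochainComplex.Plus B := ⟨K.extend e, 0, sK⟩
  let L' : CochainComplex.Plus B := ⟨L.extend e, 0, sL⟩
  let φ : K' ⟶ L' := ObjectProperty.homMk (HomologicalComplex.extendMap c e)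
  have : QuasiIso φ.hom := inferInstanceAs (QuasiIso (HomologicalComplex.extendMap c e))
  have h : QuasiIso ((S.mapHomologicalComplex (ComplexShape.up ℤ)).map
      (HomologicalComplex.extendMap c e)) :=
    Leray.quasiIso_map_of_acyclic S φ (hext K hK) (hext L hL)
  have nat := mapExtendIso_naturality S c e
  have h2 : QuasiIso ((ExtendMap.mapExtendIso S K e).hom ≫
      HomologicalComplex.extendMap ((S.mapHomologicalComplex _).map c) e) := by
    rw [← nat]; infer_instance
  have h3 : QuasiIso (HomologicalComplex.extendMap ((S.mapHomologicalComplex _).map c) e) :=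
    quasiIso_of_comp_left (ExtendMap.mapExtendIso S K e).hom _
  exact (HomologicalComplex.quasiIso_extendMap_iff _ e).1 h3

end QuasiIso

section Main

variable {A : Type u} [Category.{v} A] [Abelian A] [HasInjectiveResolutions A]
  {B : Type u'} [Category.{v'} B] [Abelian B] [EnoughInjectives B]
  {D : Type u''} [Category.{v''} D] [Abelian D]
  (T : A ⥤ B) [T.Additive] [PreservesFiniteLimits T] [PreservesFiniteColimits T]
  (S : B ⥤ D) [S.Additive]

/-- The image of an injective resolution under an exact functor, as a weak resolution. -/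
def tRes {X : A} (I : InjectiveResolution X) : WRes (T.obj X) where
  cocomplex := (T.mapHomologicalComplex _).obj I.cocomplex
  ι := (HomologicalComplex.singleMapHomologicalComplex T (ComplexShape.up ℕ) 0).inv.app X ≫
    (T.mapHomologicalComplex _).map I.ι
  quasiIso := by
    have : QuasiIso ((T.mapHomologicalComplex (ComplexShape.up ℕ)).map I.ι) := inferInstance
    infer_instance

lemma tRes_comm {X Y : A} (f : X ⟶ Y) (I : InjectiveResolution X) (J : InjectiveResolution Y)
    (φ : I.cocomplex ⟶ J.cocomplex) (w : I.ι ≫ φ = (CochainComplex.single₀ A).map f ≫ J.ι) :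
    (tRes T I).ι ≫ (T.mapHomologicalComplex _).map φ =
      (CochainComplex.single₀ B).map (T.map f) ≫ (tRes T J).ι := by
  dsimp only [tRes]
  rw [Category.assoc, ← Functor.map_comp, w, Functor.map_comp]
  exact ((HomologicalComplex.singleMapHomologicalComplex T (ComplexShape.up ℕ) 0).inv.naturality_assoc
    f _).symm

/-- The comparison map `T(I) ⟶ J` from the image of an injective resolution of `X` to an
injective resolution of `T X`. -/
def cmp {X : A} (I : InjectiveResolution X) (J : InjectiveResolution (T.obj X)) :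
    (T.mapHomologicalComplex _).obj I.cocomplex ⟶ J.cocomplex :=
  gdesc (𝟙 _) J (tRes T I)

lemma cmp_comm {X : A} (I : InjectiveResolution X) (J : InjectiveResolution (T.obj X)) :
    (tRes T I).ι ≫ cmp T I J = J.ι := by
  simp [cmp]

instance {X : A} (I : InjectiveResolution X) (J : InjectiveResolution (T.obj X)) :
    QuasiIso (cmp T I J) := by
  have h : QuasiIso ((tRes T I).ι ≫ cmp T I J) := by rw [cmp_comm]; infer_instance
  exact quasiIso_of_comp_left (tRes T I).ι _

/-- Naturality of the comparison map, up to homotopy. -/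
def cmpHomotopy {X Y : A} (f : X ⟶ Y) (I : InjectiveResolution X) (I' : InjectiveResolution Y)
    (J : InjectiveResolution (T.obj X)) (J' : InjectiveResolution (T.obj Y))
    (φ : I.cocomplex ⟶ I'.cocomplex) (w : I.ι ≫ φ = (CochainComplex.single₀ A).map f ≫ I'.ι)
    (ψ : J.cocomplex ⟶ J'.cocomplex)
    (w' : J.ι ≫ ψ = (CochainComplex.single₀ B).map (T.map f) ≫ J'.ι) :
    Homotopy ((T.mapHomologicalComplex _).map φ ≫ cmp T I' J') (cmp T I J ≫ ψ) :=
  gdescHomotopy (I := tRes T I) _ _ (by
    have e1 : (tRes T I).ι ≫ ((T.mapHomologicalComplex _).map φ ≫ cmp T I' J') =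
        (CochainComplex.single₀ B).map (T.map f) ≫ J'.ι :=
      (Category.assoc _ _ _).symm.trans ((congrArg (· ≫ cmp T I' J') (tRes_comm T f I I' φ w)).trans
        ((Category.assoc _ _ _).trans
          (congrArg ((CochainComplex.single₀ B).map (T.map f) ≫ ·) (cmp_comm T I' J'))))
    have e2 : (tRes T I).ι ≫ (cmp T I J ≫ ψ) =
        (CochainComplex.single₀ B).map (T.map f) ≫ J'.ι :=
      (Category.assoc _ _ _).symm.trans ((congrArg (· ≫ ψ) (cmp_comm T I J)).trans w')
    exact e1.trans e2.symm)

/-- `Rᵠ(T ⋙ S) X ≅ Hᵠ(S(T(I)))`. -/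
def isoA {X : A} (I : InjectiveResolution X) (q : ℕ) :
    ((T ⋙ S).rightDerived q).obj X ≅ (HomologicalComplex.homologyFunctor D _ q).obj
      ((S.mapHomologicalComplex _).obj ((T.mapHomologicalComplex _).obj I.cocomplex)) :=
  I.isoRightDerivedObj (T ⋙ S) q

/-- The components of the comparison `Rᵠ(T ⋙ S) ⟶ T ⋙ RᵠS`. -/
def app (q : ℕ) (X : A) : ((T ⋙ S).rightDerived q).obj X ⟶ (S.rightDerived q).obj (T.obj X) :=
  (isoA T S (injectiveResolution X) q).hom ≫
    (HomologicalComplex.homologyFunctor D _ q).map ((S.mapHomologicalComplex _).map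
      (cmp T (injectiveResolution X) (injectiveResolution (T.obj X)))) ≫
    ((injectiveResolution (T.obj X)).isoRightDerivedObj S q).inv

lemma app_naturality (q : ℕ) {X Y : A} (f : X ⟶ Y) :
    ((T ⋙ S).rightDerived q).map f ≫ app T S q Y =
      app T S q X ≫ (S.rightDerived q).map (T.map f) := by
  let I := injectiveResolution X
  let I' := injectiveResolution Y
  let J := injectiveResolution (T.obj X)
  let J' := injectiveResolution (T.obj Y)
  let φ := InjectiveResolution.desc f I' I
  let ψ := InjectiveResolution.desc (T.map f) J' J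
  have w : I.ι ≫ φ = (CochainComplex.single₀ A).map f ≫ I'.ι :=
    InjectiveResolution.desc_commutes f I' I
  have w0 : I.ι.f 0 ≫ φ.f 0 = f ≫ I'.ι.f 0 := InjectiveResolution.desc_commutes_zero f I' I
  have w' : J.ι ≫ ψ = (CochainComplex.single₀ B).map (T.map f) ≫ J'.ι :=
    InjectiveResolution.desc_commutes _ J' J
  have w0' : J.ι.f 0 ≫ ψ.f 0 = T.map f ≫ J'.ι.f 0 :=
    InjectiveResolution.desc_commutes_zero _ J' J
  let HF := HomologicalComplex.homologyFunctor D (ComplexShape.up ℕ) q
  let SM := S.mapHomologicalComplex (ComplexShape.up ℕ)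
  let TM := T.mapHomologicalComplex (ComplexShape.up ℕ)
  let a := (isoA T S I q).hom
  let a' := (isoA T S I' q).hom
  let b := (J.isoRightDerivedObj S q).inv
  let b' := (J'.isoRightDerivedObj S q).inv
  let m1 : HF.obj (SM.obj (TM.obj I.cocomplex)) ⟶ HF.obj (SM.obj (TM.obj I'.cocomplex)) :=
    HF.map (SM.map (TM.map φ))
  let m2 : HF.obj (SM.obj (TM.obj I.cocomplex)) ⟶ HF.obj (SM.obj J.cocomplex) :=
    HF.map (SM.map (cmp T I J))
  let m2' : HF.obj (SM.obj (TM.obj I'.cocomplex)) ⟶ HF.obj (SM.obj J'.cocomplex) :=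
    HF.map (SM.map (cmp T I' J'))
  let m3 : HF.obj (SM.obj J.cocomplex) ⟶ HF.obj (SM.obj J'.cocomplex) := HF.map (SM.map ψ)
  have n1 : ((T ⋙ S).rightDerived q).map f ≫ a' = a ≫ m1 :=
    InjectiveResolution.isoRightDerivedObj_hom_naturality f I I' φ w0 (T ⋙ S) q
  have n2 : b ≫ (S.rightDerived q).map (T.map f) = m3 ≫ b' :=
    InjectiveResolution.isoRightDerivedObj_inv_naturality (T.map f) J J' ψ w0' S q
  have hm : m1 ≫ m2' = m2 ≫ m3 := by
    dsimp only [m1, m2, m2', m3]
    rw [← HF.map_comp, ← SM.map_comp, ← HF.map_comp, ← SM.map_comp]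
    exact (S.mapHomotopy (cmpHomotopy T f I I' J J' φ w ψ w')).homologyMap_eq q
  show ((T ⋙ S).rightDerived q).map f ≫ (a' ≫ m2' ≫ b') =
    (a ≫ m2 ≫ b) ≫ (S.rightDerived q).map (T.map f)
  calc ((T ⋙ S).rightDerived q).map f ≫ (a' ≫ m2' ≫ b')
      = (((T ⋙ S).rightDerived q).map f ≫ a') ≫ m2' ≫ b' := (Category.assoc _ _ _).symm
    _ = (a ≫ m1) ≫ m2' ≫ b' := congrArg (· ≫ m2' ≫ b') n1
    _ = a ≫ (m1 ≫ m2') ≫ b' := by simp only [Category.assoc]
    _ = a ≫ (m2 ≫ m3) ≫ b' := congrArg (fun t => a ≫ t ≫ b') hm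
    _ = a ≫ m2 ≫ (m3 ≫ b') := by simp only [Category.assoc]
    _ = a ≫ m2 ≫ (b ≫ (S.rightDerived q).map (T.map f)) :=
        congrArg (fun t => a ≫ m2 ≫ t) n2.symm
    _ = _ := by simp only [Category.assoc]

/-- The comparison `Rᵠ(T ⋙ S) ⟶ T ⋙ RᵠS`. -/
def natTrans (q : ℕ) : (T ⋙ S).rightDerived q ⟶ T ⋙ S.rightDerived q where
  app X := app T S q X
  naturality _ _ f := app_naturality T S q f

variable [PreservesFiniteLimits S]
  (hT : ∀ Q : A, Injective Q → Leray.acyclic S (T.obj Q))

include hT in
lemma isIso_app (q : ℕ) (X : A) : IsIso (app T S q X) := by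
  have hq : QuasiIso ((S.mapHomologicalComplex (ComplexShape.up ℕ)).map
      (cmp T (injectiveResolution X) (injectiveResolution (T.obj X)))) :=
    quasiIso_map_of_acyclic S _ (fun n => hT _ ((injectiveResolution X).injective n))
      (fun n => Leray.acyclic_of_injective S _)
  have : IsIso ((HomologicalComplex.homologyFunctor D _ q).map
      ((S.mapHomologicalComplex (ComplexShape.up ℕ)).map
        (cmp T (injectiveResolution X) (injectiveResolution (T.obj X))))) := by
    have := hq.quasiIsoAt q
    exact (quasiIsoAt_iff_isIso_homologyMap _ q).1 this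
  dsimp only [app]
  infer_instance

/-- `Rᵠ(T ⋙ S) ≅ T ⋙ RᵠS` for `T` exact sending injectives to `S`-acyclic objects and `S`
left exact. -/
def rightDerivedCompIso (q : ℕ) : (T ⋙ S).rightDerived q ≅ T ⋙ S.rightDerived q :=
  haveI : ∀ X, IsIso ((natTrans T S q).app X) := fun X => isIso_app T S hT q X
  NatIso.ofComponents (fun X => asIso ((natTrans T S q).app X))
    (fun f => (natTrans T S q).naturality f)

end Main

end

end Groth.Agent.H31.AcycComp
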