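import Groth.Agent.H31.SectExact

namespace Groth.Agent.H31.ModAcyc

open CategoryTheory Abelian Limits Opposite
open Groth.Agent.H31.SieveExt Groth.Agent.H31.LocTriv Groth.Agent.H31.SectExact

universe u

variable {C : Type u} [SmallCategory C] {J : GrothendieckTopology C} (R : Sheaf J RingCat.{u})

/-- the composite adjunction (free sheaf of modules on a presheaf of sets). -/
noncomputable abbrev adjF : freeR R ⋙ shfR R ⊣ SheafOfModules.forget R ⋙
    (PresheafOfModules.toPresheaf R.obj ⋙
      (Functor.whiskeringRight Cᵒᵖ Ab (Type u)).obj (forget Ab)) :=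
  (PresheafOfModules.freeAdjunction R.obj).comp (adjR R)

/-- `Hom(ℤ[T]^#, M_ab) ≃ Hom(R[T]^#, M)`. -/
noncomputable def thetaR (T : Sheaf J (Type u)) (M : SheafOfModules.{u} R) :
    (Zs J T.obj ⟶ (SheafOfModules.toSheaf R).obj M) ≃ ((LR R).obj T ⟶ M) :=
  (homEquiv J T.obj ((SheafOfModules.toSheaf R).obj M)).trans
    ((adjF R).homEquiv T.obj M).symm

lemma thetaR_naturality_left {T' T : Sheaf J (Type u)} (τ : T' ⟶ T) (M : SheafOfModules.{u} R)
    (x : Zs J T.obj ⟶ (SheafOfModules.toSheaf R).obj M) :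
    thetaR R T' M (ZsMap τ ≫ x) = (LR R).map τ ≫ thetaR R T M x := by
  show ((adjF R).homEquiv T'.obj M).symm
    (homEquiv J T'.obj ((SheafOfModules.toSheaf R).obj M) (ZsMap τ ≫ x)) =
    (freeR R ⋙ shfR R).map τ.hom ≫ ((adjF R).homEquiv T.obj M).symm
      (homEquiv J T.obj ((SheafOfModules.toSheaf R).obj M) x)
  rw [homEquiv_naturality_left]
  exact (adjF R).homEquiv_naturality_left_symm τ.hom _

lemma thetaR_naturality_right (T : Sheaf J (Type u)) {M M' : SheafOfModules.{u} R} (g : M ⟶ M')
    (x : Zs J T.obj ⟶ (SheafOfModules.toSheaf R).obj M) :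
    thetaR R T M' (x ≫ (SheafOfModules.toSheaf R).map g) = thetaR R T M x ≫ g := by
  show ((adjF R).homEquiv T.obj M').symm
    (homEquiv J T.obj ((SheafOfModules.toSheaf R).obj M') (x ≫ (SheafOfModules.toSheaf R).map g)) =
    ((adjF R).homEquiv T.obj M).symm
      (homEquiv J T.obj ((SheafOfModules.toSheaf R).obj M) x) ≫ g
  rw [homEquiv_naturality]
  exact (adjF R).homEquiv_naturality_right_symm _ g

/-- the universal map. -/
noncomputable def cR (T : Sheaf J (Type u)) :
    Zs J T.obj ⟶ (SheafOfModules.toSheaf R).obj ((LR R).obj T) :=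
  (thetaR R T _).symm (𝟙 _)

lemma thetaR_symm_eq (T : Sheaf J (Type u)) (M : SheafOfModules.{u} R) (y : (LR R).obj T ⟶ M) :
    (thetaR R T M).symm y = cR R T ≫ (SheafOfModules.toSheaf R).map y := by
  apply (thetaR R T M).injective
  rw [Equiv.apply_symm_apply, thetaR_naturality_right, cR, Equiv.apply_symm_apply,
    Category.id_comp]

/-- additive version. -/
noncomputable def thetaRAdd (T : Sheaf J (Type u)) (M : SheafOfModules.{u} R) :
    (Zs J T.obj ⟶ (SheafOfModules.toSheaf R).obj M) ≃+ ((LR R).obj T ⟶ M) :=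
  { thetaR R T M with
    map_add' := fun x x' => by
      apply (thetaR R T M).symm.injective
      show (thetaR R T M).symm (thetaR R T M (x + x')) =
        (thetaR R T M).symm (thetaR R T M x + thetaR R T M x')
      rw [thetaR_symm_eq R T M (thetaR R T M x + thetaR R T M x'), Functor.map_add,
        Preadditive.comp_add, ← thetaR_symm_eq, ← thetaR_symm_eq]
      simp }

theorem totallyAcyclic_of_injective (M : SheafOfModules.{u} R) [Injective M] :
    CohCx.IsTotallyAcyclic ((SheafOfModules.toSheaf R).obj M) :=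
  AbsCartan.totallyAcyclic_of_adjoint (L := LR R) M ((SheafOfModules.toSheaf R).obj M)
    (fun T => thetaRAdd R T M) (fun τ x => thetaR_naturality_left R τ M x)
    (fun f _ q => exactAt_PL_LR f R q)

end Groth.Agent.H31.ModAcyc
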