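import Mathlib.CategoryTheory.Abelian.RightDerived
import Mathlib.Algebra.Homology.ShortComplex.ExactFunctor
import Mathlib.Algebra.Homology.QuasiIso

/-!
# `Rᵠ(F ⋙ G) ≅ RᵠF ⋙ G` for an exact functor `G`
-/

set_option autoImplicit false
universe v v' v'' u u' u''
open CategoryTheory Limits

namespace Groth.Agent.H31.PostDerived

variable {C : Type u} [Category.{v} C] [Abelian C] [HasInjectiveResolutions C]
  {D : Type u'} [Category.{v'} D] [Abelian D]
  {E : Type u''} [Category.{v''} E] [Abelian E]
  (F : C ⥤ D) [F.Additive]
  (G : D ⥤ E) [G.Additive] [PreservesFiniteLimits G] [PreservesFiniteColimits G]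

/-- homology commutes with exact functors. -/
noncomputable def homologyMapIso (K : CochainComplex D ℕ) (n : ℕ) :
    ((G.mapHomologicalComplex _).obj K).homology n ≅ G.obj (K.homology n) :=
  (K.sc n).mapHomologyIso G

lemma homologyMapIso_naturality {K L : CochainComplex D ℕ} (φ : K ⟶ L) (n : ℕ) :
    HomologicalComplex.homologyMap ((G.mapHomologicalComplex _).map φ) n ≫
        (homologyMapIso G L n).hom =
      (homologyMapIso G K n).hom ≫ G.map (HomologicalComplex.homologyMap φ n) :=
  ShortComplex.mapHomologyIso_hom_naturality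
    (φ := (HomologicalComplex.shortComplexFunctor D _ n).map φ) (F := G)

/-- The components of `rightDerivedPostIso`. -/
noncomputable def postIsoApp (q : ℕ) (X : C) :
    ((F ⋙ G).rightDerived q).obj X ≅ G.obj ((F.rightDerived q).obj X) :=
  (injectiveResolution X).isoRightDerivedObj (F ⋙ G) q ≪≫
    homologyMapIso G ((F.mapHomologicalComplex _).obj (injectiveResolution X).cocomplex) q ≪≫
    G.mapIso ((injectiveResolution X).isoRightDerivedObj F q).symm

lemma postIsoApp_naturality (q : ℕ) {X Y : C} (f : X ⟶ Y) :
    ((F ⋙ G).rightDerived q).map f ≫ (postIsoApp F G q Y).hom =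
      (postIsoApp F G q X).hom ≫ G.map ((F.rightDerived q).map f) := by
  let I := injectiveResolution X
  let J := injectiveResolution Y
  let φ := InjectiveResolution.desc f J I
  have w0 : I.ι.f 0 ≫ φ.f 0 = f ≫ J.ι.f 0 := InjectiveResolution.desc_commutes_zero f J I
  have n1 := InjectiveResolution.isoRightDerivedObj_hom_naturality f I J φ w0 (F ⋙ G) q
  have n2 := InjectiveResolution.isoRightDerivedObj_inv_naturality f I J φ w0 F q
  have n3 := homologyMapIso_naturality G ((F.mapHomologicalComplex _).map φ) q
  have e1 : (postIsoApp F G q Y).hom = (J.isoRightDerivedObj (F ⋙ G) q).hom ≫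
      (homologyMapIso G ((F.mapHomologicalComplex _).obj J.cocomplex) q).hom ≫
      G.map (J.isoRightDerivedObj F q).inv := rfl
  have e2 : (postIsoApp F G q X).hom = (I.isoRightDerivedObj (F ⋙ G) q).hom ≫
      (homologyMapIso G ((F.mapHomologicalComplex _).obj I.cocomplex) q).hom ≫
      G.map (I.isoRightDerivedObj F q).inv := rfl
  rw [e1, e2]
  calc ((F ⋙ G).rightDerived q).map f ≫ (J.isoRightDerivedObj (F ⋙ G) q).hom ≫
        (homologyMapIso G ((F.mapHomologicalComplex _).obj J.cocomplex) q).hom ≫
        G.map (J.isoRightDerivedObj F q).inv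
      = (((F ⋙ G).rightDerived q).map f ≫ (J.isoRightDerivedObj (F ⋙ G) q).hom) ≫
        (homologyMapIso G ((F.mapHomologicalComplex _).obj J.cocomplex) q).hom ≫
        G.map (J.isoRightDerivedObj F q).inv := (Category.assoc _ _ _).symm
    _ = ((I.isoRightDerivedObj (F ⋙ G) q).hom ≫
          HomologicalComplex.homologyMap
            ((G.mapHomologicalComplex _).map ((F.mapHomologicalComplex _).map φ)) q) ≫
        (homologyMapIso G ((F.mapHomologicalComplex _).obj J.cocomplex) q).hom ≫
        G.map (J.isoRightDerivedObj F q).inv := by rw [n1]; rfl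
    _ = (I.isoRightDerivedObj (F ⋙ G) q).hom ≫
        (HomologicalComplex.homologyMap
            ((G.mapHomologicalComplex _).map ((F.mapHomologicalComplex _).map φ)) q ≫
          (homologyMapIso G ((F.mapHomologicalComplex _).obj J.cocomplex) q).hom) ≫
        G.map (J.isoRightDerivedObj F q).inv := by simp only [Category.assoc]
    _ = (I.isoRightDerivedObj (F ⋙ G) q).hom ≫
        ((homologyMapIso G ((F.mapHomologicalComplex _).obj I.cocomplex) q).hom ≫
          G.map (HomologicalComplex.homologyMap ((F.mapHomologicalComplex _).map φ) q)) ≫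
        G.map (J.isoRightDerivedObj F q).inv :=
        congrArg (fun t => (I.isoRightDerivedObj (F ⋙ G) q).hom ≫ t ≫
          G.map (J.isoRightDerivedObj F q).inv) n3
    _ = (I.isoRightDerivedObj (F ⋙ G) q).hom ≫
        (homologyMapIso G ((F.mapHomologicalComplex _).obj I.cocomplex) q).hom ≫
          G.map (HomologicalComplex.homologyMap ((F.mapHomologicalComplex _).map φ) q ≫
            (J.isoRightDerivedObj F q).inv) := by
        simp only [Category.assoc, Functor.map_comp]
    _ = (I.isoRightDerivedObj (F ⋙ G) q).hom ≫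
        (homologyMapIso G ((F.mapHomologicalComplex _).obj I.cocomplex) q).hom ≫
          G.map ((I.isoRightDerivedObj F q).inv ≫ (F.rightDerived q).map f) :=
        congrArg (fun t => (I.isoRightDerivedObj (F ⋙ G) q).hom ≫
          (homologyMapIso G ((F.mapHomologicalComplex _).obj I.cocomplex) q).hom ≫ G.map t)
          n2.symm
    _ = _ := by simp only [Category.assoc, Functor.map_comp]

/-- `Rᵠ(F ⋙ G) ≅ RᵠF ⋙ G` for an exact functor `G`. -/
noncomputable def rightDerivedPostIso (q : ℕ) : (F ⋙ G).rightDerived q ≅ F.rightDerived q ⋙ G :=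
  NatIso.ofComponents (fun X => postIsoApp F G q X)
    (fun f => postIsoApp_naturality F G q f)

end Groth.Agent.H31.PostDerived
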