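import Groth.Agent.H31.PushHU
import Groth.Agent.H30.Adapted

namespace Groth.Agent.H31.PushRD

open CategoryTheory Abelian Limits Opposite
open Groth.Agent.H31.SieveExt Groth.Agent.H31.LocTriv Groth.Agent.H31.PushAdj

universe u

variable {C D : Type u} [SmallCategory C] [SmallCategory D]
  {J : GrothendieckTopology C} {K : GrothendieckTopology D} {u : D ⥤ C} [u.IsContinuous K J]

lemma totallyAcyclic_X₃ {S : ShortComplex (Sheaf J AddCommGrpCat.{u})} (hS : S.ShortExact)
    (h1 : CohCx.IsTotallyAcyclic S.X₁) [Injective S.X₂] : CohCx.IsTotallyAcyclic S.X₃ := by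
  intro T p
  exact (DimShift.subsingleton_ext_succ_iff hS _ p).1 (h1 T (p + 1))

lemma sectSurj_of_totallyAcyclic {S : ShortComplex (Sheaf J AddCommGrpCat.{u})} (hS : S.ShortExact)
    (h1 : CohCx.IsTotallyAcyclic S.X₁) : SectSurj J S.g :=
  sectSurj_of_ext_one hS (fun X => PushHU.acyclic_of_totallyAcyclic S.X₁ h1 (yoneda.obj X) 0)

open Groth.Agent.H30 in
/-- `R^p u_* F = 0` for `p > 0` and `F` totally acyclic. -/
theorem isZero_Rpush_of_totallyAcyclic (F : Sheaf J AddCommGrpCat.{u})
    (hF : CohCx.IsTotallyAcyclic F) (p : ℕ) :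
    IsZero ((CohSite.Rpush J K u (p + 1)).obj F) := by
  let _ : HasDerivedCategory.{u + 1} (Sheaf J AddCommGrpCat.{u}) := HasDerivedCategory.standard _
  let _ : HasDerivedCategory.{u + 1} (Sheaf K AddCommGrpCat.{u}) := HasDerivedCategory.standard _
  have := Adapted.acyclic_of_adapted (CohSite.push J K u)
    (fun G : Sheaf J AddCommGrpCat.{u} => CohCx.IsTotallyAcyclic G)
    (fun S hS h1 h2 => ⟨totallyAcyclic_X₃ hS h1,
      PushHU.epi_of_sectSurj (PushHU.sectSurj_push (sectSurj_of_totallyAcyclic hS h1))⟩) F hF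
  exact this (p + 1) (by omega)

end Groth.Agent.H31.PushRD
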