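import Groth.Prelude.Def_Coh
import Groth.Agent.H31.AcycComp
import Groth.Agent.H31.PostDerived
import Groth.Agent.H31.PushRD
import Groth.Agent.H31.ModAcyc
import Groth.Agent.H31.SheafOfModulesToSheaf
import Groth.Agent.H30.GrothSSExt

set_option autoImplicit false
universe u
open CategoryTheory CategoryTheory.Limits AlgebraicGeometry TopologicalSpace

namespace Groth.Agent.H31.RpushToAb

open Groth.Agent.H30

/-- the underlying abelian sheaf functor on `X.Modules`. -/
noncomputable def tAb (X : Scheme.{u}) :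
    X.Modules ⥤ Sheaf (Opens.grothendieckTopology X) AddCommGrpCat.{u} :=
  SheafOfModules.toSheaf.{u} X.ringCatSheaf

instance (X : Scheme.{u}) : (tAb X).Additive :=
  inferInstanceAs (SheafOfModules.toSheaf.{u} X.ringCatSheaf).Additive

instance (X : Scheme.{u}) : PreservesFiniteLimits (tAb X) :=
  haveI := toSheaf_preservesLimits X.ringCatSheaf
  (PreservesLimitsOfSize.preservesFiniteLimits.{u, u} (SheafOfModules.toSheaf.{u} X.ringCatSheaf))

instance (X : Scheme.{u}) : PreservesFiniteColimits (tAb X) :=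
  haveI := toSheaf_preservesColimits X.ringCatSheaf
  (PreservesColimitsOfSize.preservesFiniteColimits.{u, u} (SheafOfModules.toSheaf.{u} X.ringCatSheaf))

/-- the underlying abelian sheaf of `f_* M` is `f_*` of the underlying abelian sheaf, as functors. -/
noncomputable def baseIso {X Y : Scheme.{u}} (f : X ⟶ Y) :
    Coh.push f ⋙ tAb Y ≅ tAb X ⋙ Coh.pushAb f :=
  NatIso.ofComponents (fun M => Iso.refl _) (by intros; rfl)

instance {X Y : Scheme.{u}} (f : X ⟶ Y) : PreservesFiniteLimits (Coh.pushAb f) :=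
  haveI : PreservesLimitsOfSize.{0, 0} (Coh.pushAb f) :=
    (TopCat.Sheaf.pullbackPushforwardAdjunction AddCommGrpCat.{u} f.base).rightAdjoint_preservesLimits
  PreservesLimitsOfSize.preservesFiniteLimits.{0, 0} _

theorem nonempty_iso {X Y : Scheme.{u}} (f : X ⟶ Y)
    [HasInjectiveResolutions X.Modules] (M : X.Modules) (n : ℕ) :
    Nonempty (Coh.toAb ((Coh.Rpush f n).obj M) ≅ (Coh.RpushAb f n).obj (Coh.toAb M)) := by
  have e1 := PostDerived.rightDerivedPostIso (Coh.push f) (tAb Y) n
  have e2 := GrothSSExt.rightDerivedIsoOfIso (baseIso f) n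
  have e3 := AcycComp.rightDerivedCompIso (tAb X) (Coh.pushAb f)
    (fun Q hQ i hi => by
      obtain ⟨j, rfl⟩ : ∃ j, i = j + 1 := ⟨i - 1, by omega⟩
      have hQ' : @Injective (SheafOfModules.{u} X.ringCatSheaf) _ Q := hQ
      have hac : CohCx.IsTotallyAcyclic ((SheafOfModules.toSheaf X.ringCatSheaf).obj Q) :=
        @ModAcyc.totallyAcyclic_of_injective _ _ _ X.ringCatSheaf Q hQ'
      exact PushRD.isZero_Rpush_of_totallyAcyclic (J := Opens.grothendieckTopology X)
        (K := Opens.grothendieckTopology Y) (u := Opens.map f.base) _ hac j) n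
  exact ⟨(e1.symm ≪≫ e2 ≪≫ e3).app M⟩

end Groth.Agent.H31.RpushToAb
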