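import Groth.Agent.H31.ExtZeroP

/-!
# `ModSite.extZero` is the sheafification of the explicit `extP`; exactness of extension by zero
-/

open CategoryTheory Limits Opposite DirectSum
open scoped Classical
universe u

namespace Groth.Agent.H31.ExtZero

variable {C : Type u} [SmallCategory C] (R : Cᵒᵖ ⥤ RingCat.{u}) (U : C)

/-- `resP` agrees with Mathlib's pushforward along the identity ring map. -/
noncomputable def resPIso : resP R U ≅
    PresheafOfModules.pushforward.{u} (F := Over.forget U) (𝟙 (ringOver R U)) :=
  Iso.refl _

/-- The explicit `extP` is Mathlib's abstract pullback. -/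
noncomputable def extPIsoPullback : extP R U ≅
    PresheafOfModules.pullback.{u} (F := Over.forget U) (𝟙 (ringOver R U)) :=
  ((adjP R U).ofNatIsoRight (resPIso R U)).leftAdjointUniq
    (PresheafOfModules.pullbackPushforwardAdjunction.{u} (F := Over.forget U) (𝟙 (ringOver R U)))


variable {R U} in
lemma mono_extMap {P Q : PresheafOfModules.{u} (ringOver R U)} (α : P ⟶ Q) [Mono α] :
    Mono ((extP R U).map α) := by
  apply PresheafOfModules.mono_of_injective
  intro W
  show Function.Injective (DirectSum.lmap (fun φ : W.unop ⟶ U => compₗ α W.unop φ))
  rw [DirectSum.lmap_injective]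
  intro φ
  exact PresheafOfModules.injective_of_mono α (op (Over.mk φ))

instance : (extP R U).PreservesMonomorphisms where
  preserves α _ := mono_extMap α

section Sheaf
variable {J : GrothendieckTopology C} (O : Sheaf J CommRingCat.{u})

/-- The sheaf-level explicit model of extension by zero. -/
noncomputable def extS : ModSite.Mod (O.over U) ⥤ ModSite.Mod O :=
  SheafOfModules.forget (ModSite.ringSh (O.over U)) ⋙ extP (ModSite.ringSh O).obj U ⋙
    ModSite.sheafify O

/-- `ModSite.extZero` is the sheafification of the explicit presheaf-level extension by zero. -/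
noncomputable def extZeroIso : ModSite.extZero O U ≅ extS U O :=
  SheafOfModules.pullbackIso.{u} (𝟙 ((ModSite.ringSh O).over U)) ≪≫
    Functor.isoWhiskerLeft _ (Functor.isoWhiskerRight (extPIsoPullback (ModSite.ringSh O).obj U).symm _)


instance : (extS U O).PreservesMonomorphisms := by
  have h1 : (SheafOfModules.forget (ModSite.ringSh (O.over U))).PreservesMonomorphisms :=
    Functor.preservesMonomorphisms_of_adjunction
      (PresheafOfModules.sheafificationAdjunction (𝟙 (ModSite.ringSh (O.over U)).obj))
  have h2 : PreservesFiniteLimits (ModSite.sheafify O) :=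
    inferInstanceAs (PreservesFiniteLimits
      (PresheafOfModules.sheafification (𝟙 (ModSite.ringSh O).obj)))
  have h3 : (ModSite.sheafify O).PreservesMonomorphisms := inferInstance
  have h0 : (extP (ModSite.ringSh O).obj U).PreservesMonomorphisms := inferInstance
  have h4 : (extP (ModSite.ringSh O).obj U ⋙ ModSite.sheafify O).PreservesMonomorphisms :=
    @Functor.preservesMonomorphisms_comp _ _ _ _ _ _ _ _ h0 h3
  exact @Functor.preservesMonomorphisms_comp _ _ _ _ _ _ _ _ h1 h4

instance preservesMonomorphisms_extZero : (ModSite.extZero O U).PreservesMonomorphisms :=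
  Functor.PreservesMonomorphisms.of_iso (extZeroIso U O).symm


instance additive_restr : (ModSite.restr O U).Additive where

instance additive_extZero : (ModSite.extZero O U).Additive :=
  (ModSite.extZeroAdj O U).left_adjoint_additive

/-- Extension by zero is exact. -/
theorem preservesFiniteLimits_extZero : PreservesFiniteLimits (ModSite.extZero O U) := by
  have hc : PreservesFiniteColimits (ModSite.extZero O U) := by
    have : PreservesColimitsOfSize.{0, 0} (ModSite.extZero O U) :=
      (ModSite.extZeroAdj O U).leftAdjoint_preservesColimits
    exact PreservesColimitsOfSize.preservesFiniteColimits _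
  rw [Functor.preservesFiniteLimits_iff_forall_exact_map_and_mono]
  intro S hS
  have := hS.mono_f
  exact ⟨((Functor.preservesFiniteColimits_iff_forall_exact_map_and_epi _).1 hc S hS).1,
    inferInstance⟩

end Sheaf

end Groth.Agent.H31.ExtZero
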