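import Groth.Agent.H31.PushHU

namespace Groth.Agent.H31.MonoRestr

open CategoryTheory Abelian Limits Opposite
open Groth.Agent.H31.SieveExt Groth.Agent.H31.LocTriv

universe u

lemma mono_free_map {α β : Type u} (f : α ⟶ β) (hf : Function.Injective f) :
    Mono (AddCommGrpCat.free.{u}.map f) := by
  classical
  by_cases hα : Nonempty α
  · let r : β ⟶ α := ↾(Function.invFun (f : α → β))
    have hr : f ≫ r = 𝟙 α := by
      ext x
      exact Function.leftInverse_invFun hf x
    have : IsSplitMono (AddCommGrpCat.free.{u}.map f) :=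
      ⟨⟨AddCommGrpCat.free.{u}.map r, by
        rw [← CategoryTheory.Functor.map_comp, hr, CategoryTheory.Functor.map_id]⟩⟩
    infer_instance
  · rw [AddCommGrpCat.mono_iff_injective]
    have : IsEmpty α := not_nonempty_iff.1 hα
    intro x y _
    exact Subsingleton.elim (α := FreeAbelianGroup α) x y

variable {C : Type u} [SmallCategory C] {J : GrothendieckTopology C}

lemma injective_app_of_mono {Y X : Sheaf J (Type u)} (ι : Y ⟶ X) [Mono ι] (U : Cᵒᵖ) :
    Function.Injective (ι.hom.app U) := by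
  have h1 : Mono ι.hom := (inferInstance : Mono ((sheafToPresheaf J (Type u)).map ι))
  have h2 : Mono (ι.hom.app U) := inferInstance
  exact (mono_iff_injective _).1 h2

instance mono_ZsMap {Y X : Sheaf J (Type u)} (ι : Y ⟶ X) [Mono ι] : Mono (ZsMap ι) := by
  have : Mono (Functor.whiskerRight ι.hom AddCommGrpCat.free.{u}) := by
    have : ∀ U, Mono ((Functor.whiskerRight ι.hom AddCommGrpCat.free.{u}).app U) := fun U =>
      mono_free_map _ (injective_app_of_mono ι U)
    exact NatTrans.mono_of_mono_app _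
  exact (inferInstance : Mono ((presheafToSheaf J AddCommGrpCat.{u}).map
    (Functor.whiskerRight ι.hom AddCommGrpCat.free.{u})))

lemma ZsMap_comp {K'' K' K : Sheaf J (Type u)} (f : K'' ⟶ K') (g : K' ⟶ K) :
    ZsMap (f ≫ g) = ZsMap f ≫ ZsMap g :=
  (Sheaf.composeAndSheafify J AddCommGrpCat.free.{u}).map_comp f g

theorem restr_surjective_aux {S : ShortComplex (Sheaf J AddCommGrpCat.{u})} (hS : S.ShortExact)
    [Injective S.X₂] (hF : ∀ P : Sheaf J (Type u), Subsingleton (Ext (Zs J P.obj) S.X₁ 1))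
    {Y X : Sheaf J (Type u)} (ι : Y ⟶ X) [Mono ι] (s : Zs J Y.obj ⟶ S.X₁) :
    ∃ r : Zs J X.obj ⟶ S.X₁, ZsMap ι ≫ r = s := by
  have hmf : Mono S.f := hS.mono_f
  let s₂ : Zs J Y.obj ⟶ S.X₂ := s ≫ S.f
  let t : Zs J X.obj ⟶ S.X₂ := Injective.factorThru s₂ (ZsMap ι)
  have ht : ZsMap ι ≫ t = s₂ := Injective.comp_factorThru _ _
  let tb : Zs J X.obj ⟶ S.X₃ := t ≫ S.g
  have htb : ZsMap ι ≫ tb = 0 := by
    rw [← Category.assoc, ht, Category.assoc, S.zero, comp_zero]
  let T1 : Sheaf J (Type u) := ⊤_ _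
  let P := pushout ι (terminal.from Y)
  let inl : X ⟶ P := pushout.inl _ _
  let inr : T1 ⟶ P := pushout.inr _ _
  have hcond : ι ≫ inl = terminal.from Y ≫ inr := pushout.condition
  let a : X ⟶ setOf S.X₃ := homEquivS X _ tb
  let z : T1 ⟶ setOf S.X₃ := homEquivS T1 _ 0
  have haz : ι ≫ a = terminal.from Y ≫ z := by
    rw [← homEquivS_naturality_left, ← homEquivS_naturality_left, htb, comp_zero]
  let d : P ⟶ setOf S.X₃ := pushout.desc a z haz
  let δ : Zs J P.obj ⟶ S.X₃ := (homEquivS P _).symm d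
  have hδl : ZsMap inl ≫ δ = tb := by
    apply (homEquivS X _).injective
    rw [homEquivS_naturality_left, Equiv.apply_symm_apply, pushout.inl_desc]
  have hδr : ZsMap inr ≫ δ = 0 := by
    apply (homEquivS T1 _).injective
    rw [homEquivS_naturality_left, Equiv.apply_symm_apply, pushout.inr_desc]
  have : Subsingleton (Ext (Zs J P.obj) S.X₁ 1) := hF P
  obtain ⟨δt, hδt⟩ := DimShift.exists_lift_of_subsingleton_ext_one hS (Zs J P.obj) δ
  let b : Zs J T1.obj ⟶ S.X₂ := ZsMap inr ≫ δt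
  have hb : b ≫ S.g = 0 := by rw [Category.assoc, hδt, hδr]
  let t' : Zs J X.obj ⟶ S.X₂ := ZsMap inl ≫ δt - ZsMap (terminal.from X) ≫ b
  have ht'g : t' ≫ S.g = tb := by
    rw [Preadditive.sub_comp, Category.assoc, hδt, hδl, Category.assoc, hb, comp_zero, sub_zero]
  have ht'ι : ZsMap ι ≫ t' = 0 := by
    have h1 : ZsMap ι ≫ ZsMap inl ≫ δt = ZsMap (terminal.from Y) ≫ b := by
      rw [← Category.assoc, ← ZsMap_comp, hcond, ZsMap_comp, Category.assoc]
    have h2 : ZsMap ι ≫ ZsMap (terminal.from X) ≫ b = ZsMap (terminal.from Y) ≫ b := by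
      rw [← Category.assoc, ← ZsMap_comp, terminal.comp_from]
    rw [Preadditive.comp_sub, h1, h2, sub_self]
  have h8 : (t - t') ≫ S.g = 0 := by rw [Preadditive.sub_comp, ht'g, sub_self]
  let r : Zs J X.obj ⟶ S.X₁ := hS.exact.lift (t - t') h8
  have hr : r ≫ S.f = t - t' := hS.exact.lift_f _ _
  refine ⟨r, ?_⟩
  rw [← cancel_mono S.f, Category.assoc, hr, Preadditive.comp_sub, ht, ht'ι, sub_zero]

theorem restr_surjective (F : Sheaf J AddCommGrpCat.{u}) (hF : CohCx.IsTotallyAcyclic F)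
    {Y X : Sheaf J (Type u)} (ι : Y ⟶ X) [Mono ι] (s : Zs J Y.obj ⟶ F) :
    ∃ r : Zs J X.obj ⟶ F, ZsMap ι ≫ r = s :=
  restr_surjective_aux (ses_shortExact J F) (fun P => hF P 0) ι s

end Groth.Agent.H31.MonoRestr
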