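import Groth.Agent.H30.ExtDerived

namespace Groth.Agent.H31.DeltaComp

open CategoryTheory Abelian Limits Opposite
open Groth.Agent.H30.ExtShift

universe w w' v v' u u'

variable {𝒜 : Type u} [Category.{v} 𝒜] [Abelian 𝒜] [HasExt.{w} 𝒜] [EnoughInjectives 𝒜]
  {ℬ : Type u'} [Category.{v'} ℬ] [Abelian ℬ] [HasExt.{w} ℬ]
  (E : 𝒜 ⥤ ℬ) [E.Additive] [PreservesFiniteLimits E] [PreservesFiniteColimits E]
  (X : 𝒜) (Y : ℬ)
  (φ : ∀ M : 𝒜, (X ⟶ M) ≃+ (Y ⟶ E.obj M))
  (hφ : ∀ {M M' : 𝒜} (g : M ⟶ M') (x : X ⟶ M), φ M' (x ≫ g) = φ M x ≫ E.map g)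
  (hI : ∀ (I : 𝒜), Injective I → ∀ n : ℕ, Subsingleton (Ext Y (E.obj I) (n + 1)))

/-- degree zero comparison. -/
noncomputable def iso0 (M : 𝒜) :
    AddCommGrpCat.of (Ext X M 0) ≅ AddCommGrpCat.of (Ext Y (E.obj M) 0) :=
  ((Ext.addEquiv₀ (X := X) (Y := M)).trans ((φ M).trans
    (Ext.addEquiv₀ (X := Y) (Y := E.obj M)).symm)).toAddCommGrpIso

include hφ in
lemma iso0_naturality {M M' : 𝒜} (g : M ⟶ M') :
    AddCommGrpCat.ofHom ((Ext.mk₀ g).postcomp X (add_zero 0)) ≫ (iso0 E X Y φ M').hom =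
      (iso0 E X Y φ M).hom ≫ AddCommGrpCat.ofHom ((Ext.mk₀ (E.map g)).postcomp Y (add_zero 0)) := by
  ext x
  obtain ⟨ψ, rfl⟩ := (Ext.mk₀_bijective X M).2 x
  change (Ext.addEquiv₀ (X := Y) (Y := E.obj M')).symm (φ M' (Ext.addEquiv₀
      ((Ext.mk₀ ψ).comp (Ext.mk₀ g) (add_zero 0)))) =
    ((Ext.addEquiv₀ (X := Y) (Y := E.obj M)).symm (φ M (Ext.addEquiv₀ (Ext.mk₀ ψ)))).comp
      (Ext.mk₀ (E.map g)) (add_zero 0)
  rw [Ext.mk₀_comp_mk₀, ← Ext.addEquiv₀_symm_apply, ← Ext.addEquiv₀_symm_apply,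
    AddEquiv.apply_symm_apply, AddEquiv.apply_symm_apply, hφ, Ext.addEquiv₀_symm_apply,
    Ext.addEquiv₀_symm_apply, Ext.mk₀_comp_mk₀]

include hφ hI in
theorem nonempty_iso (n : ℕ) : ∀ M : 𝒜,
    Nonempty (AddCommGrpCat.of (Ext X M n) ≅ AddCommGrpCat.of (Ext Y (E.obj M) n)) := by
  induction n with
  | zero => exact fun M => ⟨iso0 E X Y φ M⟩
  | succ n ih =>
    intro M
    have hS := underSC_shortExact M
    have hS' : ((underSC M).map E).ShortExact := hS.map_of_exact E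
    have ex3 := Ext.covariant_sequence_exact₃' X hS n (n + 1) rfl
    have ex1 := Ext.covariant_sequence_exact₁' X hS n (n + 1) rfl
    have ex3' := Ext.covariant_sequence_exact₃' Y hS' n (n + 1) rfl
    have ex1' := Ext.covariant_sequence_exact₁' Y hS' n (n + 1) rfl
    have z1 : IsZero (AddCommGrpCat.of (Ext X (underSC M).X₂ (n + 1))) := by
      have : Subsingleton (Ext X (underSC M).X₂ (n + 1)) :=
        subsingleton_of_forall_eq 0 (fun x => Ext.eq_zero_of_injective x)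
      exact AddCommGrpCat.isZero_of_subsingleton _
    have z1' : IsZero (AddCommGrpCat.of (Ext Y ((underSC M).map E).X₂ (n + 1))) := by
      have : Subsingleton (Ext Y ((underSC M).map E).X₂ (n + 1)) :=
        hI (underSC M).X₂ inferInstance n
      exact AddCommGrpCat.isZero_of_subsingleton _
    have e1 := ex1.epi_f (z1.eq_of_tgt _ _)
    have e1' := ex1'.epi_f (z1'.eq_of_tgt _ _)
    rcases n with _ | m
    · exact Groth.Agent.H30.ExtDerived.nonempty_iso_of_exact _ _ _ _ _ _ ex3 ex3' e1 e1'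
        (iso0 E X Y φ (underSC M).X₂) (iso0 E X Y φ (underSC M).X₃)
        (iso0_naturality E X Y φ hφ (underSC M).g)
    · obtain ⟨β⟩ := ih (underSC M).X₃
      have z0 : IsZero (AddCommGrpCat.of (Ext X (underSC M).X₂ (m + 1))) := by
        have : Subsingleton (Ext X (underSC M).X₂ (m + 1)) :=
          subsingleton_of_forall_eq 0 (fun x => Ext.eq_zero_of_injective x)
        exact AddCommGrpCat.isZero_of_subsingleton _
      have z0' : IsZero (AddCommGrpCat.of (Ext Y ((underSC M).map E).X₂ (m + 1))) := by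
        have : Subsingleton (Ext Y ((underSC M).map E).X₂ (m + 1)) :=
          hI (underSC M).X₂ inferInstance m
        exact AddCommGrpCat.isZero_of_subsingleton _
      exact Groth.Agent.H30.ExtDerived.nonempty_iso_of_exact _ _ _ _ _ _ ex3 ex3' e1 e1'
        (z0.iso z0') β (z0.eq_of_src _ _)

include hφ hI in
theorem nonempty_addEquiv (n : ℕ) (M : 𝒜) : Nonempty (Ext X M n ≃+ Ext Y (E.obj M) n) := by
  obtain ⟨e⟩ := nonempty_iso E X Y φ hφ hI n M
  exact ⟨e.addCommGroupIsoToAddEquiv⟩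

end Groth.Agent.H31.DeltaComp
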