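import Groth.Agent.H31.ModAcyc
import Groth.Agent.H31.DeltaComp
import Groth.Agent.H33.SheafMod.Grothendieck
import Groth.Agent.H31.SheafOfModulesToSheaf

namespace Groth.Agent.H31.ModExt

open CategoryTheory Abelian Limits Opposite
open Groth.Agent.H31.SieveExt Groth.Agent.H31.LocTriv Groth.Agent.H31.SectExact
  Groth.Agent.H31.ModAcyc

universe u

variable {C : Type u} [SmallCategory C] {J : GrothendieckTopology C} (R : Sheaf J RingCat.{u})

lemma enoughInjectives : EnoughInjectives (SheafOfModules.{u} R) := by
  have := Groth.Agent.H33.SheafMod.isGrothendieckAbelian J R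
  infer_instance

/-- `Ext_R^p(R[K]^#, M) ≃+ Ext_ℤ^p(ℤ[K]^#, M_ab)`. -/
theorem nonempty_ext_addEquiv [HasExt.{u} (SheafOfModules.{u} R)] (K : Sheaf J (Type u))
    (M : SheafOfModules.{u} R) (p : ℕ) :
    Nonempty (Ext ((LR R).obj K) M p ≃+ Ext (Zs J K.obj) ((SheafOfModules.toSheaf R).obj M) p) := by
  have := enoughInjectives R
  have : PreservesFiniteColimits (SheafOfModules.toSheaf.{u} R) :=
    (Groth.Agent.H31.toSheaf_preservesColimits R).preservesFiniteColimits
  exact DeltaComp.nonempty_addEquiv (SheafOfModules.toSheaf R) ((LR R).obj K) (Zs J K.obj)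
    (fun M => (thetaRAdd R K M).symm)
    (fun {M M'} g x => by
      apply (thetaRAdd R K M').injective
      rw [AddEquiv.apply_symm_apply]
      exact ((thetaR_naturality_right R K g ((thetaRAdd R K M).symm x)).trans
        (congrArg (· ≫ g) ((thetaRAdd R K M).apply_symm_apply x))).symm)
    (fun I hI n => totallyAcyclic_of_injective R I K n) p M

end Groth.Agent.H31.ModExt
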