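import Groth.Agent.H31.PushAcyc

namespace Groth.Agent.H31.PushHU

open CategoryTheory Abelian Limits Opposite
open Groth.Agent.H31.SieveExt Groth.Agent.H31.LocTriv Groth.Agent.H31.PushAdj

universe w v u

section general

variable {A : Type u} [Category.{v} A] [Abelian A] [HasExt.{w} A]
variable {S : ShortComplex A} (hS : S.ShortExact)

include hS in
lemma subsingleton_ext_one_of_exists_lift' (X : A) [Subsingleton (Ext X S.X₂ 1)]
    (h : ∀ φ : X ⟶ S.X₃, ∃ ψ : X ⟶ S.X₂, ψ ≫ S.g = φ) : Subsingleton (Ext X S.X₁ 1) := by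
  refine subsingleton_of_forall_eq 0 fun x₁ => ?_
  obtain ⟨x₃, hx₃⟩ := Ext.covariant_sequence_exact₁ X hS x₁ (Subsingleton.elim _ _)
    (n₀ := 0) rfl
  obtain ⟨φ, rfl⟩ := (Ext.mk₀_bijective X S.X₃).surjective x₃
  obtain ⟨ψ, rfl⟩ := h φ
  rw [← hx₃, ← Ext.mk₀_comp_mk₀, Ext.comp_assoc_of_second_deg_zero, hS.comp_extClass,
    Ext.comp_zero]

include hS in
lemma subsingleton_ext_succ_of (X : A) (q : ℕ) [Subsingleton (Ext X S.X₂ (q + 2))]
    (h : Subsingleton (Ext X S.X₃ (q + 1))) : Subsingleton (Ext X S.X₁ (q + 2)) := by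
  refine subsingleton_of_forall_eq 0 fun x₁ => ?_
  obtain ⟨x₃, hx₃⟩ := Ext.covariant_sequence_exact₁ X hS x₁ (Subsingleton.elim _ _)
    (n₀ := q + 1) rfl
  rw [← hx₃, Subsingleton.elim x₃ 0, Ext.zero_comp]

end general

section sheafify

variable {D : Type u} [SmallCategory D] (K : GrothendieckTopology D)

lemma W_free_toSheafify (P : Dᵒᵖ ⥤ Type u) : K.W (CechRes.Wfree.map (toSheafify K P)) := by
  intro Z hZ
  refine ((Adjunction.whiskerRight Dᵒᵖ AddCommGrpCat.adj.{u}).map_comp_bijective_iff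
    (toSheafify K P) Z).2 ?_
  exact K.W_toSheafify P _ ((Presheaf.isSheaf_iff_isSheaf_forget K Z (forget _)).1 hZ)

/-- `ℤ[P]^# ≅ ℤ[P^#]^#`. -/
noncomputable def ZsSheafifyIso (P : Dᵒᵖ ⥤ Type u) :
    Zs K P ≅ Zs K ((presheafToSheaf K (Type u)).obj P).obj :=
  have : IsIso ((presheafToSheaf K AddCommGrpCat.{u}).map (CechRes.Wfree.map (toSheafify K P))) :=
    (K.W_iff _).1 (W_free_toSheafify K P)
  asIso ((presheafToSheaf K AddCommGrpCat.{u}).map (CechRes.Wfree.map (toSheafify K P)))

variable {K}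

lemma acyclic_of_totallyAcyclic (G : Sheaf K AddCommGrpCat.{u}) (hG : CohCx.IsTotallyAcyclic G)
    (P : Dᵒᵖ ⥤ Type u) (q : ℕ) : Subsingleton (Ext (Zs K P) G (q + 1)) :=
  ResShift.Acyc.of_iso (ZsSheafifyIso K P).symm (fun j => hG _ j) q

lemma totallyAcyclic_of_injective (I : Sheaf K AddCommGrpCat.{u}) [Injective I] :
    CohCx.IsTotallyAcyclic I := by
  intro T p
  exact subsingleton_of_forall_eq 0 fun x => Ext.eq_zero_of_injective x

end sheafify

section push

variable {C D : Type u} [SmallCategory C] [SmallCategory D]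
  {J : GrothendieckTopology C} {K : GrothendieckTopology D} {u : D ⥤ C} [u.IsContinuous K J]

lemma sectSurj_push {G G' : Sheaf J AddCommGrpCat.{u}} {g : G ⟶ G'} (h : SectSurj J g) :
    SectSurj K ((CohSite.push J K u).map g) := fun V => h (u.obj V)

lemma epi_of_sectSurj {G G' : Sheaf K AddCommGrpCat.{u}} {g : G ⟶ G'} (h : SectSurj K g) :
    Epi g := by
  have : Presheaf.IsLocallySurjective K g.hom :=
    Presheaf.isLocallySurjective_of_surjective _ _ (fun U => h U.unop)
  exact (Sheaf.isLocallySurjective_iff_epi' _ g).1 this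

lemma shortExact_push {S : ShortComplex (Sheaf J AddCommGrpCat.{u})} (hS : S.ShortExact)
    (h : SectSurj J S.g) : (S.map (CohSite.push J K u)).ShortExact := by
  have := hS.mono_f
  exact
    { exact := hS.exact.map_of_mono_of_preservesKernel (CohSite.push J K u) inferInstance
        inferInstance
      mono_f := (inferInstance : Mono ((CohSite.push J K u).map S.f))
      epi_g := epi_of_sectSurj (sectSurj_push h) }

theorem push_acyclic [PreservesFiniteLimits (Gam J K u)] (q : ℕ) :
    ∀ (F : Sheaf J AddCommGrpCat.{u}),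
    (∀ (X : C) (q' : ℕ), Subsingleton (Ext (ZX J X) F (q' + 1))) →
    ∀ (V : D), Subsingleton (Ext (ZX K V) ((CohSite.push J K u).obj F) (q + 1)) := by
  induction q with
  | zero =>
    intro F h V
    have hS := ses_shortExact J F
    have hss : SectSurj J (ses J F).g := sectSurj_of_ext_one hS (fun X => h X 0)
    have hpS := shortExact_push (K := K) (u := u) hS hss
    have hI : CohCx.IsTotallyAcyclic ((CohSite.push J K u).obj (ses J F).X₂) :=
      PushAcyc.isTotallyAcyclic_push _ (totallyAcyclic_of_injective _)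
    have : Subsingleton (Ext (ZX K V) ((ses J F).map (CohSite.push J K u)).X₂ 1) :=
      acyclic_of_totallyAcyclic _ hI _ 0
    refine subsingleton_ext_one_of_exists_lift' hpS (ZX K V) (fun φ => ?_)
    obtain ⟨t', ht'⟩ := (sectSurj_push (K := K) (u := u) hss).yoneda_lift (homEquiv K _ _ φ)
    refine ⟨(homEquiv K _ _).symm t', (homEquiv K _ _).injective ?_⟩
    erw [homEquiv_naturality]
    rw [Equiv.apply_symm_apply]
    exact ht'
  | succ q ih =>
    intro F h V
    have hS := ses_shortExact J F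
    have hss : SectSurj J (ses J F).g := sectSurj_of_ext_one hS (fun X => h X 0)
    have hpS := shortExact_push (K := K) (u := u) hS hss
    have hI : CohCx.IsTotallyAcyclic ((CohSite.push J K u).obj (ses J F).X₂) :=
      PushAcyc.isTotallyAcyclic_push _ (totallyAcyclic_of_injective _)
    have : Subsingleton (Ext (ZX K V) ((ses J F).map (CohSite.push J K u)).X₂ (q + 2)) :=
      acyclic_of_totallyAcyclic _ hI _ (q + 1)
    have hQ : ∀ (X : C) (q' : ℕ), Subsingleton (Ext (ZX J X) (ses J F).X₃ (q' + 1)) :=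
      fun X q' => (DimShift.subsingleton_ext_succ_iff hS _ q').1 (h X (q' + 1))
    exact subsingleton_ext_succ_of hpS (ZX K V) q (ih _ hQ V)

end push

end Groth.Agent.H31.PushHU
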