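import Groth.Agent.H31.QuotOnRestr

namespace Groth.Agent.H31.QuotOnRestr

open CategoryTheory Abelian Limits Opposite
open Groth.Agent.H30 Groth.Agent.H45 Groth.Agent.H31.ExtZero Groth.Agent.H31.QuotOnTensor

universe u

variable {C : Type u} [SmallCategory C] {J : GrothendieckTopology C}
  (O : Sheaf J CommRingCat.{u})

/-- `M/M_U` is null on `U`, without any hypothesis on the site. -/
theorem isNullOn_quotOn' (U : C) (M : ModSite.Mod O) :
    ModSite.IsNullOn O U ((ModSite.quotOn O U).obj M) := by
  let adj := ModSite.extZeroAdj O U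
  have hsplit : adj.unit.app ((ModSite.restr O U).obj M) ≫
      (ModSite.restr O U).map (adj.counit.app M) = 𝟙 _ := adj.right_triangle_components M
  have : Epi ((ModSite.restr O U).map (adj.counit.app M)) := by
    have : IsSplitEpi ((ModSite.restr O U).map (adj.counit.app M)) := ⟨⟨⟨_, hsplit⟩⟩⟩
    infer_instance
  have := RestrExact.preservesFiniteColimits_restr O U
  exact (isZero_cokernel_of_epi ((ModSite.restr O U).map (adj.counit.app M))).of_iso
    (PreservesCokernel.iso (ModSite.restr O U) (adj.counit.app M))

variable [HasBinaryProducts C] (U X : C)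

/-- `thetaApp` without the direct image hypothesis on `C/X`. -/
noncomputable def thetaApp' (G : ModSite.Mod (O.over X)) :
    (ModSite.extZero O X).obj
        ((ModSite.quotOn (O.over X) (Over.mk (prod.snd : U ⨯ X ⟶ X))).obj G) ≅
      (ModSite.quotOn O U).obj ((ModSite.extZero O X).obj G) :=
  PreservesCokernel.iso (ModSite.extZero O X)
      ((ModSite.extZeroAdj (O.over X) (Over.mk (prod.snd : U ⨯ X ⟶ X))).counit.app G) ≪≫
    cokernelIso ((ModSite.extZero O X).map
        ((ModSite.extZeroAdj (O.over X) (Over.mk (prod.snd : U ⨯ X ⟶ X))).counit.app G))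
      (genOver_extZero_extZero O U X _)
      ((isNullOn_extZero O U X _ (isNullOn_quotOn' (O.over X) _ G)).of_iso
        ((ModSite.restr O U).mapIso (PreservesCokernel.iso (ModSite.extZero O X)
          ((ModSite.extZeroAdj (O.over X)
            (Over.mk (prod.snd : U ⨯ X ⟶ X))).counit.app G)).symm))

end Groth.Agent.H31.QuotOnRestr
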