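import Groth.Agent.H31.QuotOnExact
import Groth.Agent.H31.QuotOnRestr2
import Groth.Prelude.Def_DCoh2

/-!
# `Γ_Z` preserves injective `O_X`-modules on a scheme
-/

set_option autoImplicit false
open CategoryTheory Limits Opposite AlgebraicGeometry
universe u

namespace Groth.Agent.H31.GammaZInj

variable {U X : Scheme.{u}} (j : U ⟶ X) [IsOpenImmersion j]

/-- `ψ ≫ η_N = 0` iff `j^* ψ = 0`. -/
lemma comp_unit_eq_zero_iff {F N : X.Modules} (ψ : F ⟶ N) :
    ψ ≫ (Scheme.Modules.restrictAdjunction j).unit.app N = 0 ↔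
      (Scheme.Modules.restrictFunctor j).map ψ = 0 := by
  let adj := Scheme.Modules.restrictAdjunction j
  have key : (adj.homEquiv _ _).symm (ψ ≫ adj.unit.app N) =
      (Scheme.Modules.restrictFunctor j).map ψ := by
    rw [adj.homEquiv_counit, Functor.map_comp, Category.assoc, adj.left_triangle_components,
      Category.comp_id]
  have key0 : (adj.homEquiv F ((Scheme.Modules.restrictFunctor j).obj N)).symm 0 = 0 := by
    rw [adj.homEquiv_counit, Functor.map_zero, zero_comp]
  constructor
  · intro h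
    rw [← key, h, key0]
  · intro h
    apply (adj.homEquiv _ _).symm.injective
    rw [key, key0, h]

/-- `j^* ψ = 0` iff `ψ` vanishes on every open contained in the image of `j`. -/
lemma restrict_map_eq_zero_iff {F N : X.Modules} (ψ : F ⟶ N) :
    (Scheme.Modules.restrictFunctor j).map ψ = 0 ↔
      ∀ (W : X.Opens), W ≤ j.opensRange → ∀ m : F.val.obj (op W), ψ.val.app (op W) m = 0 := by
  constructor
  · intro h
    have h0 : ∀ (W' : U.Opens) (y : F.val.obj (op (j ''ᵁ W'))), ψ.val.app (op (j ''ᵁ W')) y = 0 :=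
      fun W' y => congrArg (fun φ : (Scheme.Modules.restrictFunctor j).obj F ⟶
        (Scheme.Modules.restrictFunctor j).obj N => (φ.val.app (op W')).hom y) h
    have key : ∀ (W' : U.Opens) (W : X.Opens) (e : j ''ᵁ W' = W) (m : F.val.obj (op W)),
        ψ.val.app (op W) m = 0 := by
      intro W' W e m
      subst e
      exact h0 W' m
    intro W hW m
    refine key (j ⁻¹ᵁ W) W ?_ m
    rw [Scheme.Hom.image_preimage_eq_opensRange_inf]
    exact inf_eq_right.2 hW
  · intro h
    apply SheafOfModules.hom_ext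
    apply PresheafOfModules.hom_ext
    intro W'
    apply ModuleCat.hom_ext
    apply LinearMap.ext
    intro m
    exact h (j ''ᵁ W'.unop) (j.image_le_opensRange _) m

/-- `ψ|_V = 0` on the localized site iff `ψ` vanishes on every open contained in `V`. -/
lemma restr_map_eq_zero_iff (V : X.Opens) {F N : X.Modules} (ψ : F ⟶ N) :
    (ModSite.restr X.sheaf V).map ψ = 0 ↔
      ∀ (W : X.Opens), W ≤ V → ∀ m : F.val.obj (op W), ψ.val.app (op W) m = 0 := by
  constructor
  · intro h W hW m
    exact congrArg (fun φ : (ModSite.restr X.sheaf V).obj F ⟶ (ModSite.restr X.sheaf V).obj N =>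
      (φ.val.app (op (Over.mk (homOfLE hW)))).hom m) h
  · intro h
    apply (SheafOfModules.toSheaf _).map_injective
    ext Y m
    exact h (unop Y).left (leOfHom (unop Y).hom) m

/-- `ψ ≫ η_N = 0` iff `ψ|_V = 0` on the localized site, `V` the image of `j`. -/
lemma comp_unit_eq_zero_iff_restr {F N : X.Modules} (ψ : F ⟶ N) :
    ψ ≫ (Scheme.Modules.restrictAdjunction j).unit.app N = 0 ↔
      (ModSite.restr X.sheaf j.opensRange).map ψ = 0 :=
  (comp_unit_eq_zero_iff j ψ).trans ((restrict_map_eq_zero_iff j ψ).trans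
    (restr_map_eq_zero_iff j.opensRange ψ).symm)

/-- `Γ_Z` preserves injectives. -/
theorem injective_gammaZ (I : X.Modules) [hI : Injective I] :
    Injective ((DCoh.gammaZ j).obj I) := by
  constructor
  intro A B φ f hf
  let O : Sheaf (Opens.grothendieckTopology ↥X) CommRingCat.{u} := X.sheaf
  let V : X.Opens := j.opensRange
  let η := (Scheme.Modules.restrictAdjunction j).unit.app I
  let ι : (DCoh.gammaZ j).obj I ⟶ I := kernel.ι η
  let φ' : A ⟶ I := φ ≫ ι
  have h0 : ι ≫ η = 0 := kernel.condition η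
  have h1 : φ' ≫ η = 0 := by
    rw [Category.assoc, h0, comp_zero]
  have h2 : (ModSite.restr O V).map φ' = 0 := (comp_unit_eq_zero_iff_restr j φ').1 h1
  have h3 : (ModSite.extZeroAdj O V).counit.app A ≫ φ' = 0 :=
    (QuotOnAdj.counit_comp_eq_zero_iff O V φ').2 h2
  let φb : (ModSite.quotOn O V).obj A ⟶ I := cokernel.desc _ φ' h3
  have hφb : (ModSite.quotOnπ O V).app A ≫ φb = φ' := cokernel.π_desc _ _ _
  have hf' : @Mono (ModSite.Mod O) _ A B f := hf
  have hI' : @Injective (ModSite.Mod O) _ I := hI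
  have hm : Mono ((ModSite.quotOn O V).map f) :=
    @QuotOnExact.mono_quotOn_map _ _ _ O V inferInstance A B f hf'
  let ψb : (ModSite.quotOn O V).obj B ⟶ I :=
    @Injective.factorThru (ModSite.Mod O) _ I _ _ hI' φb ((ModSite.quotOn O V).map f) hm
  have hψb : (ModSite.quotOn O V).map f ≫ ψb = φb :=
    @Injective.comp_factorThru (ModSite.Mod O) _ I _ _ hI' φb ((ModSite.quotOn O V).map f) hm
  let ψ : B ⟶ I := (ModSite.quotOnπ O V).app B ≫ ψb
  have h4 : (ModSite.restr O V).map ψ = 0 := by
    have hz : IsZero ((ModSite.restr O V).obj ((ModSite.quotOn O V).obj B)) :=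
      QuotOnRestr.isNullOn_quotOn' O V B
    show (ModSite.restr O V).map ((ModSite.quotOnπ O V).app B ≫ ψb) = 0
    rw [Functor.map_comp, hz.eq_of_tgt ((ModSite.restr O V).map ((ModSite.quotOnπ O V).app B)) 0,
      zero_comp]
  have h5 : ψ ≫ η = 0 := (comp_unit_eq_zero_iff_restr j ψ).2 h4
  refine ⟨kernel.lift η ψ h5, ?_⟩
  have hmι : Mono ι := inferInstanceAs (Mono (kernel.ι η))
  apply (cancel_mono ι).1
  have hl : kernel.lift η ψ h5 ≫ ι = ψ := kernel.lift_ι _ _ _
  have nat : f ≫ (ModSite.quotOnπ O V).app B =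
      (ModSite.quotOnπ O V).app A ≫ (ModSite.quotOn O V).map f :=
    (ModSite.quotOnπ O V).naturality f
  have e1 : f ≫ ψ = φ' := by
    show f ≫ (ModSite.quotOnπ O V).app B ≫ ψb = φ'
    exact (Category.assoc _ _ _).symm.trans ((congrArg (· ≫ ψb) nat).trans
      ((Category.assoc _ _ _).trans
        ((congrArg ((ModSite.quotOnπ O V).app A ≫ ·) hψb).trans hφb)))
  exact (Category.assoc _ _ _).trans ((congrArg (f ≫ ·) hl).trans e1)

end Groth.Agent.H31.GammaZInj
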