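import Mathlib

namespace Groth.Agent.H31.AFMCMap

open CategoryTheory Limits Simplicial Opposite SimplicialObject AlgebraicTopology

universe v u v' u'

variable {𝒞 : Type u} [Category.{v} 𝒞] {𝒟 : Type u'} [Category.{v'} 𝒟]
  [Preadditive 𝒞] [Preadditive 𝒟] (G : 𝒞 ⥤ 𝒟) [G.Additive]

/-- `G` applied to the alternating face map complex. -/
noncomputable def afmcIso (Z : SimplicialObject 𝒞) :
    (G.mapHomologicalComplex _).obj (AlternatingFaceMapComplex.obj Z) ≅
      AlternatingFaceMapComplex.obj (((SimplicialObject.whiskering 𝒞 𝒟).obj G).obj Z) :=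
  HomologicalComplex.Hom.isoOfComponents (fun n => Iso.refl _) (by
    rintro i j (rfl : j + 1 = i)
    refine (Category.id_comp _).trans (Eq.trans ?_ (Category.comp_id _).symm)
    simp only [Functor.mapHomologicalComplex_obj_d, AlternatingFaceMapComplex.obj_d_eq,
      Functor.map_sum, Functor.map_zsmul]
    rfl)

@[simp]
lemma afmcIso_hom_f (Z : SimplicialObject 𝒞) (n : ℕ) : (afmcIso G Z).hom.f n = 𝟙 _ := rfl

variable [HasZeroObject 𝒞] [HasZeroObject 𝒟]

lemma map_ε (Y : SimplicialObject.Augmented 𝒞) :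
    (G.mapHomologicalComplex _).map (AlternatingFaceMapComplex.ε.app Y) ≫
      (HomologicalComplex.singleMapHomologicalComplex G (ComplexShape.down ℕ) 0).hom.app Y.right =
    (afmcIso G Y.left).hom ≫
      AlternatingFaceMapComplex.ε.app (((SimplicialObject.Augmented.whiskering 𝒞 𝒟).obj G).obj Y) := by
  apply HomologicalComplex.to_single_hom_ext
  simp
  refine (Category.comp_id _).trans (Eq.trans ?_ (Category.id_comp _).symm)
  simp [Augmented.whiskering, Augmented.whiskeringObj]


lemma quasiIso_map_ε_iff [CategoryWithHomology 𝒟] (Y : SimplicialObject.Augmented 𝒞) :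
    QuasiIso ((G.mapHomologicalComplex _).map (AlternatingFaceMapComplex.ε.app Y)) ↔
      QuasiIso (AlternatingFaceMapComplex.ε.app
        (((SimplicialObject.Augmented.whiskering 𝒞 𝒟).obj G).obj Y)) :=
  quasiIso_iff_of_arrow_mk_iso _ _
    (Arrow.isoMk (afmcIso G Y.left)
      ((HomologicalComplex.singleMapHomologicalComplex G (ComplexShape.down ℕ) 0).app Y.right)
      (map_ε G Y).symm)

end Groth.Agent.H31.AFMCMap
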