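import Groth.Agent.H31.CechConverse

namespace Groth.Agent.H31.CechProd

open CategoryTheory Abelian Limits Opposite AlgebraicTopology Simplicial
open Groth.Agent.H31.SieveExt Groth.Agent.H31.LocTriv Groth.Agent.H31.CechAcyc

universe u

variable {C : Type u} [SmallCategory C] {J : GrothendieckTopology C}

/-- cocycle form of Čech acyclicity for a totally acyclic sheaf. -/
lemma exists_factor_of_totallyAcyclic (F : Sheaf J AddCommGrpCat.{u}) (hF : CohCx.IsTotallyAcyclic F)
    {K' K : Sheaf J (Type u)} (f : K' ⟶ K) [Epi f] (q : ℕ)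
    (x : (PP f).X (q + 1) ⟶ F) (hx : (PP f).d (q + 2) (q + 1) ≫ x = 0) :
    ∃ ψ : (PP f).X q ⟶ F, (PP f).d (q + 1) q ≫ ψ = x :=
  exact_of_homology_isZero F f q (cechNerve_acyclic F f hF q) x hx

/-- converse: cocycle form implies vanishing homology. -/
lemma homology_isZero_of_exists_factor (F : Sheaf J AddCommGrpCat.{u})
    {K' K : Sheaf J (Type u)} (f : K' ⟶ K) (q : ℕ)
    (h : ∀ (x : (PP f).X (q + 1) ⟶ F), (PP f).d (q + 2) (q + 1) ≫ x = 0 →
      ∃ ψ : (PP f).X q ⟶ F, (PP f).d (q + 1) q ≫ ψ = x) :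
    IsZero ((CohCx.cechNerveCx F f).homology (q + 1)) := by
  rw [← HomologicalComplex.exactAt_iff_isZero_homology,
    HomologicalComplex.exactAt_iff' _ q (q + 1) (q + 2) (by simp) (by simp),
    ShortComplex.ab_exact_iff]
  intro x hx
  obtain ⟨ψ, hψ⟩ := h x ((d_apply F f (q + 1) x).symm.trans hx)
  exact ⟨ψ, (d_apply F f q ψ).trans hψ⟩

theorem isTotallyAcyclic_pi {T : Type u} (F : T → Sheaf J AddCommGrpCat.{u})
    (hF : ∀ t, CohCx.IsTotallyAcyclic (F t)) : CohCx.IsTotallyAcyclic (∏ᶜ F) := by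
  apply isTotallyAcyclic_of_cech
  intro K' K f hf q
  apply homology_isZero_of_exists_factor
  intro x hx
  have h := fun t => exists_factor_of_totallyAcyclic (F t) (hF t) f q (x ≫ Pi.π F t)
    (by rw [← Category.assoc, hx, zero_comp])
  choose ψ hψ using h
  refine ⟨Pi.lift ψ, ?_⟩
  apply Pi.hom_ext
  intro t
  rw [Category.assoc, Pi.lift_π, hψ]

end Groth.Agent.H31.CechProd
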