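import Groth.Agent.H31.CechConverse
import Groth.Agent.H31.CechProd

namespace Groth.Agent.H31.AbsCartan

open CategoryTheory Abelian Limits Opposite AlgebraicTopology Simplicial
open Groth.Agent.H31.SieveExt Groth.Agent.H31.LocTriv Groth.Agent.H31.CechAcyc

universe v' u' u

variable {C : Type u} [SmallCategory C] {J : GrothendieckTopology C}

lemma comp_altsum {𝒜 : Type*} [Category 𝒜] [Preadditive 𝒜] {A B Z : 𝒜} {m : ℕ} (d : A ⟶ B)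
    (g : Fin m → (A ⟶ B)) (hd : d = ∑ i : Fin m, (-1 : ℤ) ^ (i : ℕ) • g i) (y : B ⟶ Z) :
    d ≫ y = ∑ i : Fin m, (-1 : ℤ) ^ (i : ℕ) • (g i ≫ y) := by
  subst hd
  rw [Preadditive.sum_comp]
  refine Finset.sum_congr rfl fun i _ => ?_
  rw [Preadditive.zsmul_comp]

variable {𝒜 : Type u'} [Category.{v'} 𝒜] [Abelian 𝒜] (L : Sheaf J (Type u) ⥤ 𝒜)

/-- the chain complex `L(Čech nerve)`. -/
noncomputable abbrev PL {K' K : Sheaf J (Type u)} (f : K' ⟶ K) : ChainComplex 𝒜 ℕ :=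
  AlternatingFaceMapComplex.obj ((Arrow.mk f).cechNerve ⋙ L)

variable {L} (G : 𝒜) (M : Sheaf J AddCommGrpCat.{u})
  (Θ : ∀ T : Sheaf J (Type u), (Zs J T.obj ⟶ M) ≃+ (L.obj T ⟶ G))
  (hΘ : ∀ {T' T : Sheaf J (Type u)} (τ : T' ⟶ T) (x : Zs J T.obj ⟶ M),
    Θ T' (ZsMap τ ≫ x) = L.map τ ≫ Θ T x)

include hΘ in
lemma theta_d {K' K : Sheaf J (Type u)} (f : K' ⟶ K) (n : ℕ)
    (y : Zs J ((Arrow.mk f).cechNerve.obj (op ⦋n⦌)).obj ⟶ M) :
    Θ ((Arrow.mk f).cechNerve.obj (op ⦋n + 1⦌))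
      (((PP f).d (n + 1) n : Zs J ((Arrow.mk f).cechNerve.obj (op ⦋n + 1⦌)).obj ⟶
        Zs J ((Arrow.mk f).cechNerve.obj (op ⦋n⦌)).obj) ≫ y) =
      ((PL L f).d (n + 1) n : L.obj ((Arrow.mk f).cechNerve.obj (op ⦋n + 1⦌)) ⟶
        L.obj ((Arrow.mk f).cechNerve.obj (op ⦋n⦌))) ≫
        Θ ((Arrow.mk f).cechNerve.obj (op ⦋n⦌)) y := by
  have h1 := comp_altsum (A := Zs J ((Arrow.mk f).cechNerve.obj (op ⦋n + 1⦌)).obj)
    (B := Zs J ((Arrow.mk f).cechNerve.obj (op ⦋n⦌)).obj) ((PP f).d (n + 1) n)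
    (fun i : Fin (n + 2) => ZsMap ((Arrow.mk f).cechNerve.δ i))
    (AlternatingFaceMapComplex.obj_d_eq _ _) y
  have h2 := comp_altsum (A := L.obj ((Arrow.mk f).cechNerve.obj (op ⦋n + 1⦌)))
    (B := L.obj ((Arrow.mk f).cechNerve.obj (op ⦋n⦌))) ((PL L f).d (n + 1) n)
    (fun i : Fin (n + 2) => L.map ((Arrow.mk f).cechNerve.δ i))
    (AlternatingFaceMapComplex.obj_d_eq _ _) (Θ ((Arrow.mk f).cechNerve.obj (op ⦋n⦌)) y)
  refine (congrArg (Θ ((Arrow.mk f).cechNerve.obj (op ⦋n + 1⦌))) h1).trans ?_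
  refine Eq.trans ?_ h2.symm
  rw [map_sum]
  refine Finset.sum_congr rfl fun i _ => ?_
  rw [map_zsmul, hΘ]

include hΘ in
/-- Abstract Cartan criterion: if `Hom(ℤ[T], M) ≃ Hom(L T, G)` naturally with `G` injective and
`L(Čech nerve)` exact in positive degrees for all epis, then `M` is totally acyclic. -/
theorem totallyAcyclic_of_adjoint [Injective G]
    (hL : ∀ {K' K : Sheaf J (Type u)} (f : K' ⟶ K), Epi f → ∀ q : ℕ,
      (PL L f).ExactAt (q + 1)) :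
    CohCx.IsTotallyAcyclic M := by
  apply isTotallyAcyclic_of_cech
  intro K' K f hf q
  apply CechProd.homology_isZero_of_exists_factor
  intro x hx
  let x0 : Zs J ((Arrow.mk f).cechNerve.obj (op ⦋q + 1⦌)).obj ⟶ M := x
  have hx' : ((PP f).d (q + 2) (q + 1) : Zs J ((Arrow.mk f).cechNerve.obj (op ⦋q + 1 + 1⦌)).obj ⟶
        Zs J ((Arrow.mk f).cechNerve.obj (op ⦋q + 1⦌)).obj) ≫ x0 = 0 := hx
  have hc : (PL L f).d (q + 2) (q + 1) ≫
      (Θ ((Arrow.mk f).cechNerve.obj (op ⦋q + 1⦌)) x0 : (PL L f).X (q + 1) ⟶ G) = 0 := by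
    refine (theta_d G M Θ hΘ f (q + 1) x0).symm.trans ?_
    exact (congrArg (Θ ((Arrow.mk f).cechNerve.obj (op ⦋q + 1 + 1⦌))) hx').trans (map_zero _)
  have hex := hL f hf q
  rw [HomologicalComplex.exactAt_iff' _ (q + 2) (q + 1) q (by simp) (by simp)] at hex
  let ψ : (PL L f).X q ⟶ G := hex.descToInjective
    (Θ ((Arrow.mk f).cechNerve.obj (op ⦋q + 1⦌)) x0 : (PL L f).X (q + 1) ⟶ G) hc
  have hψ : (PL L f).d (q + 1) q ≫ ψ = Θ ((Arrow.mk f).cechNerve.obj (op ⦋q + 1⦌)) x0 :=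
    hex.comp_descToInjective _ _
  let ψ0 : L.obj ((Arrow.mk f).cechNerve.obj (op ⦋q⦌)) ⟶ G := ψ
  refine ⟨(Θ ((Arrow.mk f).cechNerve.obj (op ⦋q⦌))).symm ψ0, ?_⟩
  apply (Θ ((Arrow.mk f).cechNerve.obj (op ⦋q + 1⦌))).injective
  refine (theta_d G M Θ hΘ f q _).trans ?_
  rw [AddEquiv.apply_symm_apply]
  exact hψ

end Groth.Agent.H31.AbsCartan
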