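import Mathlib.CategoryTheory.Abelian.RightDerived
import Mathlib.Algebra.Homology.ShortComplex.ExactFunctor
import Mathlib.Algebra.Homology.QuasiIso

/-!
# Weak resolutions and lifting into injective resolutions
-/

set_option autoImplicit false
set_option linter.unusedSectionVars false
universe v v' v'' u u' u''
open CategoryTheory Limits HomologicalComplex CochainComplex Category

namespace Groth.Agent.H31.AcycComp

noncomputable section

variable {C : Type u} [Category.{v} C] [Abelian C]

/-- A weak resolution: a cochain complex with a quasi-isomorphism from `Z` in degree `0`. -/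
structure WRes (Z : C) where
  /-- the complex -/
  cocomplex : CochainComplex C ℕ
  /-- the augmentation -/
  ι : (single₀ C).obj Z ⟶ cocomplex
  /-- it is a quasi-isomorphism -/
  quasiIso : QuasiIso ι

attribute [instance] WRes.quasiIso

/-- An injective resolution is a weak resolution. -/
def _root_.CategoryTheory.InjectiveResolution.toWRes {Z : C} (I : InjectiveResolution Z) :
    WRes Z := ⟨I.cocomplex, I.ι, inferInstance⟩

namespace WRes

variable {Z : C} (I : WRes Z)

lemma cocomplex_exactAt_succ (n : ℕ) :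
    I.cocomplex.ExactAt (n + 1) := by
  rw [← quasiIsoAt_iff_exactAt I.ι (n + 1) (exactAt_succ_single_obj _ _)]
  infer_instance

lemma exact_succ (n : ℕ) :
    (ShortComplex.mk _ _ (I.cocomplex.d_comp_d n (n + 1) (n + 2))).Exact :=
  (HomologicalComplex.exactAt_iff' _ n (n + 1) (n + 2) (by simp)
    (by simp only [CochainComplex.next]; rfl)).1 (I.cocomplex_exactAt_succ n)

@[simp]
theorem ι_f_succ (n : ℕ) : I.ι.f (n + 1) = 0 :=
  (isZero_single_obj_X _ _ _ _ (by simp)).eq_of_src _ _

set_option backward.isDefEq.respectTransparency false in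
@[reassoc]
theorem ι_f_zero_comp_complex_d :
    I.ι.f 0 ≫ I.cocomplex.d 0 1 = 0 := by
  simp

/-- The (limit) kernel fork. -/
@[simp]
def kernelFork : KernelFork (I.cocomplex.d 0 1) :=
  KernelFork.ofι _ I.ι_f_zero_comp_complex_d

set_option backward.defeqAttrib.useBackward true in
set_option backward.isDefEq.respectTransparency false in
/-- `Z` is the kernel of `I.cocomplex.X 0 ⟶ I.cocomplex.X 1`. -/
def isLimitKernelFork : IsLimit (I.kernelFork) := by
  refine IsLimit.ofIsoLimit (I.cocomplex.cyclesIsKernel 0 1 (by simp)) (Iso.symm ?_)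
  refine Fork.ext ((singleObjHomologySelfIso _ _ _).symm ≪≫
    isoOfQuasiIsoAt I.ι 0 ≪≫ I.cocomplex.isoHomologyπ₀.symm) ?_
  rw [← cancel_epi (singleObjHomologySelfIso (ComplexShape.up ℕ) _ _).hom,
    ← cancel_epi (isoHomologyπ₀ _).hom,
    ← cancel_epi (singleObjCyclesSelfIso (ComplexShape.up ℕ) _ _).inv]
  simp

set_option backward.isDefEq.respectTransparency false in
instance (n : ℕ) : Mono (I.ι.f n) := by
  cases n
  · exact mono_of_isLimit_fork I.isLimitKernelFork
  · rw [ι_f_succ]; infer_instance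

lemma exact₀ : (ShortComplex.mk _ _ I.ι_f_zero_comp_complex_d).Exact :=
  ShortComplex.exact_of_f_is_kernel _ I.isLimitKernelFork

end WRes

open Injective

section Desc

variable {Y Z : C}

set_option backward.isDefEq.respectTransparency false in
/-- Auxiliary construction for `gdesc`. -/
def gdescFZero (f : Z ⟶ Y) (I : InjectiveResolution Y) (J : WRes Z) :
    J.cocomplex.X 0 ⟶ I.cocomplex.X 0 :=
  factorThru (f ≫ I.ι.f 0) (J.ι.f 0)

set_option backward.isDefEq.respectTransparency false in
/-- Auxiliary construction for `gdesc`. -/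
def gdescFOne (f : Z ⟶ Y) (I : InjectiveResolution Y) (J : WRes Z) :
    J.cocomplex.X 1 ⟶ I.cocomplex.X 1 :=
  J.exact₀.descToInjective (gdescFZero f I J ≫ I.cocomplex.d 0 1)
    (by dsimp; simp only [← assoc, gdescFZero]; simp [assoc])

@[simp]
theorem gdescFOne_zero_comm (f : Z ⟶ Y) (I : InjectiveResolution Y) (J : WRes Z) :
    J.cocomplex.d 0 1 ≫ gdescFOne f I J = gdescFZero f I J ≫ I.cocomplex.d 0 1 := by
  apply J.exact₀.comp_descToInjective

/-- Auxiliary construction for `gdesc`. -/
def gdescFSucc (I : InjectiveResolution Y) (J : WRes Z) (n : ℕ)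
    (g : J.cocomplex.X n ⟶ I.cocomplex.X n) (g' : J.cocomplex.X (n + 1) ⟶ I.cocomplex.X (n + 1))
    (w : J.cocomplex.d n (n + 1) ≫ g' = g ≫ I.cocomplex.d n (n + 1)) :
    Σ' g'' : J.cocomplex.X (n + 2) ⟶ I.cocomplex.X (n + 2),
      J.cocomplex.d (n + 1) (n + 2) ≫ g'' = g' ≫ I.cocomplex.d (n + 1) (n + 2) :=
  ⟨(J.exact_succ n).descToInjective
    (g' ≫ I.cocomplex.d (n + 1) (n + 2)) (by simp [reassoc_of% w]),
      (J.exact_succ n).comp_descToInjective _ _⟩

/-- A morphism descends to a cochain map from a weak resolution to an injective resolution. -/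
def gdesc (f : Z ⟶ Y) (I : InjectiveResolution Y) (J : WRes Z) :
    J.cocomplex ⟶ I.cocomplex :=
  CochainComplex.mkHom _ _ (gdescFZero f _ _) (gdescFOne f _ _) (gdescFOne_zero_comm f I J).symm
    fun n ⟨g, g', w⟩ => ⟨(gdescFSucc I J n g g' w.symm).1, (gdescFSucc I J n g g' w.symm).2.symm⟩

set_option backward.isDefEq.respectTransparency.types false in
@[reassoc (attr := simp)]
theorem gdesc_commutes (f : Z ⟶ Y) (I : InjectiveResolution Y) (J : WRes Z) :
    J.ι ≫ gdesc f I J = (CochainComplex.single₀ C).map f ≫ I.ι := by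
  ext
  simp [gdesc, gdescFOne, gdescFZero]

@[reassoc (attr := simp)]
lemma gdesc_commutes_zero (f : Z ⟶ Y) (I : InjectiveResolution Y) (J : WRes Z) :
    J.ι.f 0 ≫ (gdesc f I J).f 0 = f ≫ I.ι.f 0 :=
  (HomologicalComplex.congr_hom (gdesc_commutes f I J) 0).trans (by simp)

/-- An auxiliary definition for `gdescHomotopyZero`. -/
def gdescHomotopyZeroZero {I : WRes Y} {J : InjectiveResolution Z}
    (f : I.cocomplex ⟶ J.cocomplex) (comm : I.ι ≫ f = 0) : I.cocomplex.X 1 ⟶ J.cocomplex.X 0 :=
  I.exact₀.descToInjective (f.f 0) (congr_fun (congr_arg HomologicalComplex.Hom.f comm) 0)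

@[reassoc (attr := simp)]
lemma comp_gdescHomotopyZeroZero {I : WRes Y} {J : InjectiveResolution Z}
    (f : I.cocomplex ⟶ J.cocomplex) (comm : I.ι ≫ f = 0) :
    I.cocomplex.d 0 1 ≫ gdescHomotopyZeroZero f comm = f.f 0 :=
  I.exact₀.comp_descToInjective _ _

/-- An auxiliary definition for `gdescHomotopyZero`. -/
def gdescHomotopyZeroOne {I : WRes Y} {J : InjectiveResolution Z}
    (f : I.cocomplex ⟶ J.cocomplex) (comm : I.ι ≫ f = (0 : _ ⟶ J.cocomplex)) :
    I.cocomplex.X 2 ⟶ J.cocomplex.X 1 :=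
  (I.exact_succ 0).descToInjective (f.f 1 - gdescHomotopyZeroZero f comm ≫ J.cocomplex.d 0 1)
    (by rw [Preadditive.comp_sub, comp_gdescHomotopyZeroZero_assoc f comm,
          HomologicalComplex.Hom.comm, sub_self])

@[reassoc (attr := simp)]
lemma comp_gdescHomotopyZeroOne {I : WRes Y} {J : InjectiveResolution Z}
    (f : I.cocomplex ⟶ J.cocomplex) (comm : I.ι ≫ f = (0 : _ ⟶ J.cocomplex)) :
    I.cocomplex.d 1 2 ≫ gdescHomotopyZeroOne f comm =
      f.f 1 - gdescHomotopyZeroZero f comm ≫ J.cocomplex.d 0 1 :=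
  (I.exact_succ 0).comp_descToInjective _ _

/-- An auxiliary definition for `gdescHomotopyZero`. -/
def gdescHomotopyZeroSucc {I : WRes Y} {J : InjectiveResolution Z}
    (f : I.cocomplex ⟶ J.cocomplex) (n : ℕ) (g : I.cocomplex.X (n + 1) ⟶ J.cocomplex.X n)
    (g' : I.cocomplex.X (n + 2) ⟶ J.cocomplex.X (n + 1))
    (w : f.f (n + 1) = I.cocomplex.d (n + 1) (n + 2) ≫ g' + g ≫ J.cocomplex.d n (n + 1)) :
    I.cocomplex.X (n + 3) ⟶ J.cocomplex.X (n + 2) :=
  (I.exact_succ (n + 1)).descToInjective (f.f (n + 2) - g' ≫ J.cocomplex.d _ _) (by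
      dsimp
      rw [Preadditive.comp_sub, ← HomologicalComplex.Hom.comm, w, Preadditive.add_comp,
        Category.assoc, Category.assoc, HomologicalComplex.d_comp_d, comp_zero,
        add_zero, sub_self])

@[reassoc (attr := simp)]
lemma comp_gdescHomotopyZeroSucc {I : WRes Y} {J : InjectiveResolution Z}
    (f : I.cocomplex ⟶ J.cocomplex) (n : ℕ) (g : I.cocomplex.X (n + 1) ⟶ J.cocomplex.X n)
    (g' : I.cocomplex.X (n + 2) ⟶ J.cocomplex.X (n + 1))
    (w : f.f (n + 1) = I.cocomplex.d (n + 1) (n + 2) ≫ g' + g ≫ J.cocomplex.d n (n + 1)) :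
    I.cocomplex.d (n + 2) (n + 3) ≫ gdescHomotopyZeroSucc f n g g' w =
      f.f (n + 2) - g' ≫ J.cocomplex.d _ _ :=
  (I.exact_succ (n + 1)).comp_descToInjective _ _

/-- Any descent of the zero morphism is homotopic to zero. -/
def gdescHomotopyZero {I : WRes Y} {J : InjectiveResolution Z}
    (f : I.cocomplex ⟶ J.cocomplex) (comm : I.ι ≫ f = 0) : Homotopy f 0 :=
  Homotopy.mkCoinductive _ (gdescHomotopyZeroZero f comm) (by simp)
    (gdescHomotopyZeroOne f comm) (by simp) (fun n ⟨g, g', w⟩ =>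
    ⟨gdescHomotopyZeroSucc f n g g' (by simp only [w, add_comm]), by simp⟩)

/-- Two descents of the same morphism are homotopic. -/
def gdescHomotopy {I : WRes Y} {J : InjectiveResolution Z}
    (g h : I.cocomplex ⟶ J.cocomplex) (gh : I.ι ≫ g = I.ι ≫ h) : Homotopy g h :=
  Homotopy.equivSubZero.invFun (gdescHomotopyZero _ (by simp [gh]))

end Desc

end

end Groth.Agent.H31.AcycComp
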