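import Mathlib

/-!
# Right adjoints of a finite coproduct of left adjoints

If `L = ∐ L_j` pointwise (finite index), `L ⊣ R`, `L_j ⊣ R_j` and each `R_j` preserves
epimorphisms, then `R` preserves epimorphisms (since `R ≅ ∏ R_j`).
-/

set_option autoImplicit false
universe v₁ v₂ u₁ u₂ w
open CategoryTheory Limits

namespace Groth.Agent.H31.AdjCoprod

variable {𝒜 : Type u₁} [Category.{v₁} 𝒜] {ℬ : Type u₂} [Category.{v₂} ℬ]
  {L : 𝒜 ⥤ ℬ} {R : ℬ ⥤ 𝒜} (adj : L ⊣ R)
  {J : Type w} {Lj : J → (𝒜 ⥤ ℬ)} {Rj : J → (ℬ ⥤ 𝒜)} (adjj : ∀ j, Lj j ⊣ Rj j)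
  (ι : ∀ j, Lj j ⟶ L)

/-- the conjugate projections `R ⟶ R_j` -/
noncomputable def proj (j : J) : R ⟶ Rj j := conjugateEquiv adj (adjj j) (ι j)

lemma homEquiv_symm_comp_proj (j : J) {A : 𝒜} {P : ℬ} (f : A ⟶ R.obj P) :
    ((adjj j).homEquiv A P).symm (f ≫ (proj adj adjj ι j).app P) =
      (ι j).app A ≫ (adj.homEquiv A P).symm f := by
  rw [Adjunction.homEquiv_counit, Adjunction.homEquiv_counit, Functor.map_comp, Category.assoc]
  erw [conjugateEquiv_counit adj (adjj j) (ι j) P]
  rw [← Category.assoc, (ι j).naturality f, Category.assoc]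

variable (hι : ∀ A : 𝒜, IsColimit (Cofan.mk (L.obj A) (fun j => (ι j).app A)))

/-- `R P` is the product of the `R_j P`. -/
noncomputable def isLimitFan (P : ℬ) :
    IsLimit (Fan.mk (R.obj P) (fun j => (proj adj adjj ι j).app P)) :=
  Fan.IsLimit.mk _
    (fun s => adj.homEquiv _ _ (Cofan.IsColimit.desc (hι s.pt)
      (fun j => ((adjj j).homEquiv _ _).symm (s.proj j))))
    (fun s j => by
      apply ((adjj j).homEquiv _ _).symm.injective
      show ((adjj j).homEquiv _ _).symm (_ ≫ (proj adj adjj ι j).app P) = _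
      rw [homEquiv_symm_comp_proj, Equiv.symm_apply_apply]
      exact Cofan.IsColimit.fac (hι s.pt) _ j)
    (fun s m hm => by
      apply (adj.homEquiv _ _).symm.injective
      rw [Equiv.symm_apply_apply]
      refine Cofan.IsColimit.hom_ext (hι s.pt) _ _ (fun j => ?_)
      rw [Cofan.IsColimit.fac]
      show (ι j).app s.pt ≫ _ = _
      rw [← homEquiv_symm_comp_proj adj adjj ι j m]
      exact congrArg _ (hm j))

include adj adjj hι in
theorem preservesEpimorphisms [Abelian 𝒜] [Finite J]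
    (hR : ∀ j, (Rj j).PreservesEpimorphisms) : R.PreservesEpimorphisms := by
  constructor
  intro P P' g hg
  have := Fintype.ofFinite J
  let e (Q : ℬ) : R.obj Q ≅ ∏ᶜ (fun j => (Rj j).obj Q) :=
    (isLimitFan adj adjj ι hι Q).conePointUniqueUpToIso (productIsProduct _)
  have he (Q : ℬ) (j : J) : (e Q).hom ≫ Pi.π _ j = (proj adj adjj ι j).app Q :=
    (isLimitFan adj adjj ι hι Q).conePointUniqueUpToIso_hom_comp (productIsProduct _) ⟨j⟩
  have hsq : R.map g ≫ (e P').hom = (e P).hom ≫ Limits.Pi.map (fun j => (Rj j).map g) := by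
    apply Pi.hom_ext
    intro j
    rw [Category.assoc, Category.assoc, he, Pi.map_π, ← Category.assoc, he]
    exact ((proj adj adjj ι j).naturality g)
  have hepi : Epi (Limits.Pi.map (fun j => (Rj j).map g)) := by
    have : ∀ j, Epi ((Rj j).map g) := fun j => (hR j).preserves g
    let τ : Discrete.functor (fun j => (Rj j).obj P) ⟶ Discrete.functor (fun j => (Rj j).obj P') :=
      Discrete.natTrans (fun j => (Rj j.as).map g)
    have h2 : Epi τ := by
      have : ∀ X, Epi (τ.app X) := fun X => this X.as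
      exact NatTrans.epi_of_epi_app τ
    have h0 : HasFiniteBiproducts 𝒜 := Abelian.hasFiniteBiproducts
    have h4 : PreservesFiniteColimits (lim : (Discrete J ⥤ 𝒜) ⥤ 𝒜) :=
      (hasExactLimitsOfShape_discrete_finite (C := 𝒜) (J := J)).preservesFiniteColimits
    have h5 : (lim : (Discrete J ⥤ 𝒜) ⥤ 𝒜).PreservesEpimorphisms := inferInstance
    exact (lim : (Discrete J ⥤ 𝒜) ⥤ 𝒜).map_epi τ
  have h3 : R.map g = (e P).hom ≫ Limits.Pi.map (fun j => (Rj j).map g) ≫ (e P').inv := by
    rw [← Category.assoc, ← hsq, Category.assoc, Iso.hom_inv_id, Category.comp_id]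
  rw [h3]
  infer_instance

end Groth.Agent.H31.AdjCoprod
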