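import Mathlib

namespace Groth.Agent.H31.CechExtra

open CategoryTheory Limits Simplicial Opposite SimplicialObject

universe v u v' u'

variable {𝒞 : Type u} [Category.{v} 𝒞] {𝒟 : Type u'} [Category.{v'} 𝒟]
variable (f : Arrow 𝒞)
  [∀ n : ℕ, HasWidePullback.{0} f.right (fun _ : Fin (n + 1) => f.left) fun _ => f.hom]
variable (G : 𝒞 ⥤ 𝒟)
  [∀ n : ℕ, PreservesLimit
    (WidePullbackShape.wideCospan f.right (fun _ : Fin (n + 1) => f.left) fun _ => f.hom) G]

/-- the `n`-th term of the Čech nerve. -/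
noncomputable abbrev Cn (n : ℕ) : 𝒞 :=
  widePullback.{0} f.right (fun _ : Fin (n + 1) => f.left) fun _ => f.hom

noncomputable abbrev pr (n : ℕ) (i : Fin (n + 1)) : Cn f n ⟶ f.left :=
  WidePullback.π (fun _ : Fin (n + 1) => f.hom) i

noncomputable abbrev bs (n : ℕ) : Cn f n ⟶ f.right :=
  WidePullback.base (fun _ : Fin (n + 1) => f.hom)

/-- the image under `G` of the limit cone is a limit cone. -/
noncomputable def isLim (n : ℕ) :
    IsLimit (G.mapCone (limit.cone
      (WidePullbackShape.wideCospan f.right (fun _ : Fin (n + 1) => f.left) fun _ => f.hom))) :=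
  isLimitOfPreserves G (limit.isLimit _)

lemma hom_ext' {n : ℕ} {Z : 𝒟} (a b : Z ⟶ G.obj (Cn f n))
    (h : ∀ i, a ≫ G.map (pr f n i) = b ≫ G.map (pr f n i)) : a = b := by
  apply (isLim f G n).hom_ext
  intro j
  cases j with
  | none =>
    have : bs f n = pr f n 0 ≫ f.hom := (WidePullback.π_arrow _ 0).symm
    show a ≫ G.map (bs f n) = b ≫ G.map (bs f n)
    rw [this, G.map_comp, ← Category.assoc, ← Category.assoc, h 0]
  | some i => exact h i

/-- lift into `G(Č_n)`. -/
noncomputable def lift' {n : ℕ} {Z : 𝒟} (b : Z ⟶ G.obj f.right)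
    (x : Fin (n + 1) → (Z ⟶ G.obj f.left)) (h : ∀ i, x i ≫ G.map f.hom = b) :
    Z ⟶ G.obj (Cn f n) :=
  (isLim f G n).lift (WidePullbackShape.mkCone (F := WidePullbackShape.wideCospan f.right
    (fun _ : Fin (n + 1) => f.left) (fun _ => f.hom) ⋙ G) b x h)

@[reassoc (attr := simp)]
lemma lift'_pr {n : ℕ} {Z : 𝒟} (b : Z ⟶ G.obj f.right)
    (x : Fin (n + 1) → (Z ⟶ G.obj f.left)) (h : ∀ i, x i ≫ G.map f.hom = b) (i : Fin (n + 1)) :
    lift' f G b x h ≫ G.map (pr f n i) = x i :=
  (isLim f G n).fac _ (some i)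

@[reassoc (attr := simp)]
lemma lift'_bs {n : ℕ} {Z : 𝒟} (b : Z ⟶ G.obj f.right)
    (x : Fin (n + 1) → (Z ⟶ G.obj f.left)) (h : ∀ i, x i ≫ G.map f.hom = b) :
    lift' f G b x h ≫ G.map (bs f n) = b :=
  (isLim f G n).fac _ none


lemma map_cechNerve_pr {n n' : ℕ} (θ : (⦋n'⦌ : SimplexCategory) ⟶ ⦋n⦌) (i : Fin (n' + 1)) :
    G.map (f.cechNerve.map θ.op) ≫ G.map (pr f n' i) = G.map (pr f n (θ.toOrderHom i)) := by
  rw [← G.map_comp]
  congr 1
  exact WidePullback.lift_π _ _ _ _ _

variable {I : 𝒟} (p : G.obj f.left ⟶ I) (m : I ⟶ G.obj f.right) [Mono m]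
  (hpm : p ≫ m = G.map f.hom)

/-- the augmentation to `I`. -/
noncomputable def aug (n : ℕ) : G.obj (Cn f n) ⟶ I := G.map (pr f n 0) ≫ p

include hpm in
lemma aug_eq (n : ℕ) (k : Fin (n + 1)) : G.map (pr f n k) ≫ p = aug f G p n := by
  rw [← cancel_mono m, aug, Category.assoc, Category.assoc, hpm, ← G.map_comp, ← G.map_comp]
  congr 1
  exact (WidePullback.π_arrow _ k).trans (WidePullback.π_arrow _ 0).symm

include hpm in
lemma aug_comp_m (n : ℕ) : aug f G p n ≫ m = G.map (bs f n) := by
  rw [aug, Category.assoc, hpm, ← G.map_comp]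
  congr 1
  exact WidePullback.π_arrow _ 0

include hpm in
lemma map_cechNerve_aug {n n' : ℕ} (θ : (⦋n'⦌ : SimplexCategory) ⟶ ⦋n⦌) :
    G.map (f.cechNerve.map θ.op) ≫ aug f G p n' = aug f G p n := by
  rw [aug, ← Category.assoc, map_cechNerve_pr, aug_eq f G p m hpm]


/-- `G` of the Čech nerve, augmented over `I`. -/
noncomputable def augI : SimplicialObject.Augmented 𝒟 where
  left := f.cechNerve ⋙ G
  right := I
  hom :=
    { app := fun n => aug f G p n.unop.len
      naturality := fun n n' θ => by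
        have := map_cechNerve_aug f G p m hpm (n := n.unop.len) (n' := n'.unop.len) θ.unop
        dsimp
        rw [Category.comp_id]
        exact this }

variable (σ : I ⟶ G.obj f.left) (hσ : σ ≫ p = 𝟙 I)

include hpm hσ in
lemma s_compat (n : ℕ) (i : Fin (n + 2)) :
    (Fin.cases (motive := fun _ => G.obj (Cn f n) ⟶ G.obj f.left) (aug f G p n ≫ σ)
      (fun i => G.map (pr f n i)) i) ≫ G.map f.hom = G.map (bs f n) := by
  induction i using Fin.cases with
  | zero =>
    simp only [Fin.cases_zero]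
    rw [← hpm, Category.assoc, reassoc_of% hσ, aug_comp_m f G p m hpm]
  | succ i =>
    simp only [Fin.cases_succ]
    rw [← G.map_comp]
    congr 1
    exact WidePullback.π_arrow _ i

/-- the extra degeneracy maps. -/
noncomputable def sE (n : ℕ) : G.obj (Cn f n) ⟶ G.obj (Cn f (n + 1)) :=
  lift' f G (G.map (bs f n))
    (Fin.cases (motive := fun _ => G.obj (Cn f n) ⟶ G.obj f.left) (aug f G p n ≫ σ)
      (fun i => G.map (pr f n i)))
    (s_compat f G p m hpm σ hσ n)

lemma sE_pr_zero (n : ℕ) :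
    sE f G p m hpm σ hσ n ≫ G.map (pr f (n + 1) 0) = aug f G p n ≫ σ := by
  rw [sE, lift'_pr]
  rfl

lemma sE_pr_succ (n : ℕ) (i : Fin (n + 1)) :
    sE f G p m hpm σ hσ n ≫ G.map (pr f (n + 1) i.succ) = G.map (pr f n i) := by
  rw [sE, lift'_pr]
  rfl


/-- the section in degree `0`. -/
noncomputable def sE' : I ⟶ G.obj (Cn f 0) :=
  σ ≫ G.map (WidePullback.lift f.hom (fun _ => 𝟙 _) (by simp))

lemma sE'_pr (i : Fin 1) : sE' f G σ ≫ G.map (pr f 0 i) = σ := by
  rw [sE', Category.assoc, ← G.map_comp]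
  have : WidePullback.lift f.hom (fun _ : Fin 1 => 𝟙 f.left) (by simp) ≫ pr f 0 i = 𝟙 _ :=
    WidePullback.lift_π _ _ _ _ _
  rw [this, G.map_id, Category.comp_id]

/-- The extra degeneracy of `G(Čech nerve)` augmented over a split image. -/
noncomputable def extraDegeneracy :
    SimplicialObject.Augmented.ExtraDegeneracy (augI f G p m hpm) where
  s' := sE' f G σ
  s n := sE f G p m hpm σ hσ n
  s'_comp_ε := by
    show sE' f G σ ≫ aug f G p 0 = 𝟙 I
    rw [aug, ← Category.assoc, sE'_pr, hσ]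
  s₀_comp_δ₁ := by
    show sE f G p m hpm σ hσ 0 ≫ G.map (f.cechNerve.map (SimplexCategory.δ 1).op) =
      aug f G p 0 ≫ sE' f G σ
    apply hom_ext' f G
    intro i
    rw [Category.assoc, map_cechNerve_pr, Category.assoc, sE'_pr]
    fin_cases i
    exact sE_pr_zero f G p m hpm σ hσ 0
  s_comp_δ₀ n := by
    show sE f G p m hpm σ hσ n ≫ G.map (f.cechNerve.map (SimplexCategory.δ 0).op) = 𝟙 _
    apply hom_ext' f G
    intro i
    rw [Category.assoc, map_cechNerve_pr, Category.id_comp]
    exact sE_pr_succ f G p m hpm σ hσ n i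
  s_comp_δ n i := by
    show sE f G p m hpm σ hσ (n + 1) ≫ G.map (f.cechNerve.map (SimplexCategory.δ i.succ).op) =
      G.map (f.cechNerve.map (SimplexCategory.δ i).op) ≫ sE f G p m hpm σ hσ n
    apply hom_ext' f G
    intro j
    rw [Category.assoc, map_cechNerve_pr, Category.assoc]
    induction j using Fin.cases with
    | zero =>
      rw [sE_pr_zero, ← Category.assoc, map_cechNerve_aug f G p m hpm]
      have : (SimplexCategory.δ i.succ).toOrderHom 0 = 0 := by
        simp [SimplexCategory.δ]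
      rw [this]
      exact sE_pr_zero f G p m hpm σ hσ (n + 1)
    | succ j =>
      rw [sE_pr_succ, map_cechNerve_pr]
      have : (SimplexCategory.δ i.succ).toOrderHom j.succ = ((SimplexCategory.δ i).toOrderHom j).succ := by
        simp [SimplexCategory.δ]
      rw [this]
      exact sE_pr_succ f G p m hpm σ hσ (n + 1) _
  s_comp_σ n i := by
    show sE f G p m hpm σ hσ n ≫ G.map (f.cechNerve.map (SimplexCategory.σ i.succ).op) =
      G.map (f.cechNerve.map (SimplexCategory.σ i).op) ≫ sE f G p m hpm σ hσ (n + 1)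
    apply hom_ext' f G
    intro j
    rw [Category.assoc, map_cechNerve_pr, Category.assoc]
    induction j using Fin.cases with
    | zero =>
      rw [sE_pr_zero, ← Category.assoc, map_cechNerve_aug f G p m hpm]
      have : (SimplexCategory.σ i.succ).toOrderHom 0 = 0 := by
        simp [SimplexCategory.σ]
      rw [this]
      exact sE_pr_zero f G p m hpm σ hσ n
    | succ j =>
      rw [sE_pr_succ, map_cechNerve_pr]
      have : (SimplexCategory.σ i.succ).toOrderHom j.succ = ((SimplexCategory.σ i).toOrderHom j).succ := by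
        simp [SimplexCategory.σ]
      rw [this]
      exact sE_pr_succ f G p m hpm σ hσ n _

end Groth.Agent.H31.CechExtra
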