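import Mathlib
import Groth.Agent.H31.CechExtra
import Groth.Agent.H31.AFMCMap

namespace Groth.Agent.H31.CechRes

open CategoryTheory Limits Simplicial Opposite SimplicialObject AlgebraicTopology

universe u

variable {C : Type u} [SmallCategory C] (J : GrothendieckTopology C)

/-- free abelian presheaf. -/
abbrev Wfree : (Cᵒᵖ ⥤ Type u) ⥤ (Cᵒᵖ ⥤ AddCommGrpCat.{u}) :=
  (Functor.whiskeringRight Cᵒᵖ _ _).obj AddCommGrpCat.free.{u}

/-- sections over `U` of a sheaf of sets. -/
abbrev GU (U : Cᵒᵖ) : Sheaf J (Type u) ⥤ Type u :=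
  sheafToPresheaf J (Type u) ⋙ (evaluation Cᵒᵖ (Type u)).obj U

variable {J} {K' K : Sheaf J (Type u)} (f : K' ⟶ K)

instance (U : Cᵒᵖ) (n : ℕ) : PreservesLimit
    (WidePullbackShape.wideCospan (Arrow.mk f).right (fun _ : Fin (n + 1) => (Arrow.mk f).left)
      fun _ => (Arrow.mk f).hom) (GU J U) := inferInstance

/-- the image presheaf. -/
abbrev Im : Subfunctor K.obj := Subfunctor.range f.hom

/-- The Čech nerve as presheaves, augmented over the image presheaf. -/
noncomputable def augT : SimplicialObject.Augmented (Cᵒᵖ ⥤ Type u) where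
  left := (Arrow.mk f).cechNerve ⋙ sheafToPresheaf J _
  right := (Im f).toFunctor
  hom :=
    { app := fun n => (WidePullback.π (fun _ : Fin (n.unop.len + 1) => (Arrow.mk f).hom) 0).hom ≫
        Subfunctor.toRange f.hom
      naturality := fun n n' θ => by
        rw [← cancel_mono (Im f).ι]
        have h1 : ∀ (k : ℕ) (i : Fin (k + 1)),
            (WidePullback.π (fun _ : Fin (k + 1) => (Arrow.mk f).hom) i).hom ≫ f.hom =
              (WidePullback.base (fun _ : Fin (k + 1) => (Arrow.mk f).hom)).hom := fun k i => by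
          have := WidePullback.π_arrow (fun _ : Fin (k + 1) => (Arrow.mk f).hom) i
          exact congrArg (fun a => a.hom) this
        have h2 : ((Arrow.mk f).cechNerve.map θ).hom ≫
            (WidePullback.base (fun _ : Fin (n'.unop.len + 1) => (Arrow.mk f).hom)).hom =
              (WidePullback.base (fun _ : Fin (n.unop.len + 1) => (Arrow.mk f).hom)).hom := by
          have := WidePullback.lift_base (fun _ : Fin (n'.unop.len + 1) => (Arrow.mk f).hom)
            (WidePullback.base (fun _ : Fin (n.unop.len + 1) => (Arrow.mk f).hom))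
            (fun i => WidePullback.π _ (θ.unop.toOrderHom i)) (by simp)
          exact congrArg (fun a => a.hom) this
        simp only [Category.assoc, Subfunctor.toRange_ι, Functor.const_obj_map, Category.id_comp]
        erw [h1, h1]
        exact h2 }


section sectionwise

variable (U : Cᵒᵖ)

/-- surjection onto the image. -/
noncomputable abbrev pU : (GU J U).obj K' ⟶ (Im f).toFunctor.obj U := (Subfunctor.toRange f.hom).app U

/-- inclusion of the image. -/
noncomputable abbrev mU : (Im f).toFunctor.obj U ⟶ (GU J U).obj K := (Im f).ι.app U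

lemma hpm : pU f U ≫ mU f U = (GU J U).map f := rfl

instance : Mono (mU f U) := by
  rw [mono_iff_injective]
  intro a b h
  exact Subtype.ext h

/-- a section of the surjection onto the image. -/
noncomputable def σU : (Im f).toFunctor.obj U ⟶ (GU J U).obj K' :=
  ↾(fun y => y.2.choose)

lemma hσ : σU f U ≫ pU f U = 𝟙 _ := by
  ext y
  exact Subtype.ext y.2.choose_spec

/-- sections over `U` of the Čech nerve, augmented over the image. -/
noncomputable abbrev augU : SimplicialObject.Augmented (Type u) :=
  CechExtra.augI (Arrow.mk f) (GU J U) (pU f U) (mU f U) (hpm f U)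

noncomputable def edU : SimplicialObject.Augmented.ExtraDegeneracy (augU f U) :=
  CechExtra.extraDegeneracy (Arrow.mk f) (GU J U) (pU f U) (mU f U) (hpm f U) (σU f U) (hσ f U)

/-- the presheaf-level augmented simplicial abelian presheaf. -/
noncomputable abbrev Y' : SimplicialObject.Augmented (Cᵒᵖ ⥤ AddCommGrpCat.{u}) :=
  ((SimplicialObject.Augmented.whiskering _ _).obj Wfree).obj (augT f)

noncomputable def eU :
    ((SimplicialObject.Augmented.whiskering _ _).obj ((evaluation Cᵒᵖ AddCommGrpCat.{u}).obj U)).obj (Y' f) ≅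
      ((SimplicialObject.Augmented.whiskering _ _).obj AddCommGrpCat.free.{u}).obj (augU f U) :=
  Iso.refl _

end sectionwise

lemma quasiIso_ε_iff_of_iso {𝒟 : Type*} [Category 𝒟] [Preadditive 𝒟] [HasZeroObject 𝒟]
    [CategoryWithHomology 𝒟] {A B : SimplicialObject.Augmented 𝒟} (e : A ≅ B) :
    QuasiIso (AlternatingFaceMapComplex.ε.app A) ↔ QuasiIso (AlternatingFaceMapComplex.ε.app B) :=
  quasiIso_iff_of_arrow_mk_iso _ _
    (Arrow.isoMk ((SimplicialObject.Augmented.drop ⋙ alternatingFaceMapComplex 𝒟).mapIso e)
      ((SimplicialObject.Augmented.point ⋙ ChainComplex.single₀ 𝒟).mapIso e)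
      (AlternatingFaceMapComplex.ε.naturality e.hom))

lemma quasiIso_ε_Y' : QuasiIso (AlternatingFaceMapComplex.ε.app (Y' f)) := by
  rw [HomologicalComplex.quasiIso_iff_evaluation]
  intro U
  rw [AFMCMap.quasiIso_map_ε_iff, quasiIso_ε_iff_of_iso (eU f U)]
  exact (((edU f U).map AddCommGrpCat.free.{u}).homotopyEquiv).quasiIso_hom


/-- the inclusion of the free presheaf on the image. -/
noncomputable abbrev jj : Wfree.obj (Im f).toFunctor ⟶ Wfree.obj K.obj := Wfree.map (Im f).ι

lemma W_ι [Epi f] : J.W (Im f).ι := by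
  have hls : Presheaf.IsLocallySurjective J f.hom := (Sheaf.isLocallySurjective_iff_epi f).2 inferInstance
  have : Presheaf.IsLocallySurjective J (Im f).ι :=
    Presheaf.isLocallySurjective_of_isLocallySurjective_fac J (Subfunctor.toRange_ι f.hom)
  have : Presheaf.IsLocallyInjective J (Im f).ι :=
    Presheaf.isLocallyInjective_of_injective J _ (fun U a b h => Subtype.ext h)
  exact J.W_of_isLocallyBijective _

lemma W_jj [Epi f] : J.W (jj f) := by
  intro Z hZ
  refine ((Adjunction.whiskerRight Cᵒᵖ AddCommGrpCat.adj.{u}).map_comp_bijective_iff (Im f).ι Z).2 ?_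
  exact W_ι f _ ((Presheaf.isSheaf_iff_isSheaf_forget J Z (forget _)).1 hZ)

instance isIso_map_jj [Epi f] : IsIso ((presheafToSheaf J AddCommGrpCat.{u}).map (jj f)) :=
  (J.W_iff _).1 (W_jj f)


/-- the free abelian presheaves on the Čech nerve, augmented over `ℤ[K]`. -/
noncomputable abbrev YY : SimplicialObject.Augmented (Cᵒᵖ ⥤ AddCommGrpCat.{u}) :=
  ((SimplicialObject.Augmented.whiskering _ _).obj (sheafToPresheaf J (Type u) ⋙ Wfree)).obj
    (Arrow.mk f).augmentedCechNerve

lemma ε_YY_eq : AlternatingFaceMapComplex.ε.app (YY f) =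
    AlternatingFaceMapComplex.ε.app (Y' f) ≫ (ChainComplex.single₀ _).map (jj f) := by
  apply HomologicalComplex.to_single_hom_ext
  rw [HomologicalComplex.comp_f, AlternatingFaceMapComplex.ε_app_f_zero,
    AlternatingFaceMapComplex.ε_app_f_zero, ChainComplex.single₀_map_f_zero]
  have h1 : (WidePullback.π (fun _ : Fin (0 + 1) => (Arrow.mk f).hom) 0).hom ≫ f.hom =
      (WidePullback.base (fun _ : Fin (0 + 1) => (Arrow.mk f).hom)).hom := by
    have := WidePullback.π_arrow (fun _ : Fin (0 + 1) => (Arrow.mk f).hom) 0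
    exact congrArg (fun a => a.hom) this
  show Wfree.map (WidePullback.base (fun _ : Fin (0 + 1) => (Arrow.mk f).hom)).hom ≫ 𝟙 _ =
    (Wfree.map ((WidePullback.π (fun _ : Fin (0 + 1) => (Arrow.mk f).hom) 0).hom ≫
      Subfunctor.toRange f.hom) ≫ 𝟙 _) ≫ Wfree.map (Im f).ι
  rw [Category.comp_id, Category.comp_id, ← Functor.map_comp, Category.assoc,
    Subfunctor.toRange_ι, h1]


/-- comparison of the two ways of whiskering. -/
noncomputable def eYY :
    ((SimplicialObject.Augmented.whiskering _ _).obj
      (Sheaf.composeAndSheafify J AddCommGrpCat.free.{u})).obj (Arrow.mk f).augmentedCechNerve ≅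
    ((SimplicialObject.Augmented.whiskering _ _).obj (presheafToSheaf J AddCommGrpCat.{u})).obj (YY f) :=
  Comma.isoMk (Iso.refl _) (Iso.refl _) (by
    ext n : 2
    dsimp [SimplicialObject.Augmented.whiskering, SimplicialObject.Augmented.whiskeringObj,
      Sheaf.composeAndSheafify]
    have h : (YY f).hom.app n = Functor.whiskerRight
        ((Arrow.mk f).augmentedCechNerve.hom.app n).hom AddCommGrpCat.free.{u} := Category.comp_id _
    rw [h]
    erw [Category.id_comp, Category.comp_id])

theorem quasiIso_free_cechNerve [Epi f] :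
    QuasiIso ((AlternatingFaceMapComplex.ε (C := Sheaf J AddCommGrpCat.{u})).app
      (((SimplicialObject.Augmented.whiskering _ _).obj
        (Sheaf.composeAndSheafify J AddCommGrpCat.free.{u})).obj
        (Arrow.mk f).augmentedCechNerve)) := by
  rw [quasiIso_ε_iff_of_iso (eYY f), ← AFMCMap.quasiIso_map_ε_iff]
  have h0 : ((presheafToSheaf J AddCommGrpCat.{u}).mapHomologicalComplex _).map
      (AlternatingFaceMapComplex.ε.app (YY f)) =
      ((presheafToSheaf J AddCommGrpCat.{u}).mapHomologicalComplex _).map
        (AlternatingFaceMapComplex.ε.app (Y' f)) ≫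
      ((presheafToSheaf J AddCommGrpCat.{u}).mapHomologicalComplex _).map
        ((ChainComplex.single₀ _).map (jj f)) := by
    rw [ε_YY_eq]
    exact Functor.map_comp _ _ _
  rw [h0]
  have := quasiIso_ε_Y' f
  have h2 : IsIso (((presheafToSheaf J AddCommGrpCat.{u}).mapHomologicalComplex _).map
      ((ChainComplex.single₀ _).map (jj f))) :=
    (NatIso.isIso_map_iff (HomologicalComplex.singleMapHomologicalComplex
      (presheafToSheaf J AddCommGrpCat.{u}) (ComplexShape.down ℕ) 0) (jj f)).2
      (show IsIso ((HomologicalComplex.single _ (ComplexShape.down ℕ) 0).map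
        ((presheafToSheaf J AddCommGrpCat.{u}).map (jj f))) from inferInstance)
  have h1 : QuasiIso (((presheafToSheaf J AddCommGrpCat.{u}).mapHomologicalComplex _).map
      (AlternatingFaceMapComplex.ε.app (Y' f))) := inferInstance
  have h3 : QuasiIso (((presheafToSheaf J AddCommGrpCat.{u}).mapHomologicalComplex _).map
      ((ChainComplex.single₀ _).map (jj f))) := inferInstance
  exact quasiIso_comp (hφ := h1) (hφ' := h3) _ _

end Groth.Agent.H31.CechRes
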