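import Mathlib

namespace Groth.Agent.H31.ResShift

open CategoryTheory Abelian Limits HomologicalComplex

universe w v u

variable {A : Type u} [Category.{v} A] [Abelian A] [HasExt.{w} A] (F : A)

/-- `Z` is `Hom(-, F)`-acyclic. -/
def Acyc (Z : A) : Prop := ∀ j : ℕ, Subsingleton (Ext Z F (j + 1))

variable {F}

lemma Acyc.of_iso {Z Z' : A} (e : Z ≅ Z') (h : Acyc F Z) : Acyc F Z' := by
  intro j
  have := h j
  refine subsingleton_of_forall_eq 0 fun x => ?_
  have h1 : x = (Ext.mk₀ e.inv).comp ((Ext.mk₀ e.hom).comp x (zero_add _)) (zero_add _) := by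
    rw [Ext.mk₀_comp_mk₀_assoc, e.inv_hom_id, Ext.mk₀_id_comp]
  rw [h1, Subsingleton.elim ((Ext.mk₀ e.hom).comp x (zero_add _)) 0, Ext.comp_zero]

variable {S : ShortComplex A} (hS : S.ShortExact)

include hS in
lemma acyc_X₁ (h₂ : Acyc F S.X₂) (h₃ : Acyc F S.X₃) : Acyc F S.X₁ := by
  intro j
  have := h₂ j
  have := h₃ (j + 1)
  refine subsingleton_of_forall_eq 0 fun x₁ => ?_
  obtain ⟨x₂, hx₂⟩ := Ext.contravariant_sequence_exact₁ hS F x₁ (n₁ := j + 1 + 1) (by omega)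
    (Subsingleton.elim _ _)
  rw [← hx₂, Subsingleton.elim x₂ 0, Ext.comp_zero]

include hS in
lemma exists_extension [Subsingleton (Ext S.X₃ F 1)] (ψ : S.X₁ ⟶ F) :
    ∃ ψ' : S.X₂ ⟶ F, S.f ≫ ψ' = ψ := by
  obtain ⟨x₂, hx₂⟩ := Ext.contravariant_sequence_exact₁ hS F (Ext.mk₀ ψ) (n₁ := 1) (by omega)
    (Subsingleton.elim _ _)
  obtain ⟨ψ', rfl⟩ := (Ext.mk₀_bijective _ _).surjective x₂
  refine ⟨ψ', (Ext.mk₀_bijective _ _).injective ?_⟩
  rw [← hx₂, Ext.mk₀_comp_mk₀]


section resolution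

variable {P : ChainComplex A ℕ} {M : A} (π : P ⟶ (ChainComplex.single₀ A).obj M) [QuasiIso π]

include π in
lemma exactAt_succ (n : ℕ) : P.ExactAt (n + 1) := by
  rw [← quasiIsoAt_iff_exactAt' π (n + 1) (ChainComplex.exactAt_succ_single_obj _ _)]
  infer_instance

lemma mono_fromOpcycles_of_exactAt (K : ChainComplex A ℕ) (i j : ℕ)
    (hj : (ComplexShape.down ℕ).next i = j) (h : K.ExactAt i) : Mono (K.fromOpcycles i j) := by
  subst hj
  exact (K.sc i).exact_iff_mono_fromOpcycles.1 h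

/-- the short complex `0 → opcycles (n+1) → P_n → opcycles n → 0`. -/
noncomputable def sesOp (P : ChainComplex A ℕ) (n : ℕ) : ShortComplex A :=
  ShortComplex.mk (P.fromOpcycles (n + 1) n) (P.pOpcycles n) (by
    rw [← cancel_epi (P.pOpcycles (n + 1)), p_fromOpcycles_assoc, d_pOpcycles, comp_zero])

include π in
lemma sesOp_shortExact (n : ℕ) : (sesOp P n).ShortExact := by
  have hm : Mono (P.fromOpcycles (n + 1) n) :=
    mono_fromOpcycles_of_exactAt P (n + 1) n (by simp) (exactAt_succ π n)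
  exact
    { exact := ShortComplex.exact_of_g_is_cokernel _
        (isCokernelOfComp (P.pOpcycles (n + 1)) (P.d (n + 1) n)
          (P.opcyclesIsCokernel (n + 1) n (by simp)) _ (P.p_fromOpcycles (n + 1) n))
      mono_f := hm
      epi_g := (inferInstance : Epi (P.pOpcycles n)) }

include π in
lemma acyc_opcycles (hP : ∀ n, Acyc F (P.X n)) (hM : Acyc F M) : ∀ n, Acyc F (P.opcycles n)
  | 0 => hM.of_iso (P.isoHomologyι₀.symm ≪≫ isoOfQuasiIsoAt π 0 ≪≫
      singleObjHomologySelfIso (ComplexShape.down ℕ) 0 M).symm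
  | n + 1 => acyc_X₁ (sesOp_shortExact π n) (hP n) (acyc_opcycles hP hM n)

include π in
/-- In a resolution by `Hom(-,F)`-acyclic objects of a `Hom(-,F)`-acyclic object, every cocycle of
positive degree of `Hom(P, F)` is a coboundary. -/
theorem exists_factor (hP : ∀ n, Acyc F (P.X n)) (hM : Acyc F M) (n : ℕ)
    (φ : P.X (n + 1) ⟶ F) (hφ : P.d (n + 2) (n + 1) ≫ φ = 0) :
    ∃ ψ : P.X n ⟶ F, P.d (n + 1) n ≫ ψ = φ := by
  have : Subsingleton (Ext (sesOp P n).X₃ F 1) := acyc_opcycles π hP hM n 0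
  obtain ⟨ψ, hψ⟩ := exists_extension (sesOp_shortExact π n)
    (P.descOpcycles φ (n + 2) (by simp) hφ)
  refine ⟨ψ, ?_⟩
  have h1 : P.d (n + 1) n = P.pOpcycles (n + 1) ≫ P.fromOpcycles (n + 1) n :=
    (P.p_fromOpcycles (n + 1) n).symm
  rw [h1, Category.assoc]
  erw [hψ]
  exact P.p_descOpcycles φ (n + 2) (by simp) hφ

end resolution

end Groth.Agent.H31.ResShift
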