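import Groth.Prelude.Def_CohCx
import Groth.Agent.H31.CechRes
import Groth.Agent.H31.ResShift

open CategoryTheory Limits Opposite AlgebraicTopology Simplicial

universe u

namespace Groth.Agent.H31.CechAcyc

variable {C : Type u} [SmallCategory C] {J : GrothendieckTopology C}
  (F : Sheaf J AddCommGrpCat.{u}) {K' K : Sheaf J (Type u)} (f : K' ⟶ K)

/-- the augmented simplicial abelian sheaf `ℤ[Čech nerve]`. -/
noncomputable abbrev WW : SimplicialObject.Augmented (Sheaf J AddCommGrpCat.{u}) :=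
  ((SimplicialObject.Augmented.whiskering _ _).obj
    (Sheaf.composeAndSheafify J AddCommGrpCat.free.{u})).obj (Arrow.mk f).augmentedCechNerve

/-- the chain complex `ℤ[Čech nerve]`. -/
noncomputable abbrev PP : ChainComplex (Sheaf J AddCommGrpCat.{u}) ℕ :=
  AlternatingFaceMapComplex.obj (WW f).left

lemma d_apply (n : ℕ) (x : (CohCx.cechNerveCx F f).X n) :
    ((CohCx.cechNerveCx F f).d n (n + 1)) x = ((PP f).d (n + 1) n ≫ x : (PP f).X (n + 1) ⟶ F) := by
  have h1 : (CohCx.cechNerveCx F f).d n (n + 1) = AlternatingCofaceMapComplex.objD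
      ((Arrow.mk f).cechNerve.rightOp ⋙ CohCx.HK0Functor J F) n := by
    dsimp only [CohCx.cechNerveCx, alternatingCofaceMapComplex, AlternatingCofaceMapComplex.obj]
    exact CochainComplex.of_d _ _ _
  rw [h1, AlternatingFaceMapComplex.obj_d_eq, AlternatingCofaceMapComplex.objD]
  rw [Preadditive.sum_comp]
  let evx : ((CohCx.cechNerveCx F f).X n ⟶ (CohCx.cechNerveCx F f).X (n + 1)) →+
      ((CohCx.cechNerveCx F f).X (n + 1)) :=
    (AddMonoidHom.eval x).comp AddCommGrpCat.homAddEquiv.toAddMonoidHom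
  show evx (∑ i : Fin (n + 2), (-1 : ℤ) ^ (i : ℕ) •
    CosimplicialObject.δ ((Arrow.mk f).cechNerve.rightOp ⋙ CohCx.HK0Functor J F) i) = _
  rw [map_sum]
  refine Finset.sum_congr rfl (fun i _ => ?_)
  refine (map_zsmul evx _ _).trans ?_
  rw [Preadditive.zsmul_comp]
  rfl


theorem cechNerve_acyclic (hF : CohCx.IsTotallyAcyclic F) [Epi f] (q : ℕ) :
    IsZero ((CohCx.cechNerveCx F f).homology (q + 1)) := by
  rw [← HomologicalComplex.exactAt_iff_isZero_homology,
    HomologicalComplex.exactAt_iff' _ q (q + 1) (q + 2) (by simp) (by simp),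
    ShortComplex.ab_exact_iff]
  intro x hx
  have hq : QuasiIso (AlternatingFaceMapComplex.ε.app (WW f)) := CechRes.quasiIso_free_cechNerve f
  have hP : ∀ n, ResShift.Acyc F ((PP f).X n) := fun n j => hF _ j
  have hM : ResShift.Acyc F (WW f).right := fun j => hF K j
  obtain ⟨ψ, hψ⟩ := ResShift.exists_factor (AlternatingFaceMapComplex.ε.app (WW f)) hP hM q x
    ((d_apply F f (q + 1) x).symm.trans hx)
  exact ⟨ψ, (d_apply F f q ψ).trans hψ⟩

end Groth.Agent.H31.CechAcyc
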