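import Groth.Agent.H31.SieveExt

namespace Groth.Agent.H31.LocTriv

open CategoryTheory Abelian Limits Opposite
open Groth.Agent.H31.SieveExt

universe u

variable {C : Type u} [SmallCategory C] {J : GrothendieckTopology C}

lemma isLocallySurjective_pullback_fst {K B E : Sheaf J (Type u)} (a : K ⟶ B) (g : E ⟶ B)
    [Presheaf.IsLocallySurjective J g.hom] :
    Presheaf.IsLocallySurjective J (pullback.fst a g).hom where
  imageSieve_mem {U} k := by
    refine J.superset_covering ?_ (Presheaf.imageSieve_mem J g.hom (U := op U) (a.hom.app _ k))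
    rintro V h ⟨e, he⟩
    have hpb := (IsPullback.of_hasPullback a g).map
      (sheafToPresheaf J (Type u) ⋙ (evaluation Cᵒᵖ (Type u)).obj (op V))
    have hr := Types.range_fst_of_isPullback hpb
    have hmem : K.obj.map h.op k ∈ Set.range ((sheafToPresheaf J (Type u) ⋙
        (evaluation Cᵒᵖ (Type u)).obj (op V)).map (pullback.fst a g)) := by
      rw [hr]
      refine ⟨e, he.trans ?_⟩
      exact (NatTrans.naturality_apply a.hom h.op k).symm
    obtain ⟨x, hx⟩ := hmem
    exact ⟨x, hx⟩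

/-- the sheaf of sets underlying an abelian sheaf. -/
noncomputable abbrev setOf (G : Sheaf J AddCommGrpCat.{u}) : Sheaf J (Type u) :=
  (sheafCompose J (forget AddCommGrpCat.{u})).obj G

/-- `ℤ[-]` on morphisms. -/
noncomputable abbrev ZsMap {K' K : Sheaf J (Type u)} (f : K' ⟶ K) : Zs J K'.obj ⟶ Zs J K.obj :=
  (presheafToSheaf J AddCommGrpCat.{u}).map (Functor.whiskerRight f.hom AddCommGrpCat.free.{u})

lemma homEquiv_naturality_left {T T' : Cᵒᵖ ⥤ Type u} (τ : T' ⟶ T) {G : Sheaf J AddCommGrpCat.{u}}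
    (φ : Zs J T ⟶ G) :
    homEquiv J T' G ((presheafToSheaf J AddCommGrpCat.{u}).map
      (Functor.whiskerRight τ AddCommGrpCat.free.{u}) ≫ φ) = τ ≫ homEquiv J T G φ := by
  simp only [homEquiv, Equiv.trans_apply, Adjunction.homEquiv_naturality_left]
  exact (Adjunction.whiskerRight Cᵒᵖ AddCommGrpCat.adj.{u}).homEquiv_naturality_left τ _

/-- `Hom(ℤ[K], G) ≃ Hom(K, G)` for sheaves of sets. -/
noncomputable def homEquivS (K : Sheaf J (Type u)) (G : Sheaf J AddCommGrpCat.{u}) :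
    (Zs J K.obj ⟶ G) ≃ (K ⟶ setOf G) :=
  (homEquiv J K.obj G).trans
    { toFun := fun a => ⟨a⟩
      invFun := fun b => b.hom
      left_inv := fun _ => rfl
      right_inv := fun _ => rfl }

lemma homEquivS_naturality_left {K' K : Sheaf J (Type u)} (f : K' ⟶ K) {G : Sheaf J AddCommGrpCat.{u}}
    (φ : Zs J K.obj ⟶ G) : homEquivS K' G (ZsMap f ≫ φ) = f ≫ homEquivS K G φ := by
  ext : 1
  exact homEquiv_naturality_left f.hom φ

lemma homEquivS_naturality_right {K : Sheaf J (Type u)} {G G' : Sheaf J AddCommGrpCat.{u}}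
    (φ : Zs J K.obj ⟶ G) (g : G ⟶ G') :
    homEquivS K G' (φ ≫ g) = homEquivS K G φ ≫ (sheafCompose J (forget AddCommGrpCat.{u})).map g := by
  ext : 1
  exact homEquiv_naturality J K.obj φ g


lemma step_zero {S : ShortComplex (Sheaf J AddCommGrpCat.{u})} (hS : S.ShortExact) [Injective S.X₂]
    (K : Sheaf J (Type u)) (ξ : Ext (Zs J K.obj) S.X₁ 1) :
    ∃ (K' : Sheaf J (Type u)) (f : K' ⟶ K), Epi f ∧
      (Ext.mk₀ (ZsMap f)).comp ξ (zero_add _) = 0 := by
  obtain ⟨x₃, hx₃⟩ := Ext.covariant_sequence_exact₁ _ hS ξ (Ext.eq_zero_of_injective _)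
    (n₀ := 0) rfl
  obtain ⟨s, rfl⟩ := (Ext.mk₀_bijective _ _).surjective x₃
  have : Epi S.g := hS.epi_g
  have hls : Presheaf.IsLocallySurjective J S.g.hom :=
    (Sheaf.isLocallySurjective_iff_epi' _ S.g).2 this
  let gs := (sheafCompose J (forget AddCommGrpCat.{u})).map S.g
  have : Presheaf.IsLocallySurjective J gs.hom :=
    (inferInstance : Presheaf.IsLocallySurjective J
      (Functor.whiskerRight S.g.hom (forget AddCommGrpCat.{u})))
  let st := homEquivS K _ s
  have := isLocallySurjective_pullback_fst st gs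
  refine ⟨pullback st gs, pullback.fst st gs,
    (Sheaf.isLocallySurjective_iff_epi (pullback.fst st gs)).1 this, ?_⟩
  let t := (homEquivS (pullback st gs) S.X₂).symm (pullback.snd st gs)
  have key : ZsMap (pullback.fst st gs) ≫ s = t ≫ S.g := by
    apply (homEquivS _ _).injective
    rw [homEquivS_naturality_left, homEquivS_naturality_right, Equiv.apply_symm_apply]
    exact pullback.condition
  rw [← hx₃, ← Ext.comp_assoc_of_second_deg_zero, Ext.mk₀_comp_mk₀, key, ← Ext.mk₀_comp_mk₀,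
    Ext.comp_assoc_of_second_deg_zero, hS.comp_extClass, Ext.comp_zero]

lemma step_succ {S : ShortComplex (Sheaf J AddCommGrpCat.{u})} (hS : S.ShortExact) [Injective S.X₂]
    (p : ℕ) (K : Sheaf J (Type u))
    (ih : ∀ (ξ : Ext (Zs J K.obj) S.X₃ (p + 1)), ∃ (K' : Sheaf J (Type u)) (f : K' ⟶ K), Epi f ∧
      (Ext.mk₀ (ZsMap f)).comp ξ (zero_add _) = 0)
    (ξ : Ext (Zs J K.obj) S.X₁ (p + 1 + 1)) :
    ∃ (K' : Sheaf J (Type u)) (f : K' ⟶ K), Epi f ∧
      (Ext.mk₀ (ZsMap f)).comp ξ (zero_add _) = 0 := by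
  obtain ⟨x₃, hx₃⟩ := Ext.covariant_sequence_exact₁ _ hS ξ (Ext.eq_zero_of_injective _)
    (n₀ := p + 1) rfl
  obtain ⟨K', f, hf, h0⟩ := ih x₃
  refine ⟨K', f, hf, ?_⟩
  rw [← hx₃, ← Ext.comp_assoc (a₁₂ := p + 1) _ _ _ (by omega) (by omega) (by omega), h0,
    Ext.zero_comp]

/-- Ext classes of positive degree out of `ℤ[K]` die on an epimorphic cover of `K`. -/
theorem exists_epi_comp_eq_zero (p : ℕ) : ∀ (F : Sheaf J AddCommGrpCat.{u}) (K : Sheaf J (Type u))
    (ξ : Ext (Zs J K.obj) F (p + 1)),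
    ∃ (K' : Sheaf J (Type u)) (f : K' ⟶ K), Epi f ∧
      (Ext.mk₀ (ZsMap f)).comp ξ (zero_add _) = 0 := by
  induction p with
  | zero =>
    intro F K ξ
    exact step_zero (ses_shortExact J F) K ξ
  | succ p ih =>
    intro F K ξ
    exact step_succ (ses_shortExact J F) p K (ih _ K) ξ

end Groth.Agent.H31.LocTriv
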