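import Groth.Agent.H31.ResShift

namespace Groth.Agent.H31.ResShift

open CategoryTheory Abelian Limits ChainComplex HomologicalComplex

universe w v u

variable {A : Type u} [Category.{v} A] [Abelian A] [HasExt.{w} A] {F : A}

section splice

variable {P : ChainComplex A ℕ} {M : A} (π : P ⟶ (ChainComplex.single₀ A).obj M)

/-- `M` in degree `0`, opcycles in positive degrees. -/
noncomputable def Cob (_ : P ⟶ (ChainComplex.single₀ A).obj M) : ℕ → A
  | 0 => M
  | n + 1 => P.opcycles (n + 1)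

/-- the projection `P_n ⟶ Cob n`. -/
noncomputable def qq : ∀ n, P.X n ⟶ Cob π n
  | 0 => π.f 0
  | n + 1 => P.pOpcycles (n + 1)

/-- the inclusion `Cob (n+1) ⟶ P_n`. -/
noncomputable def ii (n : ℕ) : Cob π (n + 1) ⟶ P.X n := P.fromOpcycles (n + 1) n

lemma d_comp_π_f_zero : P.d 1 0 ≫ π.f 0 = 0 := by
  rw [← π.comm 1 0, single_obj_d, comp_zero]

lemma ii_qq (n : ℕ) : ii π n ≫ qq π n = 0 := by
  cases n with
  | zero =>
    show P.fromOpcycles 1 0 ≫ π.f 0 = 0
    rw [← cancel_epi (P.pOpcycles 1), comp_zero, p_fromOpcycles_assoc, d_comp_π_f_zero]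
  | succ n =>
    show P.fromOpcycles (n + 2) (n + 1) ≫ P.pOpcycles (n + 1) = 0
    rw [← cancel_epi (P.pOpcycles (n + 2)), comp_zero, p_fromOpcycles_assoc, d_pOpcycles]

/-- the splicing short complexes. -/
noncomputable def spl (n : ℕ) : ShortComplex A := ShortComplex.mk (ii π n) (qq π n) (ii_qq π n)

variable [QuasiIso π]

set_option backward.isDefEq.respectTransparency.types false in
set_option backward.defeqAttrib.useBackward true in
/-- `M` is the cokernel of `P_1 ⟶ P_0`. -/
noncomputable def isColimitCokernelCofork :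
    IsColimit (CokernelCofork.ofπ (π.f 0) (d_comp_π_f_zero π)) := by
  refine IsColimit.ofIsoColimit (P.opcyclesIsCokernel 1 0 (by simp)) ?_
  refine Cofork.ext (P.isoHomologyι₀.symm ≪≫ isoOfQuasiIsoAt π 0 ≪≫
    singleObjHomologySelfIso _ _ _) ?_
  rw [← cancel_mono (singleObjHomologySelfIso (ComplexShape.down ℕ) 0 _).inv,
    ← cancel_mono (isoHomologyι₀ _).hom]
  dsimp
  simp only [isoHomologyι₀_inv_naturality_assoc, p_opcyclesMap_assoc, ChainComplex.single₀_obj_zero,
    Category.assoc, Iso.hom_inv_id, Category.comp_id, isoHomologyι_inv_hom_id,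
    singleObjHomologySelfIso_inv_homologyι, singleObjOpcyclesSelfIso_hom, ChainComplex.single₀ObjXSelf,
    Iso.refl_inv, Category.id_comp]

lemma spl_shortExact (n : ℕ) : (spl π n).ShortExact := by
  have hm : Mono (P.fromOpcycles (n + 1) n) :=
    mono_fromOpcycles_of_exactAt P (n + 1) n (by simp) (exactAt_succ π n)
  cases n with
  | zero =>
    have hc : IsColimit (CokernelCofork.ofπ (π.f 0) (ii_qq π 0)) :=
      isCokernelOfComp (P.pOpcycles 1) (P.d 1 0) (isColimitCokernelCofork π) _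
        (P.p_fromOpcycles 1 0)
    exact
      { exact := ShortComplex.exact_of_g_is_cokernel _ hc
        mono_f := hm
        epi_g := epi_of_isColimit_cofork hc }
  | succ n => exact sesOp_shortExact π (n + 1)

/-- Injectivity of restriction `Ext^{j+1}(Cob k, F) → Ext^{j+1}(P_k, F)` for `j ≤ p`, when
`Hom(P_k, F) → Hom(Cob (k+1), F)` is onto for all `k` and `Ext^i(P_k, F) = 0` for `1 ≤ i ≤ p`. -/
theorem restr_injective (p : ℕ)
    (hsurj : ∀ (k : ℕ) (ψ : Cob π (k + 1) ⟶ F), ∃ χ : P.X k ⟶ F, ii π k ≫ χ = ψ)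
    (hP : ∀ (k i : ℕ), i < p → Subsingleton (Ext (P.X k) F (i + 1))) :
    ∀ (j : ℕ), j ≤ p → ∀ (k : ℕ) (x : Ext (Cob π k) F (j + 1)),
      (Ext.mk₀ (qq π k)).comp x (zero_add _) = 0 → x = 0 := by
  intro j
  induction j with
  | zero =>
    intro _ k x hx
    obtain ⟨x₁, hx₁⟩ := Ext.contravariant_sequence_exact₃ (spl_shortExact π k) F x hx
      (n₀ := 0) (by omega)
    obtain ⟨ψ, rfl⟩ := (Ext.mk₀_bijective _ _).surjective x₁
    obtain ⟨χ, hχ⟩ := hsurj k ψ
    have h1 : Ext.mk₀ ψ = (Ext.mk₀ (spl π k).f).comp (Ext.mk₀ χ) (zero_add 0) := by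
      rw [Ext.mk₀_comp_mk₀]
      exact congrArg Ext.mk₀ hχ.symm
    rw [← hx₁, h1]
    exact (spl_shortExact π k).extClass_comp_assoc _
  | succ j ih =>
    intro hj k x hx
    obtain ⟨x₁, hx₁⟩ := Ext.contravariant_sequence_exact₃ (spl_shortExact π k) F x hx
      (n₀ := j + 1) (by omega)
    have := hP (k + 1) j (by omega)
    have h0 : x₁ = 0 := ih (by omega) (k + 1) x₁ (Subsingleton.elim _ _)
    rw [← hx₁, h0]
    exact Ext.comp_zero _ _ _ _ _

end splice

end Groth.Agent.H31.ResShift
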