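import Groth.Agent.H31.CechAcyc
import Groth.Agent.H31.ResShift2
import Groth.Agent.H31.LocTriv

open CategoryTheory Limits Opposite AlgebraicTopology Simplicial Abelian

universe u

namespace Groth.Agent.H31.CechAcyc

open Groth.Agent.H31.SieveExt Groth.Agent.H31.LocTriv

variable {C : Type u} [SmallCategory C] {J : GrothendieckTopology C}
  (F : Sheaf J AddCommGrpCat.{u})

lemma exact_of_homology_isZero {K' K : Sheaf J (Type u)} (f : K' ⟶ K) (q : ℕ)
    (h : IsZero ((CohCx.cechNerveCx F f).homology (q + 1)))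
    (x : (PP f).X (q + 1) ⟶ F) (hx : (PP f).d (q + 2) (q + 1) ≫ x = 0) :
    ∃ ψ : (PP f).X q ⟶ F, (PP f).d (q + 1) q ≫ ψ = x := by
  rw [← HomologicalComplex.exactAt_iff_isZero_homology,
    HomologicalComplex.exactAt_iff' _ q (q + 1) (q + 2) (by simp) (by simp),
    ShortComplex.ab_exact_iff] at h
  obtain ⟨ψ, hψ⟩ := h x ((d_apply F f (q + 1) x).trans hx)
  exact ⟨ψ, (d_apply F f q ψ).symm.trans hψ⟩

theorem isTotallyAcyclic_of_cech
    (h : ∀ (K' K : Sheaf J (Type u)) (f : K' ⟶ K), Epi f →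
      ∀ q : ℕ, IsZero ((CohCx.cechNerveCx F f).homology (q + 1))) :
    CohCx.IsTotallyAcyclic F := by
  intro K p
  induction p using Nat.strong_induction_on generalizing K with
  | _ p ih =>
    refine subsingleton_of_forall_eq 0 fun ξ => ?_
    obtain ⟨K', f, hf, h0⟩ := exists_epi_comp_eq_zero p F K ξ
    have hq : QuasiIso (AlternatingFaceMapComplex.ε.app (WW f)) := CechRes.quasiIso_free_cechNerve f
    have hsurj : ∀ (k : ℕ) (ψ : ResShift.Cob (AlternatingFaceMapComplex.ε.app (WW f)) (k + 1) ⟶ F),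
        ∃ χ : (PP f).X k ⟶ F, ResShift.ii (AlternatingFaceMapComplex.ε.app (WW f)) k ≫ χ = ψ := by
      intro k ψ
      obtain ⟨χ, hχ⟩ := exact_of_homology_isZero F f k (h K' K f hf k)
        ((PP f).pOpcycles (k + 1) ≫ ψ) (by rw [HomologicalComplex.d_pOpcycles_assoc, zero_comp])
      refine ⟨χ, ?_⟩
      show (PP f).fromOpcycles (k + 1) k ≫ χ = ψ
      rw [← cancel_epi ((PP f).pOpcycles (k + 1))]
      refine Eq.trans ?_ hχ
      exact (HomologicalComplex.p_fromOpcycles_assoc _ _ _ _)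
    have hP : ∀ (k i : ℕ), i < p → Subsingleton (Ext ((PP f).X k) F (i + 1)) :=
      fun k i hi => ih i hi _
    refine ResShift.restr_injective (AlternatingFaceMapComplex.ε.app (WW f)) p hsurj hP p le_rfl 0 ξ ?_
    have h1 : ResShift.qq (AlternatingFaceMapComplex.ε.app (WW f)) 0 =
        ZsMap (WidePullback.π (fun _ : Fin (0 + 1) => (Arrow.mk f).hom) 0) ≫ ZsMap f := by
      show (AlternatingFaceMapComplex.ε.app (WW f)).f 0 = _
      rw [AlternatingFaceMapComplex.ε_app_f_zero]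
      have h2 : WidePullback.π (fun _ : Fin (0 + 1) => (Arrow.mk f).hom) 0 ≫ f =
          WidePullback.base (fun _ : Fin (0 + 1) => (Arrow.mk f).hom) :=
        WidePullback.π_arrow (fun _ : Fin (0 + 1) => (Arrow.mk f).hom) 0
      show (Sheaf.composeAndSheafify J AddCommGrpCat.free.{u}).map
        (WidePullback.base (fun _ : Fin (0 + 1) => (Arrow.mk f).hom)) ≫ 𝟙 _ = _
      rw [Category.comp_id, ← h2, Functor.map_comp]
      rfl
    have h3 : (Ext.mk₀ (ZsMap (WidePullback.π (fun _ : Fin (0 + 1) => (Arrow.mk f).hom) 0) ≫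
        ZsMap f)).comp (ξ : Ext (Zs J K.obj) F (p + 1)) (zero_add _) = 0 := by
      rw [← Ext.mk₀_comp_mk₀, Ext.comp_assoc_of_second_deg_zero, h0, Ext.comp_zero]
    rw [h1]
    exact h3

end Groth.Agent.H31.CechAcyc
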