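import Groth.Agent.H31.CechExtra

namespace Groth.Agent.H31.CechExtra

open CategoryTheory Limits Simplicial Opposite SimplicialObject

universe v u v' u'

variable {𝒞 : Type u} [Category.{v} 𝒞] {𝒟 : Type u'} [Category.{v'} 𝒟]
variable (f : Arrow 𝒞)
  [∀ n : ℕ, HasWidePullback.{0} f.right (fun _ : Fin (n + 1) => f.left) fun _ => f.hom]
variable (G : 𝒞 ⥤ 𝒟)
  [∀ n : ℕ, PreservesLimit
    (WidePullbackShape.wideCospan f.right (fun _ : Fin (n + 1) => f.left) fun _ => f.hom) G]
  [HasWidePullbacks.{0} 𝒟]

/-- `G` of the `n`-th term of the Čech nerve is the `n`-th term of the Čech nerve of `G f`. -/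
noncomputable def cechIsoApp (n : ℕ) : G.obj (Cn f n) ≅
    widePullback.{0} (G.obj f.right) (fun _ : Fin (n + 1) => G.obj f.left) fun _ => G.map f.hom where
  hom := WidePullback.lift (G.map (bs f n)) (fun i => G.map (pr f n i)) (fun i => by
    rw [← G.map_comp]
    exact congrArg G.map (WidePullback.π_arrow _ i))
  inv := lift' f G (WidePullback.base _) (fun i => WidePullback.π _ i)
    (fun i => WidePullback.π_arrow _ i)
  hom_inv_id := by
    apply hom_ext' f G
    intro i
    rw [Category.assoc, lift'_pr, Category.id_comp]
    exact WidePullback.lift_π _ _ _ _ _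
  inv_hom_id := by
    apply WidePullback.hom_ext
    · intro i
      rw [Category.assoc, Category.id_comp, WidePullback.lift_π]
      exact lift'_pr f G _ _ _ i
    · rw [Category.assoc, Category.id_comp, WidePullback.lift_base]
      exact lift'_bs f G _ _ _

@[reassoc (attr := simp)]
lemma cechIsoApp_hom_π (n : ℕ) (i : Fin (n + 1)) :
    (cechIsoApp f G n).hom ≫ WidePullback.π _ i = G.map (pr f n i) :=
  WidePullback.lift_π _ _ _ _ _

@[reassoc (attr := simp)]
lemma cechIsoApp_hom_base (n : ℕ) :
    (cechIsoApp f G n).hom ≫ WidePullback.base _ = G.map (bs f n) :=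
  WidePullback.lift_base _ _ _ _


/-- `G` applied to the Čech nerve of `f` is the Čech nerve of `G f`. -/
noncomputable def cechNerveIso : f.cechNerve ⋙ G ≅ (Arrow.mk (G.map f.hom)).cechNerve :=
  NatIso.ofComponents (fun n => cechIsoApp f G n.unop.len) (fun {n n'} θ => by
    apply WidePullback.hom_ext
    · intro i
      have h1 : (Arrow.mk (G.map f.hom)).cechNerve.map θ ≫ WidePullback.π _ i =
          WidePullback.π _ (θ.unop.toOrderHom i) := WidePullback.lift_π _ _ _ _ _
      have h2 := map_cechNerve_pr f G (n := n.unop.len) (n' := n'.unop.len) θ.unop i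
      simp only [Category.assoc]
      erw [h1, cechIsoApp_hom_π, cechIsoApp_hom_π]
      exact h2
    · have h1 : (Arrow.mk (G.map f.hom)).cechNerve.map θ ≫ WidePullback.base _ =
          WidePullback.base _ := WidePullback.lift_base _ _ _ _
      have h2 : f.cechNerve.map θ ≫ bs f n'.unop.len = bs f n.unop.len :=
        WidePullback.lift_base _ _ _ _
      simp only [Category.assoc]
      erw [h1, cechIsoApp_hom_base, cechIsoApp_hom_base]
      rw [← h2, G.map_comp]
      rfl)


/-- `G` applied to the augmented Čech nerve of `f` is the augmented Čech nerve of `G f`. -/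
noncomputable def augmentedCechNerveIso :
    ((SimplicialObject.Augmented.whiskering _ _).obj G).obj f.augmentedCechNerve ≅
      (Arrow.mk (G.map f.hom)).augmentedCechNerve :=
  Comma.isoMk (cechNerveIso f G) (Iso.refl _) (by
    ext n
    have h1 := cechIsoApp_hom_base f G n.unop.len
    simp [SimplicialObject.Augmented.whiskering, SimplicialObject.Augmented.whiskeringObj,
      cechNerveIso]
    erw [h1]
    exact (Category.comp_id _).symm)

end Groth.Agent.H31.CechExtra
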