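import Groth.Agent.H31.ProjLoc1
import Groth.Agent.H5.ProjFormula
import Groth.Agent.H5.PullbackUnit
import Groth.Agent.H5.FinLocFreeOps
import Groth.Agent.H33.SchemeDer.BaseChange
import Groth.Agent.H33.LocCoh.Conservative

/-!
# The projection formula morphism `f_*M ⊗ E ⟶ f_*(M ⊗ f^*E)` is an isomorphism for `E` finite
locally free (any morphism `f`)
-/

set_option autoImplicit false
universe u
open CategoryTheory CategoryTheory.Limits AlgebraicGeometry TopologicalSpace Opposite
  Scheme.Modules Groth.Agent.H5.Stalk Groth.Agent.H5.Stalk.Tensor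
  Groth.Agent.H5.ProjFormula Groth.Agent.H5.PullbackTensor

namespace Groth.Agent.H31.ProjLoc

variable {X Y : Scheme.{u}} (f : X ⟶ Y) (M : X.Modules)

/-- `N ↦ f_*M ⊗ N` -/
noncomputable abbrev F₁ : Y.Modules ⥤ Y.Modules :=
  (DCoh.tensorBi (X := Y)).obj ((pushforward f).obj M)

/-- `N ↦ f_*(M ⊗ f^*N)` -/
noncomputable abbrev F₂ : Y.Modules ⥤ Y.Modules :=
  Scheme.Modules.pullback f ⋙ (DCoh.tensorBi (X := X)).obj M ⋙ pushforward f

/-- the projection formula morphism as a natural transformation in the second variable -/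
noncomputable def πN : F₁ f M ⟶ F₂ f M where
  app N := π f M N
  naturality N N' h := by
    have h1 := π_naturality f (𝟙 M) h
    rw [CategoryTheory.Functor.map_id] at h1
    dsimp only [Functor.comp_map]
    rw [KoszTw.tensorBi_obj_map, KoszTw.tensorBi_obj_map]
    exact h1

section Unit

lemma pullbackUnitIso_unitSec (V : Y.Opens) (r : Γ(Y, V)) :
    (Groth.Agent.H5.PullbackUnit.pullbackUnitIso f).hom.app (f ⁻¹ᵁ V)
      (unitSec f (Coh.structureModule Y) V r) = f.app V r := by
  have h := SheafOfModules.pullbackPushforwardAdjunction_homEquiv_pullbackObjUnitToUnit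
    f.toRingCatSheafHom
  rw [Adjunction.homEquiv_unit] at h
  exact congrArg (fun φ : Coh.structureModule Y ⟶
    (Scheme.Modules.pushforward f).obj (Coh.structureModule X) => Scheme.Modules.Hom.app φ V r) h

lemma π_unit_comp : π f M (Coh.structureModule Y) ≫ (pushforward f).map
    (KoszTw.tensorMap (𝟙 M) (Groth.Agent.H5.PullbackUnit.pullbackUnitIso f).hom ≫
      (SecTwist.unitorR M).hom) =
    (SecTwist.unitorR ((pushforward f).obj M)).hom := by
  refine hom_ext_tensor _ _ (fun V m r => ?_)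
  change (SecTwist.unitorR M).hom.app (f ⁻¹ᵁ V)
    ((KoszTw.tensorMap (𝟙 M) (Groth.Agent.H5.PullbackUnit.pullbackUnitIso f).hom).app (f ⁻¹ᵁ V)
      ((π f M (Coh.structureModule Y)).app V (tm _ _ V m r))) = _
  rw [π_tm]
  have h1 := KoszTw.tensorMap_tmul (𝟙 M) (Groth.Agent.H5.PullbackUnit.pullbackUnitIso f).hom
    (f ⁻¹ᵁ V) m (unitSec f (Coh.structureModule Y) V r)
  have h2 := pullbackUnitIso_unitSec f V r
  have h3 := SecTwist.unitorR_tmul M (f ⁻¹ᵁ V) m (f.app V r)
  have h4 := SecTwist.unitorR_tmul ((pushforward f).obj M) V m r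
  refine Eq.trans ?_ h4.symm
  refine Eq.trans (congrArg _ (h1.trans ?_)) h3
  rw [h2]
  rfl

instance isIso_π_unit : IsIso (π f M (Coh.structureModule Y)) := by
  have h := π_unit_comp f M
  have : IsIso (π f M (Coh.structureModule Y) ≫ (pushforward f).map
    (KoszTw.tensorMap (𝟙 M) (Groth.Agent.H5.PullbackUnit.pullbackUnitIso f).hom ≫
      (SecTwist.unitorR M).hom)) := by
    rw [h]
    infer_instance
  have h5 : IsIso (KoszTw.tensorMap (𝟙 M) (Groth.Agent.H5.PullbackUnit.pullbackUnitIso f).hom) := by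
    rw [← KoszTw.tensorBi_obj_map]
    exact (((DCoh.tensorBi (X := X)).obj M).mapIso
      (Groth.Agent.H5.PullbackUnit.pullbackUnitIso f)).isIso_hom
  exact IsIso.of_isIso_comp_right _ ((pushforward f).map
    (KoszTw.tensorMap (𝟙 M) (Groth.Agent.H5.PullbackUnit.pullbackUnitIso f).hom ≫
      (SecTwist.unitorR M).hom))

end Unit

section Free

instance isIso_π_free (n : ℕ) : IsIso (π f M (FlatMod.freeMod Y n)) := by
  have := isIso_app_sigma (πN f M) (fun _ : Fin n => Coh.structureModule Y)
    (fun _ => isIso_π_unit f M)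
  exact this

end Free

section Inverting

lemma isIso_of_comm_sq {C : Type*} [Category C] {A B A' B' : C} (a : A ⟶ B) (b : A' ⟶ B')
    (u : A ⟶ A') (v : B ⟶ B') (h : a ≫ v = u ≫ b) [IsIso u] [IsIso v] [IsIso b] : IsIso a := by
  have : a = u ≫ b ≫ inv v := by
    rw [← Category.assoc, ← h, Category.assoc, IsIso.hom_inv_id, Category.comp_id]
  rw [this]
  infer_instance

variable {Z W : Scheme.{u}} (j : Z ⟶ W)

/-- if `j^*h` is an isomorphism then so is `j^*(P ⊗ h)` -/
lemma isIso_pullback_map_tensor (P : W.Modules) {A B : W.Modules} (h : A ⟶ B)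
    (hh : IsIso ((Scheme.Modules.pullback j).map h)) :
    IsIso ((Scheme.Modules.pullback j).map (((DCoh.tensorBi (X := W)).obj P).map h)) := by
  have nat := μ_naturality_right j P h
  have iA : IsIso (μ j P A) := isIso_μ j P A
  have iB : IsIso (μ j P B) := isIso_μ j P B
  have iC : IsIso ((DCoh.tensorBi.obj ((Scheme.Modules.pullback j).obj P)).map
      ((Scheme.Modules.pullback j).map h)) := inferInstance
  exact @isIso_of_comm_sq _ _ _ _ _ _ _ _ _ _ nat iA iB iC

variable [IsOpenImmersion j]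

lemma isIso_restrict_map_iff {A B : W.Modules} (h : A ⟶ B) :
    IsIso ((restrictFunctor j).map h) ↔ IsIso ((Scheme.Modules.pullback j).map h) :=
  NatIso.isIso_map_iff (restrictFunctorIsoPullback j) h

/-- if `h|_Z` is an isomorphism then so is `(P ⊗ h)|_Z` -/
lemma isIso_restrict_map_tensor (P : W.Modules) {A B : W.Modules} (h : A ⟶ B)
    (hh : IsIso ((restrictFunctor j).map h)) :
    IsIso ((restrictFunctor j).map (((DCoh.tensorBi (X := W)).obj P).map h)) := by
  rw [isIso_restrict_map_iff] at hh ⊢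
  exact isIso_pullback_map_tensor j P h hh

end Inverting

/-- base change for pullback and restriction to an open -/
noncomputable def bcIso (V : Y.Opens) :
    Scheme.Modules.pullback f ⋙ restrictFunctor (f ⁻¹ᵁ V).ι ≅ restrictFunctor V.ι ⋙ Scheme.Modules.pullback (f ∣_ V) :=
  Functor.isoWhiskerLeft _ (restrictFunctorIsoPullback _) ≪≫
    pullbackComp _ _ ≪≫
    pullbackCongr (morphismRestrict_ι f V).symm ≪≫
    (pullbackComp _ _).symm ≪≫
    Functor.isoWhiskerRight (restrictFunctorIsoPullback _).symm _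

section Main

variable (V : Y.Opens)

lemma inverts₁ {A B : Y.Modules} (h : A ⟶ B) (hh : IsIso ((restrictFunctor V.ι).map h)) :
    IsIso ((F₁ f M ⋙ restrictFunctor V.ι).map h) :=
  isIso_restrict_map_tensor V.ι _ h hh

lemma inverts₂ {A B : Y.Modules} (h : A ⟶ B) (hh : IsIso ((restrictFunctor V.ι).map h)) :
    IsIso ((F₂ f M ⋙ restrictFunctor V.ι).map h) := by
  -- `f'^* (h|_V)` is an isomorphism, hence `(f^*h)|_{f⁻¹V}` is
  have h1 : IsIso ((restrictFunctor V.ι ⋙ Scheme.Modules.pullback (f ∣_ V)).map h) := by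
    dsimp only [Functor.comp_map]
    infer_instance
  have h2 : IsIso ((Scheme.Modules.pullback f ⋙ restrictFunctor (f ⁻¹ᵁ V).ι).map h) :=
    (NatIso.isIso_map_iff (bcIso f V) h).2 h1
  have h3 : IsIso ((restrictFunctor (f ⁻¹ᵁ V).ι).map
      (((DCoh.tensorBi (X := X)).obj M).map ((Scheme.Modules.pullback f).map h))) :=
    isIso_restrict_map_tensor _ M _ h2
  have h4 : IsIso ((restrictFunctor (f ⁻¹ᵁ V).ι ⋙ pushforward (f ∣_ V)).map
      (((DCoh.tensorBi (X := X)).obj M).map ((Scheme.Modules.pullback f).map h))) := by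
    dsimp only [Functor.comp_map]
    infer_instance
  exact (NatIso.isIso_map_iff (Groth.Agent.H33.SchemeDer.baseChangeIso f V) _).2 h4

/-- the restriction of a free module is free -/
noncomputable def restrictFreeIso (n : ℕ) :
    (restrictFunctor V.ι).obj (FlatMod.freeMod Y n) ≅ FlatMod.freeMod (V : Scheme.{u}) n :=
  (restrictFunctorIsoPullback V.ι).app _ ≪≫ Groth.Agent.H5.PullbackUnit.pullbackFreeIso V.ι n

end Main

/-- **The projection formula morphism `f_*M ⊗ E ⟶ f_*(M ⊗ f^*E)` is an isomorphism when `E` is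
finite locally free.** -/
theorem isIso_π_of_isFinLocFree (E : Y.Modules) (hE : FlatMod.IsFinLocFree E) :
    IsIso (π f M E) := by
  apply Groth.Agent.H33.LocCoh.isIso_of_isIso_restrict
  intro y
  obtain ⟨V, n, hyV, ⟨e⟩⟩ := hE y
  refine ⟨V, V.ι, inferInstance, ⟨y, hyV⟩, rfl, ?_⟩
  let e' : (restrictFunctor V.ι).obj E ≅ (restrictFunctor V.ι).obj (FlatMod.freeMod Y n) :=
    e ≪≫ (restrictFreeIso V n).symm
  have key := isIso_app_iff_of_iso (restrictAdjunction V.ι)
    (Functor.whiskerRight (πN f M) (restrictFunctor V.ι))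
    (fun h hh => inverts₁ f M V h hh) (fun h hh => inverts₂ f M V h hh) e'
  have h2 : IsIso ((Functor.whiskerRight (πN f M) (restrictFunctor V.ι)).app
      (FlatMod.freeMod Y n)) := by
    rw [Functor.whiskerRight_app]
    change IsIso ((restrictFunctor V.ι).map (π f M (FlatMod.freeMod Y n)))
    infer_instance
  exact key.2 h2

end Groth.Agent.H31.ProjLoc
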