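import Mathlib.CategoryTheory.Subterminal
import Mathlib.CategoryTheory.Limits.Preserves.Shapes.Pullbacks
import Mathlib.CategoryTheory.Limits.Shapes.BinaryProducts
import Mathlib.CategoryTheory.Limits.Shapes.Pullback.HasPullback

set_option autoImplicit false
universe v u

namespace Groth.Agent.H31

open CategoryTheory CategoryTheory.Limits

variable {E : Type u} [Category.{v} E] [HasBinaryProducts E] [HasPushouts E]

/-- For a subterminal `U` such that `U ⨯ -` preserves pushouts, the projection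
`U ⨯ (U ⊔_{U ⨯ Y} Y) ⟶ U` is an isomorphism. -/
theorem isIso_fst_prod_pushout {U : E} (hU : IsSubterminal U) (Y : E)
    [PreservesColimit (span (prod.fst : U ⨯ Y ⟶ U) (prod.snd : U ⨯ Y ⟶ Y)) (prod.functor.obj U)] :
    IsIso (prod.fst : U ⨯ pushout (prod.fst : U ⨯ Y ⟶ U) (prod.snd : U ⨯ Y ⟶ Y) ⟶ U) := by
  set f₁ : U ⨯ Y ⟶ U := prod.fst with hf₁
  set f₂ : U ⨯ Y ⟶ Y := prod.snd with hf₂
  have hc := isColimitOfHasPushoutOfPreservesColimit (prod.functor.obj U) f₁ f₂
  have key : (prod.fst : U ⨯ pushout f₁ f₂ ⟶ U) ≫ pushout.inl f₁ f₂ =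
      (prod.snd : U ⨯ pushout f₁ f₂ ⟶ pushout f₁ f₂) := by
    apply PushoutCocone.IsColimit.hom_ext hc
    · show prod.map (𝟙 U) (pushout.inl f₁ f₂) ≫ prod.fst ≫ pushout.inl f₁ f₂ =
        prod.map (𝟙 U) (pushout.inl f₁ f₂) ≫ prod.snd
      rw [prod.map_fst_assoc, prod.map_snd, Category.id_comp,
        hU (prod.fst : U ⨯ U ⟶ U) prod.snd]
    · show prod.map (𝟙 U) (pushout.inr f₁ f₂) ≫ prod.fst ≫ pushout.inl f₁ f₂ =
        prod.map (𝟙 U) (pushout.inr f₁ f₂) ≫ prod.snd
      rw [prod.map_fst_assoc, prod.map_snd, Category.id_comp]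
      exact pushout.condition
  refine ⟨prod.lift (𝟙 U) (pushout.inl f₁ f₂), ?_, ?_⟩
  · apply prod.hom_ext
    · rw [Category.assoc, prod.lift_fst, Category.comp_id, Category.id_comp]
    · rw [Category.assoc, prod.lift_snd, Category.id_comp, key]
  · rw [prod.lift_fst]

end Groth.Agent.H31
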