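import Groth.Agent.H31.DualLF2
import Groth.Agent.H31.ProjLoc2
import Groth.Prelude.Def_CxOX
import Groth.Prelude.Def_FlatMod2

/-!
# For a finite locally free module `E` on a scheme, `G ⊗ E^∨ ≅ ℋom(E, G)` and `G ⊗ E ≅ ℋom(E^∨, G)`
-/

set_option autoImplicit false
set_option linter.unusedSectionVars false
open CategoryTheory Limits Opposite AlgebraicGeometry
universe u

namespace Groth.Agent.H31.DualLF

open Groth.Agent.H31.ProjLoc Scheme.Modules

variable {X : Scheme.{u}}

instance instHasSheafHomSch (M : ModSite.Mod X.sheaf) : ModSite.HasSheafHom (O := X.sheaf) M :=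
  Groth.Agent.H45.hasSheafHom _ M

instance instHasSheafHomSch' (M : X.Modules) : ModSite.HasSheafHom (O := X.sheaf) M :=
  Groth.Agent.H45.hasSheafHom _ M

section Locality

variable (V : X.Opens)

/-- the restriction to `V` of a morphism of modules is an isomorphism iff its restriction to the
localized site is -/
lemma isIso_restrictFunctor_iff {A B : X.Modules} (h : A ⟶ B) :
    IsIso ((restrictFunctor V.ι).map h) ↔ IsIso ((ModSite.restr X.sheaf V).map h) := by
  have hE : (Scheme.Modules.overEquiv V).functor.IsEquivalence :=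
    (Scheme.Modules.overEquiv V).isEquivalence_functor
  rw [← NatIso.isIso_map_iff (Scheme.Modules.overFunctorEquiv V) h]
  exact isIso_iff_of_reflects_iso _ (Scheme.Modules.overEquiv V).functor

/-- **Locality of the internal hom in the first variable** (schemes). -/
theorem isIso_restrict_sheafHomMap {M M' : ModSite.Mod X.sheaf} (g : M' ⟶ M)
    (hg : IsIso ((restrictFunctor V.ι).map g)) (N : ModSite.Mod X.sheaf) :
    IsIso ((restrictFunctor V.ι).map ((ExtSupp.sheafHomMap (O := X.sheaf) g).app N)) := by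
  exact (isIso_restrictFunctor_iff V _).2
    (isIso_restr_sheafHomMap V g ((isIso_restrictFunctor_iff V g).1 hg) N)

end Locality

section Free

/-- the projections of the free module `O^n` -/
noncomputable def freePrj (n : ℕ) (i : Fin n) : FlatMod.freeMod X n ⟶ Coh.structureModule X :=
  Sigma.desc (fun k => if k = i then 𝟙 _ else 0)

lemma freeMod_sum (n : ℕ) :
    ∑ i : Fin n, freePrj n i ≫ Sigma.ι (fun _ : Fin n => Coh.structureModule X) i =
      𝟙 (FlatMod.freeMod X n) := by
  refine Sigma.hom_ext _ _ (fun k => ?_)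
  rw [Preadditive.comp_sum, Category.comp_id]
  have : ∀ i : Fin n, Sigma.ι (fun _ : Fin n => Coh.structureModule X) k ≫ freePrj n i ≫
      Sigma.ι (fun _ : Fin n => Coh.structureModule X) i =
      if k = i then Sigma.ι (fun _ : Fin n => Coh.structureModule X) k else 0 := by
    intro i
    dsimp only [freePrj]
    rw [Sigma.ι_desc_assoc]
    split_ifs with h
    · subst h
      rw [Category.id_comp]
    · rw [zero_comp]
  rw [Finset.sum_congr rfl (fun i _ => this i)]
  simp

end Free

section Main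

variable (G : ModSite.Mod X.sheaf)

/-- `τ` at a free module is an isomorphism -/
lemma isIso_tau_free (n : ℕ) :
    IsIso ((tauNat (O := X.sheaf) G).app (op (FlatMod.freeMod X n))) :=
  isIso_tau_of_sum (O := X.sheaf) G (ι := Fin n) (FlatMod.freeMod X n) (fun i => freePrj n i)
    (fun i => Sigma.ι (fun _ : Fin n => Coh.structureModule X) i) (freeMod_sum n)

/-- `σ` at a free module is an isomorphism -/
lemma isIso_sigma_free (n : ℕ) :
    IsIso ((sigmaNat (O := X.sheaf) G).app (FlatMod.freeMod X n)) :=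
  isIso_sigma_of_sum (O := X.sheaf) G (ι := Fin n) (FlatMod.freeMod X n) (fun i => freePrj n i)
    (fun i => Sigma.ι (fun _ : Fin n => Coh.structureModule X) i) (freeMod_sum n)

variable (V : X.Opens)

instance isIso_extZeroAdj_unit : IsIso (CxOX.extZeroAdj V.ι).unit := by
  let t : CategoryTheory.Adjunction.Triple (CxOX.extZero V.ι) (restrictFunctor V.ι)
      (pushforward V.ι) := ⟨CxOX.extZeroAdj V.ι, restrictAdjunction V.ι⟩
  exact t.isIso_unit_iff_isIso_counit.2 (inferInstanceAs (IsIso (restrictAdjunction V.ι).counit))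

lemma tau_inverts₁ {A B : (ModSite.Mod X.sheaf)ᵒᵖ} (h : A ⟶ B)
    (hh : IsIso ((restrictFunctor V.ι).op.map h)) :
    IsIso (((sheafHomOp (ModSite.unit X.sheaf) ⋙ (ModSite.tensorBi X.sheaf).obj G) ⋙
      restrictFunctor V.ι).map h) := by
  have h0 : IsIso ((restrictFunctor V.ι).map h.unop) :=
    (isIso_op_iff ((restrictFunctor V.ι).map h.unop)).1 hh
  have h1 := isIso_restrict_sheafHomMap V h.unop h0 (ModSite.unit X.sheaf)
  exact isIso_restrict_map_tensor V.ι G _ h1

lemma tau_inverts₂ {A B : (ModSite.Mod X.sheaf)ᵒᵖ} (h : A ⟶ B)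
    (hh : IsIso ((restrictFunctor V.ι).op.map h)) :
    IsIso ((sheafHomOp G ⋙ restrictFunctor V.ι).map h) := by
  have h0 : IsIso ((restrictFunctor V.ι).map h.unop) :=
    (isIso_op_iff ((restrictFunctor V.ι).map h.unop)).1 hh
  exact isIso_restrict_sheafHomMap V h.unop h0 G

lemma sigma_inverts₂ {A B : ModSite.Mod X.sheaf} (h : A ⟶ B)
    (hh : IsIso ((restrictFunctor V.ι).map h)) :
    IsIso (((dualF (O := X.sheaf) ⋙ sheafHomOp G) ⋙ restrictFunctor V.ι).map h) := by
  have h1 := isIso_restrict_sheafHomMap V h hh (ModSite.unit X.sheaf)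
  exact isIso_restrict_sheafHomMap V (dualMap h) h1 G

/-- **`τ : G ⊗ E^∨ ⟶ ℋom(E, G)` is an isomorphism for `E` finite locally free.** -/
theorem isIso_tau (E : ModSite.Mod X.sheaf) (hE : FlatMod.IsFinLocFree (X := X) E) :
    IsIso (pairMap (ev (O := X.sheaf) E) G) := by
  apply Groth.Agent.H33.LocCoh.isIso_of_isIso_restrict
  intro x
  obtain ⟨V, n, hxV, ⟨e⟩⟩ := hE x
  refine ⟨V, V.ι, inferInstance, ⟨x, hxV⟩, rfl, ?_⟩
  let iso0 : (restrictFunctor V.ι).obj E ≅ (restrictFunctor V.ι).obj (FlatMod.freeMod X n) :=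
    e ≪≫ (restrictFreeIso V n).symm
  let adj := (CxOX.extZeroAdj V.ι).op
  have : IsIso adj.counit := by
    change IsIso (NatTrans.op (CxOX.extZeroAdj V.ι).unit)
    infer_instance
  have key := isIso_app_iff_of_iso adj
    (Functor.whiskerRight (tauNat (O := X.sheaf) G) (restrictFunctor V.ι))
    (fun h hh => tau_inverts₁ G V h hh) (fun h hh => tau_inverts₂ G V h hh)
    (N := op E) (N' := op (FlatMod.freeMod X n)) iso0.symm.op
  have h2 : IsIso ((Functor.whiskerRight (tauNat (O := X.sheaf) G) (restrictFunctor V.ι)).app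
      (op (FlatMod.freeMod X n))) := by
    change IsIso ((restrictFunctor V.ι).map
      ((tauNat (O := X.sheaf) G).app (op (FlatMod.freeMod X n))))
    exact ((restrictFunctor V.ι).mapIso (@asIso _ _ _ _ _ (isIso_tau_free G n))).isIso_hom
  exact key.2 h2

/-- **`σ : G ⊗ E ⟶ ℋom(E^∨, G)` is an isomorphism for `E` finite locally free.** -/
theorem isIso_sigma (E : ModSite.Mod X.sheaf) (hE : FlatMod.IsFinLocFree (X := X) E) :
    IsIso (pairMap (evS (O := X.sheaf) E) G) := by
  apply Groth.Agent.H33.LocCoh.isIso_of_isIso_restrict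
  intro x
  obtain ⟨V, n, hxV, ⟨e⟩⟩ := hE x
  refine ⟨V, V.ι, inferInstance, ⟨x, hxV⟩, rfl, ?_⟩
  let iso0 : (restrictFunctor V.ι).obj E ≅ (restrictFunctor V.ι).obj (FlatMod.freeMod X n) :=
    e ≪≫ (restrictFreeIso V n).symm
  have key := isIso_app_iff_of_iso (restrictAdjunction V.ι)
    (Functor.whiskerRight (sigmaNat (O := X.sheaf) G) (restrictFunctor V.ι))
    (fun h hh => isIso_restrict_map_tensor V.ι G h hh) (fun h hh => sigma_inverts₂ G V h hh)
    (N := E) (N' := FlatMod.freeMod X n) iso0
  have h2 : IsIso ((Functor.whiskerRight (sigmaNat (O := X.sheaf) G) (restrictFunctor V.ι)).app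
      (FlatMod.freeMod X n)) := by
    change IsIso ((restrictFunctor V.ι).map
      ((sigmaNat (O := X.sheaf) G).app (FlatMod.freeMod X n)))
    exact ((restrictFunctor V.ι).mapIso (@asIso _ _ _ _ _ (isIso_sigma_free G n))).isIso_hom
  exact key.2 h2

end Main

end Groth.Agent.H31.DualLF
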