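import Groth.Agent.H31.ExtShRestr
import Groth.Agent.H31.DualLF3
import Groth.Agent.H5.PullbackTensor
import Groth.Agent.H5.FinLocFreeOps
import Groth.Prelude.Def_CxOX

/-!
# Restriction to an open subscheme commutes with tensor, internal hom and local Ext (schemes)
-/

set_option autoImplicit false
set_option linter.unusedSectionVars false
open CategoryTheory Limits Opposite AlgebraicGeometry
universe u

namespace Groth.Agent.H31.SchRestr

open Scheme.Modules

variable {X : Scheme.{u}} (V : X.Opens)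

/-- `μ : j^*(A ⊗ F) ⟶ j^*A ⊗ j^*F` with the types phrased through `DCoh.tensorBi` -/
noncomputable def mu (A F : X.Modules) :
    (Scheme.Modules.pullback V.ι).obj (((DCoh.tensorBi (X := X)).obj A).obj F) ⟶
      ((DCoh.tensorBi (X := (V : Scheme.{u}))).obj ((Scheme.Modules.pullback V.ι).obj A)).obj
        ((Scheme.Modules.pullback V.ι).obj F) :=
  Groth.Agent.H5.PullbackTensor.μ V.ι A F

instance (A F : X.Modules) : IsIso (mu V A F) :=
  Groth.Agent.H5.PullbackTensor.isIso_μ V.ι A F

lemma mu_naturality_left {A A' : X.Modules} (g : A ⟶ A') (F : X.Modules) :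
    (Scheme.Modules.pullback V.ι).map ((DCoh.tensorBi.map g).app F) ≫ mu V A' F =
      mu V A F ≫ (DCoh.tensorBi.map ((Scheme.Modules.pullback V.ι).map g)).app
        ((Scheme.Modules.pullback V.ι).obj F) :=
  Groth.Agent.H5.PullbackTensor.μ_naturality_left V.ι g F

/-- the comparison map `(A ⊗ F)|_V ⟶ A|_V ⊗ F|_V` -/
noncomputable def rtHom (A F : X.Modules) :
    (restrictFunctor V.ι).obj (((DCoh.tensorBi (X := X)).obj A).obj F) ⟶
      ((DCoh.tensorBi (X := (V : Scheme.{u}))).obj ((restrictFunctor V.ι).obj A)).obj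
        ((restrictFunctor V.ι).obj F) :=
  (restrictFunctorIsoPullback V.ι).hom.app (((DCoh.tensorBi (X := X)).obj A).obj F) ≫
    mu V A F ≫
    (DCoh.tensorBi.map ((restrictFunctorIsoPullback V.ι).inv.app A)).app
      ((Scheme.Modules.pullback V.ι).obj F) ≫
    (DCoh.tensorBi.obj ((restrictFunctor V.ι).obj A)).map
      ((restrictFunctorIsoPullback V.ι).inv.app F)

instance (A F : X.Modules) : IsIso (rtHom V A F) := by
  unfold rtHom
  have h1 : IsIso ((DCoh.tensorBi.map ((restrictFunctorIsoPullback V.ι).inv.app A)).app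
      ((Scheme.Modules.pullback V.ι).obj F)) := inferInstance
  infer_instance

lemma rtHom_naturality_left {A A' : X.Modules} (g : A ⟶ A') (F : X.Modules) :
    (restrictFunctor V.ι).map ((DCoh.tensorBi.map g).app F) ≫ rtHom V A' F =
      rtHom V A F ≫ (DCoh.tensorBi.map ((restrictFunctor V.ι).map g)).app
        ((restrictFunctor V.ι).obj F) := by
  unfold rtHom
  simp only [Category.assoc]
  have h1 := (restrictFunctorIsoPullback V.ι).hom.naturality ((DCoh.tensorBi.map g).app F)
  have h2 := mu_naturality_left V g F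
  have h3 : (DCoh.tensorBi.map ((Scheme.Modules.pullback V.ι).map g)).app
        ((Scheme.Modules.pullback V.ι).obj F) ≫
      (DCoh.tensorBi.map ((restrictFunctorIsoPullback V.ι).inv.app A')).app
        ((Scheme.Modules.pullback V.ι).obj F) =
      (DCoh.tensorBi.map ((restrictFunctorIsoPullback V.ι).inv.app A)).app
        ((Scheme.Modules.pullback V.ι).obj F) ≫
      (DCoh.tensorBi.map ((restrictFunctor V.ι).map g)).app
        ((Scheme.Modules.pullback V.ι).obj F) := by
    rw [← NatTrans.comp_app, ← NatTrans.comp_app, ← Functor.map_comp, ← Functor.map_comp,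
      (restrictFunctorIsoPullback V.ι).inv.naturality g]
  have h4 := (DCoh.tensorBi.map ((restrictFunctor V.ι).map g)).naturality
    ((restrictFunctorIsoPullback V.ι).inv.app F)
  rw [reassoc_of% h1, reassoc_of% h2, reassoc_of% h3, h4]

/-- `(A ⊗ F)|_V ≅ A|_V ⊗ F|_V`, naturally in `A`. -/
noncomputable def restrTensorNatIso (F : X.Modules) :
    (DCoh.tensorBi (X := X)).flip.obj F ⋙ restrictFunctor V.ι ≅
      restrictFunctor V.ι ⋙
        (DCoh.tensorBi (X := (V : Scheme.{u}))).flip.obj ((restrictFunctor V.ι).obj F) :=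
  NatIso.ofComponents (fun A => asIso (rtHom V A F)) (by
    intro A A' g
    exact rtHom_naturality_left V g F)


section EssImage

open Groth.Agent.H31.ExtZero

instance : (CxOX.extZero V.ι).Full :=
  ((CxOX.extZeroAdj V.ι).fullyFaithfulLOfIsIsoUnit).full

instance : (CxOX.extZero V.ι).Faithful :=
  ((CxOX.extZeroAdj V.ι).fullyFaithfulLOfIsIsoUnit).faithful

/-- `j_! T ⊗ F` is in the essential image of `j_!` -/
lemma essImage_tensor (T : (V : Scheme.{u}).Modules) (F : X.Modules) :
    (CxOX.extZero V.ι).essImage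
      (((DCoh.tensorBi (X := X)).obj ((CxOX.extZero V.ι).obj T)).obj F) := by
  let e := Scheme.Modules.overEquiv V
  let T' : ModSite.Mod (X.sheaf.over V) := e.inverse.obj T
  let Q : ModSite.Mod (X.sheaf.over V) :=
    ((ModSite.tensorBi (X.sheaf.over V)).obj T').obj ((ModSite.restr X.sheaf V).obj F)
  have i1 : (CxOX.extZero V.ι).obj (e.functor.obj Q) ≅
      (ModSite.extZero X.sheaf V).obj (e.inverse.obj (e.functor.obj Q)) :=
    (CxOX.extZeroIsoSite V).app (e.functor.obj Q)
  have i2 : (ModSite.extZero X.sheaf V).obj (e.inverse.obj (e.functor.obj Q)) ≅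
      (ModSite.extZero X.sheaf V).obj Q :=
    (ModSite.extZero X.sheaf V).mapIso (e.unitIso.symm.app Q)
  have i3 : (ModSite.extZero X.sheaf V).obj Q ≅
      ((ModSite.tensorBi X.sheaf).obj ((ModSite.extZero X.sheaf V).obj T')).obj F :=
    (projF X.sheaf V F).app T'
  have i4 : (ModSite.extZero X.sheaf V).obj T' ≅ (CxOX.extZero V.ι).obj T :=
    (CxOX.extZeroIsoSite V).symm.app T
  have i5 : ((ModSite.tensorBi X.sheaf).obj ((ModSite.extZero X.sheaf V).obj T')).obj F ≅
      ((DCoh.tensorBi (X := X)).obj ((CxOX.extZero V.ι).obj T)).obj F :=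
    ((DCoh.tensorBi (X := X)).flip.obj F).mapIso i4
  exact ⟨e.functor.obj Q, ⟨i1 ≪≫ i2 ≪≫ i3 ≪≫ i5⟩⟩

instance isIso_counit_tensor (T : (V : Scheme.{u}).Modules) (F : X.Modules) :
    IsIso ((CxOX.extZeroAdj V.ι).counit.app
      (((DCoh.tensorBi (X := X)).obj ((CxOX.extZero V.ι).obj T)).obj F)) :=
  ((CxOX.extZeroAdj V.ι).isIso_counit_app_iff_mem_essImage).2 (essImage_tensor V T F)

end EssImage

section Proj

/-- the projection morphism `j_!(T ⊗ F|_V) ⟶ j_! T ⊗ F` -/
noncomputable def projApp (F : X.Modules) (T : (V : Scheme.{u}).Modules) :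
    (CxOX.extZero V.ι).obj (((DCoh.tensorBi (X := (V : Scheme.{u}))).obj T).obj
      ((restrictFunctor V.ι).obj F)) ⟶
      ((DCoh.tensorBi (X := X)).obj ((CxOX.extZero V.ι).obj T)).obj F :=
  (CxOX.extZero V.ι).map ((DCoh.tensorBi.map ((CxOX.extZeroAdj V.ι).unit.app T)).app
      ((restrictFunctor V.ι).obj F)) ≫
    (CxOX.extZero V.ι).map (inv (rtHom V ((CxOX.extZero V.ι).obj T) F)) ≫
    (CxOX.extZeroAdj V.ι).counit.app
      (((DCoh.tensorBi (X := X)).obj ((CxOX.extZero V.ι).obj T)).obj F)

instance (F : X.Modules) (T : (V : Scheme.{u}).Modules) : IsIso (projApp V F T) := by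
  unfold projApp
  have h0 : IsIso ((CxOX.extZeroAdj V.ι).unit.app T) := inferInstance
  have h1 : IsIso ((DCoh.tensorBi.map ((CxOX.extZeroAdj V.ι).unit.app T)).app
      ((restrictFunctor V.ι).obj F)) := inferInstance
  infer_instance

lemma projApp_naturality (F : X.Modules) {T T' : (V : Scheme.{u}).Modules} (t : T ⟶ T') :
    (CxOX.extZero V.ι).map ((DCoh.tensorBi.map t).app ((restrictFunctor V.ι).obj F)) ≫
        projApp V F T' =
      projApp V F T ≫ (DCoh.tensorBi.map ((CxOX.extZero V.ι).map t)).app F := by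
  unfold projApp
  simp only [Category.assoc]
  have h1 : (CxOX.extZero V.ι).map ((DCoh.tensorBi.map t).app ((restrictFunctor V.ι).obj F)) ≫
      (CxOX.extZero V.ι).map ((DCoh.tensorBi.map ((CxOX.extZeroAdj V.ι).unit.app T')).app
        ((restrictFunctor V.ι).obj F)) =
      (CxOX.extZero V.ι).map ((DCoh.tensorBi.map ((CxOX.extZeroAdj V.ι).unit.app T)).app
        ((restrictFunctor V.ι).obj F)) ≫
      (CxOX.extZero V.ι).map ((DCoh.tensorBi.map
        ((restrictFunctor V.ι).map ((CxOX.extZero V.ι).map t))).app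
        ((restrictFunctor V.ι).obj F)) := by
    have hn : t ≫ (CxOX.extZeroAdj V.ι).unit.app T' = (CxOX.extZeroAdj V.ι).unit.app T ≫
        (restrictFunctor V.ι).map ((CxOX.extZero V.ι).map t) :=
      (CxOX.extZeroAdj V.ι).unit.naturality t
    rw [← Functor.map_comp, ← Functor.map_comp, ← NatTrans.comp_app, ← NatTrans.comp_app,
      ← Functor.map_comp, ← Functor.map_comp, hn]
  have h2 : (CxOX.extZero V.ι).map ((DCoh.tensorBi.map
        ((restrictFunctor V.ι).map ((CxOX.extZero V.ι).map t))).app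
        ((restrictFunctor V.ι).obj F)) ≫
      (CxOX.extZero V.ι).map (inv (rtHom V ((CxOX.extZero V.ι).obj T') F)) =
      (CxOX.extZero V.ι).map (inv (rtHom V ((CxOX.extZero V.ι).obj T) F)) ≫
      (CxOX.extZero V.ι).map ((restrictFunctor V.ι).map
        ((DCoh.tensorBi.map ((CxOX.extZero V.ι).map t)).app F)) := by
    rw [← Functor.map_comp, ← Functor.map_comp]
    congr 1
    rw [IsIso.comp_inv_eq, Category.assoc, IsIso.eq_inv_comp]
    exact (rtHom_naturality_left V ((CxOX.extZero V.ι).map t) F).symm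
  have h3 := (CxOX.extZeroAdj V.ι).counit.naturality
    ((DCoh.tensorBi.map ((CxOX.extZero V.ι).map t)).app F)
  rw [reassoc_of% h1, reassoc_of% h2]
  congr 2

/-- **Projection formula for an open immersion of schemes**: `j_!(T ⊗ F|_V) ≅ j_! T ⊗ F`,
naturally in `T`. -/
noncomputable def projIso (F : X.Modules) :
    (DCoh.tensorBi (X := (V : Scheme.{u}))).flip.obj ((restrictFunctor V.ι).obj F) ⋙
        CxOX.extZero V.ι ≅
      CxOX.extZero V.ι ⋙ (DCoh.tensorBi (X := X)).flip.obj F :=
  NatIso.ofComponents (fun T => asIso (projApp V F T)) (by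
    intro T T' t
    exact projApp_naturality V F t)

end Proj

section SheafHom

variable (F : X.Modules) [ModSite.HasSheafHom (O := X.sheaf) F]
  [ModSite.HasSheafHom (O := (V : Scheme.{u}).sheaf) ((restrictFunctor V.ι).obj F)]

/-- `ℋom(F, -)|_V ≅ ℋom(F|_V, (-)|_V)`, naturally (schemes). -/
noncomputable def sheafHomRestrIso :
    ModSite.sheafHom (O := X.sheaf) F ⋙ restrictFunctor V.ι ≅
      restrictFunctor V.ι ⋙
        ModSite.sheafHom (O := (V : Scheme.{u}).sheaf) ((restrictFunctor V.ι).obj F) :=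
  (((CxOX.extZeroAdj V.ι).comp (ModSite.sheafHomAdj (O := X.sheaf) F)).ofNatIsoLeft
    (projIso V F).symm).rightAdjointUniq
      ((ModSite.sheafHomAdj (O := (V : Scheme.{u}).sheaf) ((restrictFunctor V.ι).obj F)).comp
        (CxOX.extZeroAdj V.ι))


instance preservesMonomorphisms_extZero : (CxOX.extZero V.ι).PreservesMonomorphisms := by
  have h1 : (Scheme.Modules.overEquiv V).inverse.PreservesMonomorphisms := inferInstance
  have h2 : (ModSite.extZero X.sheaf V).PreservesMonomorphisms :=
    Groth.Agent.H31.ExtZero.preservesMonomorphisms_extZero V X.sheaf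
  have h3 : ((Scheme.Modules.overEquiv V).inverse ⋙
      ModSite.extZero X.sheaf V).PreservesMonomorphisms :=
    @Functor.preservesMonomorphisms_comp _ _ _ _ _ _ _ _ h1 h2
  exact @Functor.PreservesMonomorphisms.of_iso _ _ _ _ _ _ h3 (CxOX.extZeroIsoSite V).symm

lemma injective_restrict (Q : X.Modules) [Injective Q] :
    Injective ((restrictFunctor V.ι).obj Q) :=
  Injective.injective_of_adjoint (CxOX.extZeroAdj V.ι) Q

/-- restriction to `V` as a functor on `ModSite.Mod` (definitionally `restrictFunctor V.ι`) -/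
noncomputable def rs : ModSite.Mod X.sheaf ⥤ ModSite.Mod (V : Scheme.{u}).sheaf :=
  restrictFunctor V.ι

instance : (rs V).Additive := inferInstanceAs (restrictFunctor V.ι).Additive

instance : PreservesFiniteLimits (rs V) :=
  inferInstanceAs (PreservesFiniteLimits (restrictFunctor V.ι))

instance : PreservesFiniteColimits (rs V) :=
  inferInstanceAs (PreservesFiniteColimits (restrictFunctor V.ι))

variable [HasInjectiveResolutions (ModSite.Mod X.sheaf)]
  [HasInjectiveResolutions (ModSite.Mod (V : Scheme.{u}).sheaf)]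

/-- `ℰxt^q(F, -)|_V ≅ ℰxt^q(F|_V, (-)|_V)` (schemes). -/
noncomputable def extShRestrIso (q : ℕ) :
    ModSite.extSh (O := X.sheaf) F q ⋙ rs V ≅
      rs V ⋙ ModSite.extSh (O := (V : Scheme.{u}).sheaf) ((restrictFunctor V.ι).obj F) q :=
  haveI : (ModSite.sheafHom (O := X.sheaf) F).Additive := ModSite.sheafHom_additive (O := X.sheaf) F
  haveI : (ModSite.sheafHom (O := (V : Scheme.{u}).sheaf) ((restrictFunctor V.ι).obj F)).Additive :=
    ModSite.sheafHom_additive (O := (V : Scheme.{u}).sheaf) ((restrictFunctor V.ι).obj F)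
  (Groth.Agent.H31.PostDerived.rightDerivedPostIso (ModSite.sheafHom (O := X.sheaf) F)
      (rs V) q).symm ≪≫
    Groth.Agent.H30.GrothSSExt.rightDerivedIsoOfIso
      (show ModSite.sheafHom (O := X.sheaf) F ⋙ rs V ≅ rs V ⋙
        ModSite.sheafHom (O := (V : Scheme.{u}).sheaf) ((restrictFunctor V.ι).obj F) from
        sheafHomRestrIso V F) q ≪≫
    Groth.Agent.H30.DerivedComp.rightDerivedCompIso (rs V)
      (fun Q hQ => @injective_restrict _ V Q hQ)
      (ModSite.sheafHom (O := (V : Scheme.{u}).sheaf) ((restrictFunctor V.ι).obj F)) q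

end SheafHom

end Groth.Agent.H31.SchRestr
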