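import Groth.Agent.H31.ExtZeroTensor
import Groth.Agent.H45.SheafTensor.FlatOps

/-!
# The projection formula for extension by zero on a ringed site, and flatness of `j_!`

`projF`, `projG`: `j_!(P ⊗ N|_U) ≅ j_! P ⊗ N` naturally in `P`, resp. in `N`;
`isFlat_extZero`, `isFlat_freeOn`, `isFlat_unit`.
-/

open CategoryTheory Limits Opposite MonoidalCategory
open scoped Classical
universe u

namespace Groth.Agent.H31.ExtZero

open Groth.Agent.H45

variable {C : Type u} [SmallCategory C] {J : GrothendieckTopology C} (O : Sheaf J CommRingCat.{u})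
  (U : C)

/-- (F1) `j_! ≅ forg' ⋙ extC ⋙ shf`. -/
noncomputable def extIso₁ : ModSite.extZero O U ≅ forg (O.over U) ⋙ extC O.obj U ⋙ shf O :=
  extZeroIso U O

/-- (F3) restriction commutes with the forgetful functors. -/
noncomputable def restrForgIso : ModSite.restr O U ⋙ forg (O.over U) ≅ forg O ⋙ resC O.obj U :=
  Iso.refl _

/-- (F2) `shf' ⋙ j_! ≅ extC ⋙ shf`. -/
noncomputable def shfExtIso : shf (O.over U) ⋙ ModSite.extZero O U ≅ extC O.obj U ⋙ shf O :=
  SheafOfModules.sheafificationCompPullback.{u} (𝟙 ((ModSite.ringSh O).over U)) ≪≫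
    Functor.isoWhiskerRight (extPIsoPullback (ModSite.ringSh O).obj U).symm _


/-- `a(P ⊗ Q) ≅ a(forg a P ⊗ Q)`, naturally in the presheaf `P`. -/
noncomputable def shfTensorRightIso (Q : PMod O) :
    tensorRight Q ⋙ shf O ≅ shf O ⋙ forg O ⋙ tensorRight Q ⋙ shf O :=
  haveI : ∀ P : PMod O, IsIso ((shf O).map ((shfAdj O).unit.app P ▷ Q)) :=
    fun P => isIso_shf_map_whiskerRight _ Q
  NatIso.ofComponents (fun P => asIso ((shf O).map ((shfAdj O).unit.app P ▷ Q))) (by
    intro P P' f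
    have := (shfAdj O).unit.naturality f
    dsimp at this ⊢
    rw [← Functor.map_comp, ← Functor.map_comp, ← comp_whiskerRight, ← comp_whiskerRight, this])


/-- The projection formula `j_!(P ⊗ N|_U) ≅ j_! P ⊗ N`, naturally in `P`. -/
noncomputable def projF (N : ModSite.Mod O) :
    (ModSite.tensorBi (O.over U)).flip.obj ((ModSite.restr O U).obj N) ⋙ ModSite.extZero O U ≅
      ModSite.extZero O U ⋙ (ModSite.tensorBi O).flip.obj N :=
  let A : PMod (O.over U) := (resC O.obj U).obj ((forg O).obj N)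
  let B : PMod O := (forg O).obj N
  let e1 : (ModSite.tensorBi (O.over U)).flip.obj ((ModSite.restr O U).obj N) ⋙
      ModSite.extZero O U ≅
      (forg (O.over U) ⋙ tensorRight A) ⋙ (shf (O.over U) ⋙ ModSite.extZero O U) := Iso.refl _
  let e2 : (forg (O.over U) ⋙ tensorRight A) ⋙ (shf (O.over U) ⋙ ModSite.extZero O U) ≅
      (forg (O.over U) ⋙ tensorRight A) ⋙ (extC O.obj U ⋙ shf O) :=
    Functor.isoWhiskerLeft _ (shfExtIso O U)
  let e3 : (forg (O.over U) ⋙ tensorRight A) ⋙ (extC O.obj U ⋙ shf O) ≅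
      forg (O.over U) ⋙ (extC O.obj U ⋙ tensorRight B) ⋙ shf O :=
    Functor.isoWhiskerLeft (forg (O.over U))
      (Functor.isoWhiskerRight (projNatQ O.obj U B).symm (shf O))
  let e4 : ModSite.extZero O U ⋙ (ModSite.tensorBi O).flip.obj N ≅
      (forg (O.over U) ⋙ extC O.obj U ⋙ shf O) ⋙ (forg O ⋙ tensorRight B ⋙ shf O) :=
    Functor.isoWhiskerRight (extIso₁ O U) _
  let e5 : (forg (O.over U) ⋙ extC O.obj U ⋙ shf O) ⋙ (forg O ⋙ tensorRight B ⋙ shf O) ≅
      (forg (O.over U) ⋙ extC O.obj U) ⋙ (shf O ⋙ forg O ⋙ tensorRight B ⋙ shf O) := Iso.refl _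
  let e6 : (forg (O.over U) ⋙ extC O.obj U) ⋙ (shf O ⋙ forg O ⋙ tensorRight B ⋙ shf O) ≅
      (forg (O.over U) ⋙ extC O.obj U) ⋙ (tensorRight B ⋙ shf O) :=
    Functor.isoWhiskerLeft _ (shfTensorRightIso O B).symm
  let e7 : (forg (O.over U) ⋙ extC O.obj U) ⋙ (tensorRight B ⋙ shf O) ≅
      forg (O.over U) ⋙ (extC O.obj U ⋙ tensorRight B) ⋙ shf O := Iso.refl _
  e1 ≪≫ e2 ≪≫ e3 ≪≫ (e4 ≪≫ e5 ≪≫ e6 ≪≫ e7).symm


/-- The projection formula `j_!(P ⊗ N|_U) ≅ j_! P ⊗ N`, naturally in `N`. -/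
noncomputable def projG (P : ModSite.Mod (O.over U)) :
    ModSite.restr O U ⋙ (ModSite.tensorBi (O.over U)).obj P ⋙ ModSite.extZero O U ≅
      (ModSite.tensorBi O).obj ((ModSite.extZero O U).obj P) :=
  let A : PMod (O.over U) := (forg (O.over U)).obj P
  let E : PMod O := (extC O.obj U).obj A
  let g1 : ModSite.restr O U ⋙ (ModSite.tensorBi (O.over U)).obj P ⋙ ModSite.extZero O U ≅
      ((forg O ⋙ resC O.obj U) ⋙ tensorLeft A) ⋙ (shf (O.over U) ⋙ ModSite.extZero O U) :=
    Iso.refl _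
  let g2 : ((forg O ⋙ resC O.obj U) ⋙ tensorLeft A) ⋙ (shf (O.over U) ⋙ ModSite.extZero O U) ≅
      ((forg O ⋙ resC O.obj U) ⋙ tensorLeft A) ⋙ (extC O.obj U ⋙ shf O) :=
    Functor.isoWhiskerLeft _ (shfExtIso O U)
  let g3 : ((forg O ⋙ resC O.obj U) ⋙ tensorLeft A) ⋙ (extC O.obj U ⋙ shf O) ≅
      forg O ⋙ tensorLeft E ⋙ shf O :=
    Functor.isoWhiskerLeft (forg O) (Functor.isoWhiskerRight (projNatN O.obj U A).symm (shf O))
  let i : (ModSite.extZero O U).obj P ≅ (shf O).obj E := (extIso₁ O U).app P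
  let g4 : (ModSite.tensorBi O).obj ((ModSite.extZero O U).obj P) ≅
      forg O ⋙ tensorLeft ((forg O).obj ((shf O).obj E)) ⋙ shf O :=
    Functor.isoWhiskerLeft (forg O) (Functor.isoWhiskerRight
      ((curriedTensor (PMod O)).mapIso ((forg O).mapIso i)) (shf O))
  let g5 : forg O ⋙ tensorLeft ((forg O).obj ((shf O).obj E)) ⋙ shf O ≅
      forg O ⋙ tensorLeft E ⋙ shf O := (tensorLeftShfIso O E).symm
  g1 ≪≫ g2 ≪≫ g3 ≪≫ (g4 ≪≫ g5).symm


/-- The structure sheaf is flat. -/
theorem isFlat_unit : ModSite.IsFlat (ModSite.unit O) := by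
  rw [isFlat_iff, tensorBi_flip_obj]
  let e : forg O ⋙ tensorRight ((forg O).obj (ModSite.unit O)) ⋙ shf O ≅ 𝟭 _ :=
    Functor.isoWhiskerLeft (forg O)
      (Functor.isoWhiskerRight (rightUnitorNatIso (PMod O)) (shf O)) ≪≫
      asIso (shfAdj O).counit
  exact preservesFiniteLimits_of_natIso e.symm

/-- Extension by zero preserves flatness. -/
theorem isFlat_extZero (P : ModSite.Mod (O.over U)) (hP : ModSite.IsFlat P) :
    ModSite.IsFlat ((ModSite.extZero O U).obj P) := by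
  rw [isFlat_iff]
  have h1 : PreservesFiniteLimits ((ModSite.tensorBi (O.over U)).obj P) :=
    IsFlat.preservesFiniteLimits_tensorBi_obj hP
  have h2 : PreservesFiniteLimits (ModSite.extZero O U) := preservesFiniteLimits_extZero U O
  have h3 : PreservesFiniteLimits (ModSite.restr O U) := by
    have : PreservesLimitsOfSize.{0, 0} (ModSite.restr O U) :=
      (ModSite.extZeroAdj O U).rightAdjoint_preservesLimits
    exact PreservesLimitsOfSize.preservesFiniteLimits _
  have h4 : PreservesFiniteLimits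
      (ModSite.restr O U ⋙ (ModSite.tensorBi (O.over U)).obj P ⋙ ModSite.extZero O U) :=
    inferInstance
  exact preservesFiniteLimits_of_natIso
    ((projG O U P) ≪≫ tensorBiObjIsoFlipObj O ((ModSite.extZero O U).obj P))

/-- The free module on an object is flat. -/
theorem isFlat_freeOn : ModSite.IsFlat (ModSite.freeOn O U) :=
  isFlat_extZero O U _ (isFlat_unit (O.over U))

end Groth.Agent.H31.ExtZero
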