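import Groth.Agent.H31.AdjCoprod
import Groth.Agent.H31.ExtZeroProj
import Groth.Agent.H45.SheafTensor.SheafHom

/-!
# The internal hom out of a finite free module is exact
-/

set_option autoImplicit false
open CategoryTheory Limits Opposite MonoidalCategory
universe u

namespace Groth.Agent.H31.SheafHomFree

open Groth.Agent.H45

variable {C : Type u} [SmallCategory C] {J : GrothendieckTopology C} (O : Sheaf J CommRingCat.{u})

/-- `- ⊗ O ≅ id`. -/
noncomputable def flipUnitIso : (ModSite.tensorBi O).flip.obj (ModSite.unit O) ≅ 𝟭 _ :=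
  show forg O ⋙ tensorRight ((forg O).obj (ModSite.unit O)) ⋙ shf O ≅ 𝟭 _ from
    Functor.isoWhiskerLeft (forg O)
      (Functor.isoWhiskerRight (rightUnitorNatIso (PMod O)) (shf O)) ≪≫
      asIso (shfAdj O).counit

/-- `- ⊗ O ⊣ id`. -/
noncomputable def adjUnit : (ModSite.tensorBi O).flip.obj (ModSite.unit O) ⊣ 𝟭 (ModSite.Mod O) :=
  (Adjunction.id (C := ModSite.Mod O)).ofNatIsoLeft (flipUnitIso O).symm

/-- If `M` is a coproduct of `n` copies of `O`, then `ℋom(M, -)` preserves epimorphisms. -/
theorem preservesEpimorphisms_sheafHom {n : ℕ} (M : ModSite.Mod O) [ModSite.HasSheafHom M]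
    (g : Fin n → (ModSite.unit O ⟶ M)) (hc : IsColimit (Cofan.mk M g)) :
    (ModSite.sheafHom M).PreservesEpimorphisms := by
  refine AdjCoprod.preservesEpimorphisms (ModSite.sheafHomAdj M) (J := Fin n)
    (Lj := fun _ => (ModSite.tensorBi O).flip.obj (ModSite.unit O)) (Rj := fun _ => 𝟭 _)
    (fun _ => adjUnit O) (fun j => (ModSite.tensorBi O).flip.map (g j)) ?_
    (fun _ => inferInstance)
  intro A
  have : PreservesColimitsOfSize.{0, 0} ((ModSite.tensorBi O).obj A) :=
    preservesColimitsOfSize_of_univLE.{u, u} _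
  exact isColimitCofanMkObjOfIsColimit ((ModSite.tensorBi O).obj A) _ g hc

end Groth.Agent.H31.SheafHomFree
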