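import Groth.Agent.H31.ModH
import Groth.Agent.H45.SheafTensor.Basic
import Groth.Agent.H45.SheafTensor.FlatExact

namespace Groth.Agent.H31.SheafHomAcyc

open CategoryTheory Abelian Limits Opposite MonoidalCategory AlgebraicTopology Simplicial
  SimplicialObject
open Groth.Agent.H45 Groth.Agent.H31.CechRes Groth.Agent.H31.SectExact Groth.Agent.H31.ModAcyc
  Groth.Agent.H31.SieveExt Groth.Agent.H31.LocTriv

universe u

variable {C : Type u} [SmallCategory C] {J : GrothendieckTopology C} (O : Sheaf J CommRingCat.{u})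
  (F : ModSite.Mod O) {K' K : Sheaf J (Type u)} (f : K' ⟶ K)

/-- presheaf-level functor `T ↦ O[T] ⊗ F`. -/
noncomputable abbrev LpF : (Cᵒᵖ ⥤ Type u) ⥤ PMod O :=
  (PresheafOfModules.free (O.obj ⋙ forget₂ CommRingCat.{u} RingCat.{u}) :
    (Cᵒᵖ ⥤ Type u) ⥤ PMod O) ⋙ tensorRight ((forg O).obj F)

/-- sectionwise description. -/
noncomputable abbrev ΦF (U : Cᵒᵖ) : Type u ⥤ AddCommGrpCat.{u} :=
  ModuleCat.free (O.obj.obj U) ⋙
    tensorRight ((((forg O).obj F).obj U : ModuleCat.{u} (O.obj.obj U))) ⋙ forget₂ _ _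

noncomputable def eF (U : Cᵒᵖ) :
    (LpF O F ⋙ PresheafOfModules.toPresheaf (O.obj ⋙ forget₂ CommRingCat.{u} RingCat.{u})) ⋙
      (evaluation Cᵒᵖ AddCommGrpCat.{u}).obj U ≅
      (evaluation Cᵒᵖ (Type u)).obj U ⋙ ΦF O F U :=
  NatIso.ofComponents (fun T => Iso.refl _) (by
    intro T T' τ
    exact (Category.comp_id _).trans (Category.id_comp _).symm)

lemma quasiIso_ε_LpF :
    QuasiIso (AlternatingFaceMapComplex.ε.app
      (((Augmented.whiskering _ _).obj (LpF O F)).obj (augT f))) := by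
  rw [← HomologicalComplex.quasiIso_map_iff_of_preservesHomology _
    (PresheafOfModules.toPresheaf (O.obj ⋙ forget₂ CommRingCat.{u} RingCat.{u})), AFMCMap.quasiIso_map_ε_iff,
    quasiIso_ε_iff_of_iso (whiskeringCompIso _ _ _)]
  exact quasiIso_ε_Lp f (LpF O F ⋙ PresheafOfModules.toPresheaf (O.obj ⋙ forget₂ CommRingCat.{u} RingCat.{u}))
    (ΦF O F) (eF O F)

instance additive_shf : (shf O).Additive :=
  (inferInstance : (shfR (ModSite.ringSh O)).Additive)

instance preservesFiniteColimits_shf : PreservesFiniteColimits (shf O) :=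
  (inferInstance : PreservesFiniteColimits (shfR (ModSite.ringSh O)))

/-- `T ↦ (O[T] ⊗ F)^#`. -/
noncomputable abbrev L' : Sheaf J (Type u) ⥤ ModSite.Mod O :=
  sheafToPresheaf J (Type u) ⋙ LpF O F ⋙ shf O

lemma quasiIso_ε_L' :
    QuasiIso (AlternatingFaceMapComplex.ε.app
      (((Augmented.whiskering _ _).obj (LpF O F ⋙ shf O)).obj (augT f))) := by
  rw [← quasiIso_ε_iff_of_iso (whiskeringCompIso _ _ _), ← AFMCMap.quasiIso_map_ε_iff]
  have := quasiIso_ε_LpF O F f
  infer_instance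

lemma exactAt_PL_L' (q : ℕ) : (AbsCartan.PL (L' O F) f).ExactAt (q + 1) := by
  have := quasiIso_ε_L' O F f
  exact exactAt_succ' (AlternatingFaceMapComplex.ε.app
      (((Augmented.whiskering _ _).obj (LpF O F ⋙ shf O)).obj (augT f))) q

/-- `(P ⊗ Q)^# ≅ (P^# ⊗ Q)^#`, naturally in `P`. -/
noncomputable def alpha :
    tensorRight ((forg O).obj F) ⋙ shf O ≅ shf O ⋙ (ModSite.tensorBi O).flip.obj F :=
  NatIso.ofComponents (fun P =>
    @asIso _ _ _ _ ((shf O).map ((shfAdj O).unit.app P ▷ (forg O).obj F))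
      (isIso_shf_map_whiskerRight ((shfAdj O).unit.app P) _)) (by
    intro P P' φ
    show (shf O).map (φ ▷ (forg O).obj F) ≫
        (shf O).map ((shfAdj O).unit.app P' ▷ (forg O).obj F) =
      (shf O).map ((shfAdj O).unit.app P ▷ (forg O).obj F) ≫
        (shf O).map ((forg O).map ((shf O).map φ) ▷ (forg O).obj F)
    rw [← Functor.map_comp, ← Functor.map_comp, ← comp_whiskerRight, ← comp_whiskerRight]
    congr 2
    exact (shfAdj O).unit.naturality φ)

/-- `T ↦ O[T]^# ⊗ F`. -/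
noncomputable abbrev LF : Sheaf J (Type u) ⥤ ModSite.Mod O :=
  LR (ModSite.ringSh O) ⋙ (ModSite.tensorBi O).flip.obj F

/-- `(O[T] ⊗ F)^# ≅ O[T]^# ⊗ F`. -/
noncomputable def isoL : L' O F ≅ LF O F :=
  NatIso.ofComponents (fun T => (alpha O F).app
    ((PresheafOfModules.free (O.obj ⋙ forget₂ CommRingCat.{u} RingCat.{u})).obj T.obj)) (by
    intro T T' τ
    exact (alpha O F).hom.naturality
      ((PresheafOfModules.free (O.obj ⋙ forget₂ CommRingCat.{u} RingCat.{u})).map τ.hom))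

lemma exactAt_of_iso {𝒜 : Type*} [Category 𝒜] [Abelian 𝒜] {L₁ L₂ : Sheaf J (Type u) ⥤ 𝒜}
    (e : L₁ ≅ L₂) (q : ℕ) (h : (AbsCartan.PL L₁ f).ExactAt q) : (AbsCartan.PL L₂ f).ExactAt q :=
  h.of_iso ((alternatingFaceMapComplex 𝒜).mapIso
    (Functor.isoWhiskerLeft (Arrow.mk f).cechNerve e))

lemma exactAt_PL_LF (q : ℕ) : (AbsCartan.PL (LF O F) f).ExactAt (q + 1) :=
  exactAt_of_iso f (isoL O F) (q + 1) (exactAt_PL_L' O F f q)

variable [ModSite.HasSheafHom F] (G : ModSite.Mod O)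

/-- `Hom(ℤ[T]^#, Hom_O(F,G)_ab) ≃ Hom_O(O[T]^# ⊗ F, G)`. -/
noncomputable def thetaF (T : Sheaf J (Type u)) :
    (Zs J T.obj ⟶ ModSite.toAb ((ModSite.sheafHom F).obj G)) ≃ ((LF O F).obj T ⟶ G) :=
  (thetaR (ModSite.ringSh O) T ((ModSite.sheafHom F).obj G)).trans
    ((ModSite.sheafHomAdj F).homEquiv ((LR (ModSite.ringSh O)).obj T) G).symm

lemma thetaF_naturality_left {T' T : Sheaf J (Type u)} (τ : T' ⟶ T)
    (x : Zs J T.obj ⟶ ModSite.toAb ((ModSite.sheafHom F).obj G)) :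
    thetaF O F G T' (ZsMap τ ≫ x) = (LF O F).map τ ≫ thetaF O F G T x := by
  show ((ModSite.sheafHomAdj F).homEquiv ((LR (ModSite.ringSh O)).obj T') G).symm
      (thetaR (ModSite.ringSh O) T' ((ModSite.sheafHom F).obj G) (ZsMap τ ≫ x)) =
    ((ModSite.tensorBi O).flip.obj F).map ((LR (ModSite.ringSh O)).map τ) ≫
      ((ModSite.sheafHomAdj F).homEquiv ((LR (ModSite.ringSh O)).obj T) G).symm
        (thetaR (ModSite.ringSh O) T ((ModSite.sheafHom F).obj G) x)
  rw [thetaR_naturality_left]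
  exact (ModSite.sheafHomAdj F).homEquiv_naturality_left_symm _ _

lemma thetaF_add (T : Sheaf J (Type u))
    (x x' : Zs J T.obj ⟶ ModSite.toAb ((ModSite.sheafHom F).obj G)) :
    thetaF O F G T (x + x') = thetaF O F G T x + thetaF O F G T x' := by
  show ((ModSite.sheafHomAdj F).homEquiv ((LR (ModSite.ringSh O)).obj T) G).symm
      (thetaRAdd (ModSite.ringSh O) T ((ModSite.sheafHom F).obj G) (x + x')) = _
  rw [map_add]
  exact (ModSite.sheafHomAdj F).homAddEquiv_symm_add _ _ _ _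

/-- additive version. -/
noncomputable def thetaFAdd (T : Sheaf J (Type u)) :
    (Zs J T.obj ⟶ ModSite.toAb ((ModSite.sheafHom F).obj G)) ≃+ ((LF O F).obj T ⟶ G) :=
  { thetaF O F G T with map_add' := thetaF_add O F G T }

theorem isTotallyAcyclic_sheafHom [Injective G] :
    CohCx.IsTotallyAcyclic (ModSite.toAb ((ModSite.sheafHom F).obj G)) :=
  AbsCartan.totallyAcyclic_of_adjoint (L := LF O F) G (ModSite.toAb ((ModSite.sheafHom F).obj G))
    (fun T => thetaFAdd O F G T) (fun τ x => thetaF_naturality_left O F G τ x)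
    (fun f _ q => exactAt_PL_LF O F f q)

end Groth.Agent.H31.SheafHomAcyc
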