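import Mathlib
import Groth.Prelude.Def_DCoh4
import Groth.Prelude.Def_ModSite
import Groth.Agent.H31.SheafHomAcyc
import Groth.Agent.H33.MV.Flasque

set_option autoImplicit false
universe u
open CategoryTheory AlgebraicGeometry MonoidalCategory Opposite

namespace Groth.Agent.H31.SheafHomFlasque

variable {X : Scheme.{u}}

/-- `F ⊗ -` (DCoh) is isomorphic to `- ⊗ F` (ModSite), via the braiding on presheaves of modules. -/
noncomputable def tensorIso (F : X.Modules) :
    (DCoh.tensorBi (X := X)).obj F ≅ (ModSite.tensorBi X.sheaf).flip.obj F :=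
  show (DCoh.toP ⋙ tensorLeft (DCoh.toP.obj F) ⋙ DCoh.shP : X.Modules ⥤ X.Modules) ≅
      (DCoh.toP ⋙ tensorRight (DCoh.toP.obj F) ⋙ DCoh.shP : X.Modules ⥤ X.Modules) from
    Functor.isoWhiskerLeft DCoh.toP
      (Functor.isoWhiskerRight (BraidedCategory.tensorLeftIsoTensorRight (DCoh.toP.obj F)) DCoh.shP)

lemma hasSheafHom (F : X.Modules) [h : DCoh.HasSheafHom F] : ModSite.HasSheafHom (O := X.sheaf) F :=
  @Functor.isLeftAdjoint_of_iso _ _ _ _ _ _ (tensorIso F) h

noncomputable def sheafHomIso (F : X.Modules) [DCoh.HasSheafHom F] :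
    haveI := hasSheafHom F
    DCoh.sheafHom F ≅ ModSite.sheafHom (O := X.sheaf) F :=
  haveI := hasSheafHom F
  ((DCoh.sheafHomAdj F).ofNatIsoLeft (tensorIso F)).rightAdjointUniq
    (ModSite.sheafHomAdj (O := X.sheaf) F)

theorem surjective_res_modSite (F I : X.Modules) [ModSite.HasSheafHom (O := X.sheaf) F]
    (hI : Injective I) (U V : X.Opens) (hUV : U ≤ V) :
    Function.Surjective
      (((ModSite.sheafHom (O := X.sheaf) F).obj I).val.map (homOfLE hUV).op).hom := by
  have hI' : @Injective (ModSite.Mod X.sheaf) _ I := hI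
  have hG := Groth.Agent.H31.SheafHomAcyc.isTotallyAcyclic_sheafHom X.sheaf F I
  have : Mono (homOfLE hUV) := ⟨fun _ _ _ => Subsingleton.elim _ _⟩
  exact Groth.Agent.H33.MV.surjective_map_of_totallyAcyclic (Opens.grothendieckTopology X) _ hG
    (homOfLE hUV)

theorem surjective_res (F I : X.Modules) [DCoh.HasSheafHom F]
    (hI : Injective I) (U V : X.Opens) (hUV : U ≤ V) :
    Function.Surjective (((DCoh.sheafHom F).obj I).val.map (homOfLE hUV).op).hom := by
  have := hasSheafHom F
  let e := (sheafHomIso F).app I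
  intro s
  obtain ⟨t, ht⟩ := surjective_res_modSite F I hI U V hUV (e.hom.val.app (op U) s)
  refine ⟨e.inv.val.app (op V) t, ?_⟩
  have h1 := PresheafOfModules.naturality_apply e.inv.val (homOfLE hUV).op t
  refine h1.symm.trans ?_
  have h2 : e.inv.val.app (op U) (e.hom.val.app (op U) s) = s := by
    have := congrArg (fun φ => (φ.val.app (op U)) s) e.hom_inv_id
    exact this
  refine Eq.trans ?_ h2
  exact congrArg _ ht

end Groth.Agent.H31.SheafHomFlasque
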