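import Groth.Agent.H31.SheafHomLocFree
import Groth.Agent.H31.SheafHomFlasque
import Groth.Prelude.Def_FlatMod2

/-!
# `ℋom(A, -)` is exact for a finite locally free module `A` on a scheme
-/

set_option autoImplicit false
open CategoryTheory Limits Opposite AlgebraicGeometry
universe u

namespace Groth.Agent.H31.SheafHomSchLocFree

section General

universe v' u' w
variable {𝒞 : Type u'} [Category.{v'} 𝒞] {J : Type w} {f f₀ : J → 𝒞}

/-- transport a colimit cofan along isomorphisms of the summands and of the point -/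
def isColimitCofanOfIsos (c : Cofan f₀) (hc : IsColimit c) (α : ∀ j, f j ≅ f₀ j) {P : 𝒞}
    (β : c.pt ≅ P) : IsColimit (Cofan.mk P (fun j => (α j).hom ≫ c.inj j ≫ β.hom)) :=
  Cofan.IsColimit.mk _
    (fun s => β.inv ≫ Cofan.IsColimit.desc hc (fun j => (α j).inv ≫ s.inj j))
    (fun s j => by
      show ((α j).hom ≫ c.inj j ≫ β.hom) ≫ β.inv ≫ _ = _
      simp)
    (fun s m hm => by
      rw [Iso.eq_inv_comp]
      refine Cofan.IsColimit.hom_ext hc _ _ (fun j => ?_)
      rw [Cofan.IsColimit.fac, Iso.eq_inv_comp]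
      have := hm j
      simpa using this)

end General

variable {X : Scheme.{u}}

/-- From `A|_U ≅ O_U^n` (modules on the scheme `U`) to a coproduct presentation of the
restriction of `A` to the localized site `Opens(X)/U`. -/
theorem exists_cofan_of_restrict_iso (A : X.Modules) (U : X.Opens) (n : ℕ)
    (e : A.restrict U.ι ≅ FlatMod.freeMod (↑U) n) :
    ∃ (g : Fin n → (ModSite.unit (X.sheaf.over U) ⟶ (ModSite.restr X.sheaf U).obj A)),
      Nonempty (IsColimit (Cofan.mk _ g)) := by
  let E : ModSite.Mod (X.sheaf.over U) ⥤ (U : Scheme.{u}).Modules :=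
    (Scheme.Modules.overEquiv U).functor
  have hE : E.IsEquivalence := (Scheme.Modules.overEquiv U).isEquivalence_functor
  let iso1 : E.obj ((ModSite.restr X.sheaf U).obj A) ≅ A.restrict U.ι :=
    (Scheme.Modules.overFunctorEquiv U).app A
  let c₀ : Cofan (fun _ : Fin n => Coh.structureModule (U : Scheme.{u})) :=
    Cofan.mk (FlatMod.freeMod (↑U) n) (Sigma.ι _)
  have hc₀ : IsColimit c₀ := coproductIsCoproduct _
  let β : c₀.pt ≅ E.obj ((ModSite.restr X.sheaf U).obj A) := e.symm ≪≫ iso1.symm
  have hc := isColimitCofanOfIsos (f := fun _ : Fin n => E.obj (ModSite.unit (X.sheaf.over U)))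
    c₀ hc₀ (fun _ => Iso.refl _) β
  let g : Fin n → (ModSite.unit (X.sheaf.over U) ⟶ (ModSite.restr X.sheaf U).obj A) :=
    fun j => E.preimage ((Iso.refl _).hom ≫ c₀.inj j ≫ β.hom)
  refine ⟨g, ⟨isColimitOfIsColimitCofanMkObj E _ g ?_⟩⟩
  have hg : (fun j => E.map (g j)) = fun j => (Iso.refl _).hom ≫ c₀.inj j ≫ β.hom := by
    funext j
    exact E.map_preimage _
  rw [hg]
  exact hc

/-- `ℋom(A, -)` is right exact for `A` finite locally free. -/
theorem preservesFiniteColimits_sheafHom (A : X.Modules) (hA : FlatMod.IsFinLocFree A)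
    [ModSite.HasSheafHom (O := X.sheaf) A] :
    PreservesFiniteColimits (ModSite.sheafHom (O := X.sheaf) A) := by
  choose U n hxU hiso using hA
  refine SheafHomLocFree.preservesFiniteColimits_sheafHom X.sheaf U ?_ A ?_
  · intro W
    rw [Opens.mem_grothendieckTopology]
    intro x hx
    refine ⟨W ⊓ U x, homOfLE inf_le_left, ⟨x, ⟨homOfLE inf_le_right⟩⟩, ⟨hx, hxU x⟩⟩
  · intro x
    obtain ⟨e⟩ := hiso x
    exact ⟨n x, exists_cofan_of_restrict_iso A (U x) (n x) e⟩

end Groth.Agent.H31.SheafHomSchLocFree
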