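import Groth.Agent.H31.ExtShLES
import Groth.Agent.H31.SchRestr1
import Groth.Agent.H31.SheafHomFree
import Groth.Agent.H30.ExactDerived
import Groth.Agent.H12.QCohAbelian
import Groth.Agent.H12.AffHomCrit
import Groth.Agent.H12.CohOpen
import Groth.Agent.H71.QCoh.ExactSections
import Groth.Agent.H77.RestrictFT
import Groth.Agent.H18.QCohLocal
import Groth.Agent.H44.AffineFree
import Groth.Agent.H44.FiniteSections
import Groth.Agent.H44.Retract
import Groth.Agent.Lead.Coh.SigmaSplit
import Groth.Agent.H5.K0Coh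
import Groth.Agent.H6.HomShQC
import Groth.Agent.H31.SheafHomSchLocFree
import Groth.Agent.H5.PerfectFree

/-!
# Coherence of the local Ext sheaves of coherent modules on a locally Noetherian scheme
-/

set_option autoImplicit false
set_option linter.unusedSectionVars false
set_option linter.style.haveILetI false
open CategoryTheory Limits Opposite AlgebraicGeometry
universe u

namespace Groth.Agent.H31.CohExt

open Scheme.Modules

variable {X : Scheme.{u}}

section Closure

lemma isCoh_iso {M N : X.Modules} (e : M ≅ N) (h : Coh.IsCoh M) : Coh.IsCoh N :=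
  Groth.Agent.H5.K0Coh.isCoh_iso e h

/-- the kernel of a morphism from a coherent module to a quasi-coherent one is coherent -/
lemma isCoh_kernel [IsLocallyNoetherian X] {M N : X.Modules} (φ : M ⟶ N) (hM : Coh.IsCoh M)
    (hN : N.IsQuasicoherent) : Coh.IsCoh (kernel φ) := by
  haveI := hM.1
  haveI := hM.2
  haveI : (kernel φ).IsQuasicoherent := Groth.Agent.H12.QCohAbelian.isQuasicoherent_kernel φ
  exact ⟨inferInstance, Groth.Agent.H71.QCoh.isFiniteType_of_mono (kernel.ι φ)⟩

/-- the cokernel of a morphism from a quasi-coherent module to a coherent one is coherent -/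
lemma isCoh_cokernel {M N : X.Modules} (φ : M ⟶ N) (hM : M.IsQuasicoherent)
    (hN : Coh.IsCoh N) : Coh.IsCoh (cokernel φ) := by
  haveI := hN.1
  haveI := hN.2
  haveI : (cokernel φ).IsQuasicoherent := Groth.Agent.H12.QCohAbelian.isQuasicoherent_cokernel φ
  exact ⟨inferInstance, Groth.Agent.H71.QCoh.isFiniteType_of_epi (cokernel.π φ)⟩

/-- a finite coproduct of coherent modules is coherent -/
lemma isCoh_sigma {n : ℕ} (J : Fin n → X.Modules) (h : ∀ k, Coh.IsCoh (J k)) :
    Coh.IsCoh (∐ J) := by
  haveI : ∀ k, (J k).IsQuasicoherent := fun k => (h k).1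
  exact ⟨Groth.Agent.H12.AffHomCrit.isQuasicoherent_sigma J,
    Groth.Agent.Lead.SigmaSplit.isFiniteType_sigma J (fun k => (h k).2)⟩

/-- a finite product of coherent modules is coherent -/
lemma isCoh_pi {n : ℕ} (J : Fin n → X.Modules) (h : ∀ k, Coh.IsCoh (J k)) :
    Coh.IsCoh (∏ᶜ J) :=
  haveI : HasFiniteBiproducts X.Modules := Abelian.hasFiniteBiproducts
  isCoh_iso ((biproduct.isoCoproduct J).symm ≪≫ biproduct.isoProduct J) (isCoh_sigma J h)

lemma isCoh_structureModule (X : Scheme.{u}) : Coh.IsCoh (Coh.structureModule X) :=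
  Groth.Agent.H6.HomSh.isCoh_structureModule X

lemma isCoh_freeMod (X : Scheme.{u}) (n : ℕ) : Coh.IsCoh (FlatMod.freeMod X n) :=
  isCoh_sigma _ (fun _ => isCoh_structureModule X)

/-- restriction to an open subscheme preserves coherence -/
lemma isCoh_restrict (V : X.Opens) {M : X.Modules} (h : Coh.IsCoh M) :
    Coh.IsCoh ((restrictFunctor V.ι).obj M) := by
  haveI := h.1
  exact ⟨inferInstance, Groth.Agent.H12.CohOpen.isFiniteType_restrict V.ι M h.2⟩

/-- coherence is local on affine opens -/
lemma isCoh_of_affineOpens (M : X.Modules)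
    (h : ∀ V : X.affineOpens, Coh.IsCoh ((restrictFunctor (V : X.Opens).ι).obj M)) :
    Coh.IsCoh M := by
  haveI : M.IsQuasicoherent :=
    Groth.Agent.H18.isQuasicoherent_of_isOpenCover M (fun V : X.affineOpens => (V : X.Opens))
      (iSup_affineOpens_eq_top X) (fun V => (h V).1)
  exact ⟨inferInstance,
    Groth.Agent.H77.RestrictFT.isFiniteType_of_isOpenCover M (fun V : X.affineOpens => (V : X.Opens))
      (iSup_affineOpens_eq_top X) (fun V => (h V).2)⟩

end Closure

section Presentation

/-- on an affine scheme, a coherent module is a quotient of a finite free module -/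
lemma exists_epi_freeMod [IsAffine X] (F : X.Modules) (hF : Coh.IsCoh F) :
    ∃ (r : ℕ) (π : FlatMod.freeMod X r ⟶ F), Epi π := by
  haveI := hF.1
  haveI := hF.2
  have hT : IsAffineOpen (⊤ : X.Opens) := isAffineOpen_top X
  haveI : Module.Finite Γ(X, (⊤ : X.Opens)) Γ(F, (⊤ : X.Opens)) :=
    Groth.Agent.H44.finite_sections_of_isFiniteType F hT
  obtain ⟨r, y, hy⟩ := Module.Finite.exists_fin (R := Γ(X, (⊤ : X.Opens)))
    (M := Γ(F, (⊤ : X.Opens)))
  obtain ⟨π, hπ⟩ := Groth.Agent.H44.exists_epi_freeMod_of_span F hT y hy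
  let j : X ⟶ (⊤ : X.Opens).toScheme := X.topIso.inv
  have hj : j ≫ (⊤ : X.Opens).ι = 𝟙 X := X.toIso_inv_ι
  refine ⟨r, Groth.Agent.H44.restrictFreeHom j π ≫
    (Groth.Agent.H44.restrictRestrictIso F j (⊤ : X.Opens).ι (𝟙 X) hj).hom ≫
    (restrictFunctorId.app F).hom, ?_⟩
  have h1 : Epi (Groth.Agent.H44.restrictFreeHom j π) := inferInstance
  exact epi_comp _ _

end Presentation

section Free

open Groth.Agent.H31.SheafHomFree Groth.Agent.H45

/-- `ℋom(M, G) ≅ G^n` if `M` is a coproduct of `n` copies of `O` (ringed sites). -/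
noncomputable def sheafHomCofanIso {C : Type u} [SmallCategory C] {J : GrothendieckTopology C}
    (O : Sheaf J CommRingCat.{u}) {n : ℕ} (M : ModSite.Mod O) [ModSite.HasSheafHom M]
    (g : Fin n → (ModSite.unit O ⟶ M)) (hc : IsColimit (Cofan.mk M g)) (G : ModSite.Mod O) :
    (ModSite.sheafHom M).obj G ≅ ∏ᶜ (fun _ : Fin n => G) :=
  (AdjCoprod.isLimitFan (ModSite.sheafHomAdj M) (J := Fin n)
    (Lj := fun _ => (ModSite.tensorBi O).flip.obj (ModSite.unit O)) (Rj := fun _ => 𝟭 _)
    (fun _ => adjUnit O) (fun j => (ModSite.tensorBi O).flip.map (g j)) (fun A =>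
      haveI : PreservesColimitsOfSize.{0, 0} ((ModSite.tensorBi O).obj A) :=
        preservesColimitsOfSize_of_univLE.{u, u} _
      isColimitCofanMkObjOfIsColimit ((ModSite.tensorBi O).obj A) _ g hc)
    G).conePointUniqueUpToIso (productIsProduct (fun _ : Fin n => G))

/-- `ℋom(O^r, G) ≅ G^r` on a scheme -/
noncomputable def sheafHomFreeIso (X : Scheme.{u}) (r : ℕ) (G : X.Modules)
    [ModSite.HasSheafHom (O := X.sheaf) (FlatMod.freeMod X r)] :
    (ModSite.sheafHom (O := X.sheaf) (FlatMod.freeMod X r)).obj G ≅ ∏ᶜ (fun _ : Fin r => G) :=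
  sheafHomCofanIso X.sheaf (FlatMod.freeMod X r)
    (Sigma.ι (fun _ : Fin r => Coh.structureModule X))
    (coproductIsCoproduct (fun _ : Fin r => Coh.structureModule X)) G

lemma isCoh_sheafHom_free (X : Scheme.{u}) (r : ℕ) (G : X.Modules) (hG : Coh.IsCoh G)
    [ModSite.HasSheafHom (O := X.sheaf) (FlatMod.freeMod X r)] :
    Coh.IsCoh ((ModSite.sheafHom (O := X.sheaf) (FlatMod.freeMod X r)).obj G) :=
  isCoh_iso (sheafHomFreeIso X r G).symm (isCoh_pi _ (fun _ => hG))

lemma isQuasicoherent_sheafHom_free (X : Scheme.{u}) (r : ℕ) (G : X.Modules)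
    (hG : G.IsQuasicoherent)
    [ModSite.HasSheafHom (O := X.sheaf) (FlatMod.freeMod X r)] :
    ((ModSite.sheafHom (O := X.sheaf) (FlatMod.freeMod X r)).obj G).IsQuasicoherent := by
  haveI : HasFiniteBiproducts X.Modules := Abelian.hasFiniteBiproducts
  haveI : (∐ fun _ : Fin r => G).IsQuasicoherent :=
    Groth.Agent.H12.AffHomCrit.isQuasicoherent_sigma _
  exact Groth.Agent.H12.QCohAbelian.isQuasicoherent_of_iso
    ((biproduct.isoCoproduct (fun _ : Fin r => G)).symm ≪≫
      biproduct.isoProduct (fun _ : Fin r => G) ≪≫ (sheafHomFreeIso X r G).symm)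

end Free

section Affine

open Groth.Agent.H31.DualLF Groth.Agent.H31.SheafHomFirstVar

variable [IsAffine X] [IsLocallyNoetherian X]

/-- a finite presentation `O^s ⟶ O^r ⟶ F ⟶ 0` of a coherent module on an affine locally
Noetherian scheme -/
lemma exists_presentation (F : X.Modules) (hF : Coh.IsCoh F) :
    ∃ (r s : ℕ) (a : FlatMod.freeMod X s ⟶ FlatMod.freeMod X r) (π : FlatMod.freeMod X r ⟶ F)
      (w : a ≫ π = 0), Epi π ∧ (ShortComplex.mk a π w).Exact := by
  obtain ⟨r, π, hπ⟩ := exists_epi_freeMod F hF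
  have hK : Coh.IsCoh (kernel π) := isCoh_kernel π (isCoh_freeMod X r) hF.1
  obtain ⟨s, π₂, hπ₂⟩ := exists_epi_freeMod (kernel π) hK
  refine ⟨r, s, π₂ ≫ kernel.ι π, π, by rw [Category.assoc, kernel.condition, comp_zero], hπ, ?_⟩
  let S₀ : ShortComplex X.Modules := ShortComplex.mk (kernel.ι π) π (kernel.condition π)
  have hS₀ : S₀.Exact := ShortComplex.exact_of_f_is_kernel S₀ (kernelIsKernel π)
  let φ : ShortComplex.mk (π₂ ≫ kernel.ι π) π
      (by rw [Category.assoc, kernel.condition, comp_zero]) ⟶ S₀ :=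
    { τ₁ := π₂
      τ₂ := 𝟙 _
      τ₃ := 𝟙 _
      comm₁₂ := by simp [S₀]
      comm₂₃ := by simp [S₀] }
  have h1 : Epi φ.τ₁ := hπ₂
  have h2 : IsIso φ.τ₂ := inferInstanceAs (IsIso (𝟙 _))
  have h3 : Mono φ.τ₃ := inferInstanceAs (Mono (𝟙 _))
  exact (ShortComplex.exact_iff_of_epi_of_isIso_of_mono φ).2 hS₀

/-- `ℋom(F, G)` is coherent for `F`, `G` coherent on an affine locally Noetherian scheme -/
theorem isCoh_sheafHom_affine (F G : X.Modules) (hF : Coh.IsCoh F) (hG : Coh.IsCoh G) :
    Coh.IsCoh ((ModSite.sheafHom (O := X.sheaf) F).obj G) := by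
  obtain ⟨r, s, a, π, w, hπ, hex⟩ := exists_presentation F hF
  let S : ShortComplex (ModSite.Mod X.sheaf) := ShortComplex.mk a π w
  haveI : Epi S.g := hπ
  have hl := isLimitKernelFork S G hex
  have e := IsLimit.conePointUniqueUpToIso hl
      (kernelIsKernel ((ExtSupp.sheafHomMap (O := X.sheaf) a).app G))
  refine isCoh_iso (M := kernel ((ExtSupp.sheafHomMap (O := X.sheaf) a).app G)) e.symm ?_
  exact isCoh_kernel _ (isCoh_sheafHom_free X r G hG) (isQuasicoherent_sheafHom_free X s G hG.1)


variable [HasInjectiveResolutions (ModSite.Mod X.sheaf)]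

omit [IsAffine X] [IsLocallyNoetherian X] in
lemma isZero_extSh_free (r i : ℕ) (G : X.Modules) :
    IsZero ((ModSite.extSh (O := X.sheaf) (FlatMod.freeMod X r) (i + 1)).obj G) := by
  haveI := Groth.Agent.H31.SheafHomSchLocFree.preservesFiniteColimits_sheafHom (FlatMod.freeMod X r)
    (Groth.Agent.H5.PerfectFree.isFinLocFree_freeMod r)
  haveI : (ModSite.sheafHom (O := X.sheaf) (FlatMod.freeMod X r)).Additive :=
    ModSite.sheafHom_additive (O := X.sheaf) _
  haveI : PreservesFiniteLimits (ModSite.sheafHom (O := X.sheaf) (FlatMod.freeMod X r)) :=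
    ExtShLES.preservesFiniteLimits_sheafHom (O := X.sheaf) _
  exact Groth.Agent.H30.ExactDerived.isZero_rightDerived_succ
    (ModSite.sheafHom (O := X.sheaf) (FlatMod.freeMod X r)) G i

/-- `ℰxt^i(F, G)` is coherent for `F`, `G` coherent on an affine locally Noetherian scheme -/
theorem isCoh_extSh_affine (G : X.Modules) (hG : Coh.IsCoh G) :
    ∀ (i : ℕ) (F : X.Modules) (_ : Coh.IsCoh F),
      Coh.IsCoh ((ModSite.extSh (O := X.sheaf) F i).obj G)
  | 0, F, hF => by
      haveI : (ModSite.sheafHom (O := X.sheaf) F).Additive :=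
        ModSite.sheafHom_additive (O := X.sheaf) _
      haveI : PreservesFiniteLimits (ModSite.sheafHom (O := X.sheaf) F) :=
        ExtShLES.preservesFiniteLimits_sheafHom (O := X.sheaf) _
      exact isCoh_iso ((Functor.rightDerivedZeroIsoSelf
        (ModSite.sheafHom (O := X.sheaf) F)).symm.app G) (isCoh_sheafHom_affine F G hF hG)
  | 1, F, hF => by
      obtain ⟨r, π, hπ⟩ := exists_epi_freeMod F hF
      have hK : Coh.IsCoh (kernel π) := isCoh_kernel π (isCoh_freeMod X r) hF.1
      let S : ShortComplex (ModSite.Mod X.sheaf) :=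
        ShortComplex.mk (kernel.ι π) π (kernel.condition π)
      have hS : S.ShortExact :=
        { exact := ShortComplex.exact_of_f_is_kernel S (kernelIsKernel π)
          mono_f := inferInstanceAs (Mono (kernel.ι π))
          epi_g := hπ }
      have e := ExtShLES.cokernelIso S hS G (isZero_extSh_free r 0 G)
      refine isCoh_iso e (isCoh_cokernel _ (isQuasicoherent_sheafHom_free X r G hG.1) ?_)
      exact isCoh_sheafHom_affine (kernel π) G hK hG
  | i + 2, F, hF => by
      obtain ⟨r, π, hπ⟩ := exists_epi_freeMod F hF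
      have hK : Coh.IsCoh (kernel π) := isCoh_kernel π (isCoh_freeMod X r) hF.1
      let S : ShortComplex (ModSite.Mod X.sheaf) :=
        ShortComplex.mk (kernel.ι π) π (kernel.condition π)
      have hS : S.ShortExact :=
        { exact := ShortComplex.exact_of_f_is_kernel S (kernelIsKernel π)
          mono_f := inferInstanceAs (Mono (kernel.ι π))
          epi_g := hπ }
      have e := (ExtShLES.shiftIso S hS (i + 1) (fun G => isZero_extSh_free r i G)
        (fun G => isZero_extSh_free r (i + 1) G)).app G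
      exact isCoh_iso e (isCoh_extSh_affine G hG (i + 1) (kernel π) hK)

end Affine


section Global

open Groth.Agent.H31.DualLF

/-- **The local Ext sheaves of coherent modules on a locally Noetherian scheme are coherent.** -/
theorem isCoh_extSh [IsLocallyNoetherian X] (F G : X.Modules) (hF : Coh.IsCoh F)
    (hG : Coh.IsCoh G) [ModSite.HasSheafHom (O := X.sheaf) F]
    [HasInjectiveResolutions (ModSite.Mod X.sheaf)] (i : ℕ) :
    Coh.IsCoh ((ModSite.extSh (O := X.sheaf) F i).obj G) := by
  refine isCoh_of_affineOpens _ (fun V => ?_)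
  haveI : IsAffine ((V : X.Opens) : Scheme.{u}) := V.2
  haveI : HasInjectiveResolutions (ModSite.Mod ((V : X.Opens) : Scheme.{u}).sheaf) :=
    inferInstanceAs (HasInjectiveResolutions ((V : X.Opens) : Scheme.{u}).Modules)
  have e := (SchRestr.extShRestrIso (V : X.Opens) F i).app G
  exact isCoh_iso e.symm (isCoh_extSh_affine _ (isCoh_restrict (V : X.Opens) hG) i _
    (isCoh_restrict (V : X.Opens) hF))

/-- the internal hom of coherent modules on a locally Noetherian scheme is coherent -/
theorem isCoh_sheafHom [IsLocallyNoetherian X] (F G : X.Modules) (hF : Coh.IsCoh F)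
    (hG : Coh.IsCoh G) [ModSite.HasSheafHom (O := X.sheaf) F] :
    Coh.IsCoh ((ModSite.sheafHom (O := X.sheaf) F).obj G) := by
  haveI : HasInjectiveResolutions (ModSite.Mod X.sheaf) :=
    inferInstanceAs (HasInjectiveResolutions X.Modules)
  haveI : (ModSite.sheafHom (O := X.sheaf) F).Additive :=
    ModSite.sheafHom_additive (O := X.sheaf) _
  haveI : PreservesFiniteLimits (ModSite.sheafHom (O := X.sheaf) F) :=
    ExtShLES.preservesFiniteLimits_sheafHom (O := X.sheaf) _
  exact isCoh_iso ((Functor.rightDerivedZeroIsoSelf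
    (ModSite.sheafHom (O := X.sheaf) F)).app G) (isCoh_extSh F G hF hG 0)

end Global

end Groth.Agent.H31.CohExt
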