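import Groth.Agent.H31.DerivedLES2

/-!
# Dimension shifting for a contravariant family of left exact functors

`T : 𝒜 → (𝒜 ⥤ ℬ)` contravariant in the first variable via `τ`, left exact in the first variable
(`mono`, `exact`) and exact in the first variable on injective objects of the second (`epi`).
For a resolution `L_• ⟶ F ⟶ 0` with `R^p (T L_j) G = 0` for `p ≥ 1`, the cohomology of
`T(L_•) G` computes `R^i (T F) G`.
-/

set_option autoImplicit false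
universe v v' u u'
open CategoryTheory Limits

namespace Groth.Agent.H31.ContraRes

open Groth.Agent.H30 Groth.Agent.H30.DerivedLES Groth.Agent.H31.DerivedLES2

variable (𝒜 : Type u) [Category.{v} 𝒜] [Abelian 𝒜]
  (ℬ : Type u') [Category.{v'} ℬ] [Abelian ℬ]

/-- A contravariant family of additive left exact functors. -/
structure Fam where
  T : 𝒜 → (𝒜 ⥤ ℬ)
  add : ∀ M, (T M).Additive
  lex : ∀ M, PreservesFiniteLimits (T M)
  τ : ∀ {M M' : 𝒜}, (M' ⟶ M) → (T M ⟶ T M')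
  τ_comp : ∀ {M M' M'' : 𝒜} (h : M'' ⟶ M') (g : M' ⟶ M), τ (h ≫ g) = τ g ≫ τ h
  τ_zero : ∀ (M M' : 𝒜), τ (0 : M' ⟶ M) = 0
  mono : ∀ (S : ShortComplex 𝒜), S.Exact → Epi S.g → ∀ N, Mono ((τ S.g).app N)
  exact : ∀ (S : ShortComplex 𝒜), S.Exact → Epi S.g → ∀ N
    (w : (τ S.g).app N ≫ (τ S.f).app N = 0), (ShortComplex.mk _ _ w).Exact
  epi : ∀ (S : ShortComplex 𝒜), S.ShortExact → ∀ Q, Injective Q → Epi ((τ S.f).app Q)

variable {𝒜 ℬ}

/-- A left resolution `… ⟶ L 1 ⟶ L 0 ⟶ F ⟶ 0`. -/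
structure Res (F : 𝒜) where
  L : ℕ → 𝒜
  d : ∀ j, L (j + 1) ⟶ L j
  π : L 0 ⟶ F
  epi : Epi π
  d_π : d 0 ≫ π = 0
  exact₀ : (ShortComplex.mk (d 0) π d_π).Exact
  d_d : ∀ j, d (j + 1) ≫ d j = 0
  exact : ∀ j, (ShortComplex.mk (d (j + 1)) (d j) (d_d j)).Exact

namespace Res

variable {F : 𝒜} (R : Res F)

/-- `L 1 ⟶ ker π`. -/
noncomputable def p : R.L 1 ⟶ kernel R.π := kernel.lift R.π (R.d 0) R.d_π

@[reassoc (attr := simp)]
lemma p_ι : R.p ≫ kernel.ι R.π = R.d 0 := kernel.lift_ι _ _ _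

instance : Epi R.p := by
  have := R.exact₀
  rw [ShortComplex.exact_iff_epi_kernel_lift] at this
  exact this

@[reassoc (attr := simp)]
lemma d_p : R.d 1 ≫ R.p = 0 := by
  rw [← cancel_mono (kernel.ι R.π), Category.assoc, p_ι, zero_comp]
  exact R.d_d 0

lemma exact_p : (ShortComplex.mk (R.d 1) R.p R.d_p).Exact := by
  let φ : ShortComplex.mk (R.d 1) R.p R.d_p ⟶ ShortComplex.mk (R.d 1) (R.d 0) (R.d_d 0) :=
    { τ₁ := 𝟙 _
      τ₂ := 𝟙 _
      τ₃ := kernel.ι R.π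
      comm₁₂ := by simp
      comm₂₃ := by simp }
  have h1 : Epi φ.τ₁ := (inferInstance : Epi (𝟙 _))
  have h2 : IsIso φ.τ₂ := (inferInstance : IsIso (𝟙 _))
  have h3 : Mono φ.τ₃ := (inferInstance : Mono (kernel.ι R.π))
  exact (ShortComplex.exact_iff_of_epi_of_isIso_of_mono φ).2 (R.exact 0)

/-- The shifted resolution of `ker π`. -/
noncomputable def shift : Res (kernel R.π) where
  L j := R.L (j + 1)
  d j := R.d (j + 1)
  π := R.p
  epi := inferInstance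
  d_π := R.d_p
  exact₀ := R.exact_p
  d_d j := R.d_d (j + 1)
  exact j := R.exact (j + 1)

/-- The short exact sequence `0 ⟶ ker π ⟶ L 0 ⟶ F ⟶ 0`. -/
noncomputable def ses : ShortComplex 𝒜 := ShortComplex.mk (kernel.ι R.π) R.π (kernel.condition _)

lemma ses_shortExact : R.ses.ShortExact := by
  have := R.epi
  exact ShortComplex.ShortExact.mk' (ShortComplex.exact_kernel R.π)
    (inferInstance : Mono (kernel.ι R.π)) (inferInstance : Epi R.π)

end Res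

variable (Φ : Fam 𝒜 ℬ)

namespace Fam

lemma τ_comp_zero {M M' M'' : 𝒜} (h : M'' ⟶ M') (g : M' ⟶ M) (hz : h ≫ g = 0) :
    Φ.τ g ≫ Φ.τ h = 0 := by
  rw [← Φ.τ_comp, hz, Φ.τ_zero]

lemma τ_app_comp_zero {M M' M'' : 𝒜} (h : M'' ⟶ M') (g : M' ⟶ M) (hz : h ≫ g = 0) (N : 𝒜) :
    (Φ.τ g).app N ≫ (Φ.τ h).app N = 0 := by
  rw [← NatTrans.comp_app, Φ.τ_comp_zero h g hz]; rfl

lemma τ_app_comp {M M' M'' : 𝒜} (h : M'' ⟶ M') (g : M' ⟶ M) (N : 𝒜) :
    (Φ.τ (h ≫ g)).app N = (Φ.τ g).app N ≫ (Φ.τ h).app N := by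
  rw [Φ.τ_comp]; rfl

end Fam

/-- The short complexes computing the cohomology of `T(L_•) G`. -/
noncomputable def sc {F : 𝒜} (R : Res F) (G : 𝒜) : ℕ → ShortComplex ℬ
  | 0 => ShortComplex.mk (0 : (Φ.T (R.L 0)).obj G ⟶ (Φ.T (R.L 0)).obj G) ((Φ.τ (R.d 0)).app G)
      zero_comp
  | (i + 1) => ShortComplex.mk ((Φ.τ (R.d i)).app G) ((Φ.τ (R.d (i + 1))).app G)
      (Φ.τ_app_comp_zero _ _ (R.d_d i) G)

lemma sc_shift {F : 𝒜} (R : Res F) (G : 𝒜) (i : ℕ) :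
    sc Φ R.shift G (i + 1) = sc Φ R G (i + 2) := rfl


section Main

variable [HasInjectiveResolutions 𝒜]

instance instAdd (M : 𝒜) : (Φ.T M).Additive := Φ.add M
instance instLex (M : 𝒜) : PreservesFiniteLimits (Φ.T M) := Φ.lex M

variable {F : 𝒜} (R : Res F)

/-- `κ : T F ⟶ T (L 0)`. -/
noncomputable abbrev κ : Φ.T F ⟶ Φ.T (R.L 0) := Φ.τ R.π
/-- `η : T (L 0) ⟶ T (ker π)`. -/
noncomputable abbrev η : Φ.T (R.L 0) ⟶ Φ.T (kernel R.π) := Φ.τ (kernel.ι R.π)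

omit [HasInjectiveResolutions 𝒜] in
lemma w : κ Φ R ≫ η Φ R = 0 := Φ.τ_comp_zero _ _ (kernel.condition _)

omit [HasInjectiveResolutions 𝒜] in
lemma shortExact (Q : 𝒜) (hQ : Injective Q) :
    (ShortComplex.mk ((κ Φ R).app Q) ((η Φ R).app Q) (w_app _ _ (w Φ R) Q)).ShortExact := by
  have hS := R.ses_shortExact
  have := R.epi
  refine ShortComplex.ShortExact.mk' ?_ ?_ ?_
  · exact Φ.exact R.ses hS.exact (inferInstance : Epi R.π) Q _
  · exact Φ.mono R.ses hS.exact (inferInstance : Epi R.π) Q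
  · exact Φ.epi R.ses hS Q hQ

omit [HasInjectiveResolutions 𝒜] in
noncomputable def isColimitOfEq {X Y Z : ℬ} {f f' : X ⟶ Y} (e : f = f') {g : Y ⟶ Z} (w : f ≫ g = 0)
    (w' : f' ≫ g = 0) (h : IsColimit (CokernelCofork.ofπ g w)) :
    IsColimit (CokernelCofork.ofπ g w') := by
  subst e; exact h

theorem iso_zero (G : 𝒜) :
    Nonempty ((sc Φ R G 0).homology ≅ ((Φ.T F).rightDerived 0).obj G) := by
  have := R.epi
  let S₀ : ShortComplex 𝒜 := ShortComplex.mk (R.d 0) R.π R.d_π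
  have hm : Mono ((Φ.τ R.π).app G) := Φ.mono S₀ R.exact₀ (inferInstance : Epi R.π) G
  have w0 : (Φ.τ R.π).app G ≫ (Φ.τ (R.d 0)).app G = 0 := Φ.τ_app_comp_zero _ _ R.d_π G
  have hex : (ShortComplex.mk _ _ w0).Exact := Φ.exact S₀ R.exact₀ (inferInstance : Epi R.π) G w0
  have hlim : IsLimit (KernelFork.ofι ((Φ.τ R.π).app G) w0) := hex.fIsKernel
  let hd := ShortComplex.LeftHomologyData.ofIsLimitKernelFork (sc Φ R G 0) rfl
    (KernelFork.ofι ((Φ.τ R.π).app G) w0) hlim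
  have hiso : IsIso ((Φ.T F).toRightDerivedZero.app G) := inferInstance
  let e2 : (Φ.T F).obj G ≅ ((Φ.T F).rightDerived 0).obj G := @asIso _ _ _ _ _ hiso
  exact ⟨hd.homologyIso ≪≫ e2⟩

theorem iso_one (G : 𝒜) (h0 : IsZero (((Φ.T (R.L 0)).rightDerived 1).obj G)) :
    Nonempty ((sc Φ R G 1).homology ≅ ((Φ.T F).rightDerived 1).obj G) := by
  let S₁ : ShortComplex 𝒜 := ShortComplex.mk (R.d 1) R.p R.d_p
  have hm : Mono ((Φ.τ R.p).app G) := Φ.mono S₁ R.exact_p (inferInstance : Epi R.p) G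
  have w1 : (Φ.τ R.p).app G ≫ (Φ.τ (R.d 1)).app G = 0 := Φ.τ_app_comp_zero _ _ R.d_p G
  have hex : (ShortComplex.mk _ _ w1).Exact := Φ.exact S₁ R.exact_p (inferInstance : Epi R.p) G w1
  have hi : IsLimit (KernelFork.ofι ((Φ.τ R.p).app G) w1) := hex.fIsKernel
  have h := shortExact Φ R
  have key : hi.lift (KernelFork.ofι (sc Φ R G 1).f (sc Φ R G 1).zero) = (η Φ R).app G := by
    apply Fork.IsLimit.hom_ext hi
    rw [Fork.IsLimit.lift_ι]
    show (Φ.τ (R.d 0)).app G = (Φ.τ (kernel.ι R.π)).app G ≫ (Φ.τ R.p).app G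
    rw [← Φ.τ_app_comp, R.p_ι]
  have hepi := epi_π (κ Φ R) (η Φ R) (w Φ R) h G h0
  have hcok : IsColimit (CokernelCofork.ofπ ((π (κ Φ R) (η Φ R) (w Φ R) h).app G)
      (η_π_app (κ Φ R) (η Φ R) (w Φ R) h G)) :=
    (exact_π (κ Φ R) (η Φ R) (w Φ R) h G).gIsCokernel
  have wπ : hi.lift (KernelFork.ofι (sc Φ R G 1).f (sc Φ R G 1).zero) ≫
      (π (κ Φ R) (η Φ R) (w Φ R) h).app G = 0 := by
    rw [key]; exact η_π_app (κ Φ R) (η Φ R) (w Φ R) h G
  let hd : (sc Φ R G 1).LeftHomologyData :=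
    { K := (Φ.T (kernel R.π)).obj G
      H := ((Φ.T F).rightDerived 1).obj G
      i := (Φ.τ R.p).app G
      π := (π (κ Φ R) (η Φ R) (w Φ R) h).app G
      wi := w1
      hi := hi
      wπ := wπ
      hπ := isColimitOfEq key.symm _ wπ hcok }
  exact ⟨hd.homologyIso⟩

theorem iso_succ_succ (G : 𝒜) (i : ℕ)
    (h1 : IsZero (((Φ.T (R.L 0)).rightDerived (i + 1)).obj G))
    (h2 : IsZero (((Φ.T (R.L 0)).rightDerived (i + 1 + 1)).obj G))
    (ih : Nonempty ((sc Φ R.shift G (i + 1)).homology ≅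
      ((Φ.T (kernel R.π)).rightDerived (i + 1)).obj G)) :
    Nonempty ((sc Φ R G (i + 2)).homology ≅ ((Φ.T F).rightDerived (i + 2)).obj G) := by
  have h := shortExact Φ R
  have hepi := epi_δ_app (κ Φ R) (η Φ R) (w Φ R) h (i + 1) G h2
  have hex := exact₃ (κ Φ R) (η Φ R) (w Φ R) h (i + 1) G
  have hmono : Mono ((δ (κ Φ R) (η Φ R) (w Φ R) h (i + 1)).app G) :=
    hex.mono_g (h1.eq_of_src _ _)
  have hiso : IsIso ((δ (κ Φ R) (η Φ R) (w Φ R) h (i + 1)).app G) := isIso_of_mono_of_epi _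
  obtain ⟨e⟩ := ih
  exact ⟨e ≪≫ asIso ((δ (κ Φ R) (η Φ R) (w Φ R) h (i + 1)).app G)⟩

end Main

/-- Dimension shifting: the cohomology of `T(L_•) G` computes `R^i (T F) G`. -/
theorem main [HasInjectiveResolutions 𝒜] : ∀ (i : ℕ) {F : 𝒜} (R : Res F) (G : 𝒜)
    (_ : ∀ j p, 1 ≤ p → IsZero (((Φ.T (R.L j)).rightDerived p).obj G)),
    Nonempty ((sc Φ R G i).homology ≅ ((Φ.T F).rightDerived i).obj G)
  | 0, _, R, G, _ => iso_zero Φ R G
  | 1, _, R, G, hacyc => iso_one Φ R G (hacyc 0 1 le_rfl)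
  | (i + 2), _, R, G, hacyc =>
    iso_succ_succ Φ R G i (hacyc 0 (i + 1) (Nat.le_add_left 1 i))
      (hacyc 0 (i + 1 + 1) (Nat.le_add_left 1 (i + 1)))
      (main (i + 1) R.shift G (fun j p hp => hacyc (j + 1) p hp))


section Complex

variable {F : 𝒜} (L : ChainComplex 𝒜 ℕ) (π : L.X 0 ⟶ F) [Epi π] (hπ : L.d 1 0 ≫ π = 0)
  (hex0 : (ShortComplex.mk (L.d 1 0) π hπ).Exact) (hex : ∀ j : ℕ, L.ExactAt (j + 1))

/-- The resolution data attached to a chain complex with an augmentation. -/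
noncomputable def Res.ofChainComplex : Res F where
  L j := L.X j
  d j := L.d (j + 1) j
  π := π
  epi := inferInstance
  d_π := hπ
  exact₀ := hex0
  d_d j := L.d_comp_d _ _ _
  exact j := by
    have h := (L.exactAt_iff' (j + 1 + 1) (j + 1) j (by simp) (by simp)).1 (hex j)
    exact h

variable (G : 𝒜) (C : CochainComplex ℬ ℕ) (e : ∀ j : ℕ, C.X j ≅ (Φ.T (L.X j)).obj G)
  (hC : ∀ j : ℕ, C.d j (j + 1) ≫ (e (j + 1)).hom = (e j).hom ≫ (Φ.τ (L.d (j + 1) j)).app G)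

include hC in
lemma nonempty_homology_iso_sc (i : ℕ) :
    Nonempty (C.homology i ≅ (sc Φ (Res.ofChainComplex L π hπ hex0 hex) G i).homology) := by
  cases i with
  | zero =>
    let a : C.sc 0 ≅ C.sc' 0 0 1 := C.isoSc' 0 0 1 (by simp) (by simp)
    let b : C.sc' 0 0 1 ≅ sc Φ (Res.ofChainComplex L π hπ hex0 hex) G 0 :=
      ShortComplex.isoMk (e 0) (e 0) (e 1)
        (by
          show (e 0).hom ≫ 0 = C.d 0 0 ≫ (e 0).hom
          rw [C.shape 0 0 (by simp), zero_comp, comp_zero])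
        (hC 0).symm
    exact ⟨ShortComplex.homologyMapIso (a ≪≫ b)⟩
  | succ i =>
    let a : C.sc (i + 1) ≅ C.sc' i (i + 1) (i + 2) := C.isoSc' i (i + 1) (i + 2) (by simp) (by simp)
    let b : C.sc' i (i + 1) (i + 2) ≅ sc Φ (Res.ofChainComplex L π hπ hex0 hex) G (i + 1) :=
      ShortComplex.isoMk (e i) (e (i + 1)) (e (i + 2)) (hC i).symm (hC (i + 1)).symm
    exact ⟨ShortComplex.homologyMapIso (a ≪≫ b)⟩

include hC hex0 hex in
/-- Dimension shifting, for a chain complex `L` resolving `F` and a cochain complex `C`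
identified with `T(L_•) G`. -/
theorem main_complex [HasInjectiveResolutions 𝒜]
    (hacyc : ∀ j p : ℕ, 1 ≤ p → IsZero (((Φ.T (L.X j)).rightDerived p).obj G)) (i : ℕ) :
    Nonempty (C.homology i ≅ ((Φ.T F).rightDerived i).obj G) := by
  obtain ⟨a⟩ := nonempty_homology_iso_sc Φ L π hπ hex0 hex G C e hC i
  obtain ⟨b⟩ := main Φ i (Res.ofChainComplex L π hπ hex0 hex) G hacyc
  exact ⟨a ≪≫ b⟩

end Complex

end Groth.Agent.H31.ContraRes
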