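import Groth.Agent.H31.ContraResSch
import Groth.Agent.H31.SheafHomSchLocFree
import Groth.Agent.H30.ExactDerived

/-!
# The contravariant family `M ↦ ℋom(M, -)` on a scheme; resolutions by finite locally frees
compute `ℰxt`
-/

set_option autoImplicit false
open CategoryTheory Limits Opposite AlgebraicGeometry
universe u

namespace Groth.Agent.H31.ContraResAbs

open Groth.Agent.H45 Groth.Agent.H31.SheafHomFirstVar Groth.Agent.H30
open Groth.Agent.H31.ContraResSch

variable (X : Scheme.{u})

/-- The family `M ↦ ℋom(M, -)`. -/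
noncomputable def famAbs : ContraRes.Fam (ModSite.Mod X.sheaf) (ModSite.Mod X.sheaf) where
  T M := ModSite.sheafHom (O := X.sheaf) M
  add M := inferInstance
  lex M := preservesFiniteLimits_sheafHom M
  τ g := ExtSupp.sheafHomMap (O := X.sheaf) g
  τ_comp h g := sheafHomMap_comp h g
  τ_zero M M' := sheafHomMap_zero M M'
  mono S hS hg N := mono_sheafHomMap_g S N hS
  exact S hS hg N w := exact_sheafHomMap S N hS
  epi S hS Q hQ := by
    have := hS.mono_f
    exact RelExtLES.epi_of_surjective (Y := X) _
      (surjective_sheafHomMap_app (O := X.sheaf) S.f Q)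

/-- Higher `ℰxt(E, -)` vanish for `E` finite locally free. -/
lemma isZero_extSh_of_isFinLocFree [HasInjectiveResolutions (ModSite.Mod X.sheaf)]
    (E : X.Modules) (hE : FlatMod.IsFinLocFree E) (G : ModSite.Mod X.sheaf) (p : ℕ) (hp : 1 ≤ p) :
    IsZero (((ModSite.sheafHom (O := X.sheaf) E).rightDerived p).obj G) := by
  obtain ⟨n, rfl⟩ : ∃ n, p = n + 1 := ⟨p - 1, by omega⟩
  have h1 := preservesFiniteLimits_sheafHom (X := X) E
  have h2 := SheafHomSchLocFree.preservesFiniteColimits_sheafHom E hE
  exact ExactDerived.isZero_rightDerived_succ (ModSite.sheafHom (O := X.sheaf) E) G n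

end Groth.Agent.H31.ContraResAbs
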