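import Groth.Agent.H30.DerivedLES

/-!
# Complements to `H30.DerivedLES`: exactness at the two other spots of the long exact sequence
of right derived functors attached to `0 ⟶ Γ ⟶ E ⟶ P ⟶ 0` (exact on injectives), and
injectivity in degree `0`.
-/

set_option autoImplicit false
set_option linter.unusedSimpArgs false
universe v v' u u'
open CategoryTheory Limits

namespace Groth.Agent.H31.DerivedLES2

open Groth.Agent.H30 Groth.Agent.H30.DerivedLES

variable {C : Type u} [Category.{v} C] [Abelian C] [HasInjectiveResolutions C]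
  {D : Type u'} [Category.{v'} D] [Abelian D]
  {Γ E P : C ⥤ D} [Γ.Additive] [E.Additive] [P.Additive]
  (κ : Γ ⟶ E) (η : E ⟶ P) (w : κ ≫ η = 0)

omit [HasInjectiveResolutions C] in
include w in
lemma homologyMap_comp_zero {X : C} (I : InjectiveResolution X) (i : ℕ) :
    HomologicalComplex.homologyMap ((NatTrans.mapHomologicalComplex κ _).app I.cocomplex) i ≫
      HomologicalComplex.homologyMap ((NatTrans.mapHomologicalComplex η _).app I.cocomplex) i = 0 := by
  have hz : (NatTrans.mapHomologicalComplex κ (ComplexShape.up ℕ)).app I.cocomplex ≫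
      (NatTrans.mapHomologicalComplex η (ComplexShape.up ℕ)).app I.cocomplex = 0 :=
    (SC κ η w I.cocomplex).zero
  rw [← HomologicalComplex.homologyMap_comp, hz, HomologicalComplex.homologyMap_zero]

include w in
lemma rightDerived_app_comp_zero (i : ℕ) (X : C) :
    (NatTrans.rightDerived κ i).app X ≫ (NatTrans.rightDerived η i).app X = 0 := by
  let I := injectiveResolution X
  rw [rightDerived_app_eq κ I i, rightDerived_app_eq η I i]
  simp only [Category.assoc, Iso.inv_hom_id_assoc]
  rw [reassoc_of% (homologyMap_comp_zero κ η w I i), zero_comp, comp_zero]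

variable (h : ∀ Q : C, Injective Q →
  (ShortComplex.mk (κ.app Q) (η.app Q) (w_app κ η w Q)).ShortExact)

include h in
lemma exact₂_I {X : C} (I : InjectiveResolution X) (i : ℕ) :
    (ShortComplex.mk _ _ (homologyMap_comp_zero κ η w I i)).Exact :=
  (shortExact_SC κ η w h I).homology_exact₂ i

include h in
/-- Exactness of `R^i Γ X ⟶ R^i E X ⟶ R^i P X`. -/
lemma exact₂ (i : ℕ) (X : C) :
    (ShortComplex.mk ((NatTrans.rightDerived κ i).app X) ((NatTrans.rightDerived η i).app X)
      (rightDerived_app_comp_zero κ η w i X)).Exact := by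
  let I := injectiveResolution X
  refine ShortComplex.exact_of_iso (ShortComplex.isoMk (isoH Γ I i).symm (isoH E I i).symm
    (isoH P I i).symm ?_ ?_) (exact₂_I κ η w h I i)
  · dsimp only [Iso.symm_hom]
    rw [rightDerived_app_eq κ I i]
    simp only [Category.assoc, Iso.inv_hom_id_assoc]
  · dsimp only [Iso.symm_hom]
    rw [rightDerived_app_eq η I i]
    simp only [Category.assoc, Iso.inv_hom_id_assoc]

lemma δI_comp_homologyMap {X : C} (I : InjectiveResolution X) (i : ℕ) :
    δI κ η w h I i ≫
      HomologicalComplex.homologyMap ((NatTrans.mapHomologicalComplex κ _).app I.cocomplex) (i + 1)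
        = 0 :=
  (shortExact_SC κ η w h I).δ_comp i (i + 1) rfl

lemma exact₁_I {X : C} (I : InjectiveResolution X) (i : ℕ) :
    (ShortComplex.mk _ _ (δI_comp_homologyMap κ η w h I i)).Exact :=
  (shortExact_SC κ η w h I).homology_exact₁ i (i + 1) rfl

lemma δ_app_comp_rightDerived (i : ℕ) (X : C) :
    (δ κ η w h i).app X ≫ (NatTrans.rightDerived κ (i + 1)).app X = 0 := by
  let I := injectiveResolution X
  rw [δ_app_eq κ η w h I i, rightDerived_app_eq κ I (i + 1)]
  dsimp only [δapp]
  simp only [Category.assoc, Iso.inv_hom_id_assoc]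
  rw [reassoc_of% (δI_comp_homologyMap κ η w h I i), zero_comp, comp_zero]

/-- Exactness of `R^i P X ⟶ R^{i+1} Γ X ⟶ R^{i+1} E X`. -/
lemma exact₁ (i : ℕ) (X : C) :
    (ShortComplex.mk ((δ κ η w h i).app X) ((NatTrans.rightDerived κ (i + 1)).app X)
      (δ_app_comp_rightDerived κ η w h i X)).Exact := by
  let I := injectiveResolution X
  refine ShortComplex.exact_of_iso (ShortComplex.isoMk (isoH P I i).symm (isoH Γ I (i + 1)).symm
    (isoH E I (i + 1)).symm ?_ ?_) (exact₁_I κ η w h I i)
  · dsimp only [Iso.symm_hom]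
    rw [δ_app_eq κ η w h I i]
    dsimp only [δapp]
    simp only [Iso.inv_hom_id_assoc]
  · dsimp only [Iso.symm_hom]
    rw [rightDerived_app_eq κ I (i + 1)]
    simp only [Category.assoc, Iso.inv_hom_id_assoc]

/-- `R^0 κ` is a monomorphism at `X` if `κ` is, for `Γ` left exact. -/
lemma mono_rightDerived_zero_app [PreservesFiniteLimits Γ] [PreservesFiniteLimits E] (X : C)
    (hm : Mono (κ.app X)) : Mono ((NatTrans.rightDerived κ 0).app X) := by
  have hn := congrArg (fun t => t.app X) (toRightDerivedZero_naturality κ)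
  simp only [NatTrans.comp_app] at hn
  have h1 : (NatTrans.rightDerived κ 0).app X =
      inv (Γ.toRightDerivedZero.app X) ≫ κ.app X ≫ E.toRightDerivedZero.app X := by
    rw [← hn, IsIso.inv_hom_id_assoc]
  rw [h1]
  infer_instance

end Groth.Agent.H31.DerivedLES2
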