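import Groth.Agent.H31.SheafHomFirstVar
import Groth.Agent.H31.DerivedLES2

/-!
# The long exact sequence of relative Ext sheaves in the first variable
-/

set_option autoImplicit false
open CategoryTheory Limits Opposite AlgebraicGeometry
universe u

namespace Groth.Agent.H31.RelExtLES

open Groth.Agent.H45 Groth.Agent.H31.SheafHomFirstVar Groth.Agent.H30

variable {X Y : Scheme.{u}} (f : X ⟶ Y)

/-- A morphism of `O_Y`-modules which is surjective on sections over every open is an epi. -/
lemma epi_of_surjective {A B : Y.Modules} (p : A ⟶ B)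
    (h : ∀ V : Y.Opens, Function.Surjective (p.val.app (op V))) : Epi p := by
  have : @Epi (ModSite.Mod Y.sheaf) _ A B p := by
    apply RestrExact.epi_of_locSurj
    intro V y
    refine ⟨⊤, (Opens.grothendieckTopology Y).top_mem V, fun W g _ => ?_⟩
    obtain ⟨x, hx⟩ := h W (res _ g y)
    exact ⟨x, hx⟩
  exact this

/-- `f_*` of a morphism which is surjective on all sections is an epimorphism. -/
lemma epi_pushforward_map {A B : X.Modules} (p : A ⟶ B)
    (h : ∀ W : X.Opens, Function.Surjective (p.val.app (op W))) :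
    Epi ((Scheme.Modules.pushforward f).map p) :=
  epi_of_surjective _ (fun V => h (f ⁻¹ᵁ V))

/-- `f_*` as a functor on `ModSite.Mod X.sheaf` (definitionally `X.Modules`). -/
noncomputable def pf : ModSite.Mod X.sheaf ⥤ Y.Modules := Scheme.Modules.pushforward f

instance : (pf f).Additive := inferInstanceAs (Scheme.Modules.pushforward f).Additive

instance : PreservesFiniteLimits (pf f) := by
  have : PreservesLimitsOfSize.{0, 0} (Scheme.Modules.pushforward f) :=
    (Scheme.Modules.pullbackPushforwardAdjunction f).rightAdjoint_preservesLimits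
  exact (PreservesLimitsOfSize.preservesFiniteLimits (Scheme.Modules.pushforward f) :
    PreservesFiniteLimits (Scheme.Modules.pushforward f))

lemma epi_pf_map {A B : ModSite.Mod X.sheaf} (p : A ⟶ B)
    (h : ∀ W : X.Opens, Function.Surjective (p.val.app (op W))) : Epi ((pf f).map p) :=
  epi_pushforward_map f p h

section LES

variable (S : ShortComplex (ModSite.Mod X.sheaf)) (hS : S.ShortExact)
  [ModSite.HasSheafHom (O := X.sheaf) S.X₁] [ModSite.HasSheafHom (O := X.sheaf) S.X₂]
  [ModSite.HasSheafHom (O := X.sheaf) S.X₃]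

/-- `κ : f_* ℋom(X₃, -) ⟶ f_* ℋom(X₂, -)` -/
noncomputable abbrev κ : ModSite.sheafHom (O := X.sheaf) S.X₃ ⋙ pf f ⟶
    ModSite.sheafHom (O := X.sheaf) S.X₂ ⋙ pf f :=
  Functor.whiskerRight (ExtSupp.sheafHomMap (O := X.sheaf) S.g) (pf f)

/-- `η : f_* ℋom(X₂, -) ⟶ f_* ℋom(X₁, -)` -/
noncomputable abbrev η : ModSite.sheafHom (O := X.sheaf) S.X₂ ⋙ pf f ⟶
    ModSite.sheafHom (O := X.sheaf) S.X₁ ⋙ pf f :=
  Functor.whiskerRight (ExtSupp.sheafHomMap (O := X.sheaf) S.f) (pf f)

lemma w : κ f S ≫ η f S = 0 := by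
  ext N : 2
  show (pf f).map ((ExtSupp.sheafHomMap (O := X.sheaf) S.g).app N) ≫
    (pf f).map ((ExtSupp.sheafHomMap (O := X.sheaf) S.f).app N) = 0
  rw [← Functor.map_comp, sheafHomMap_comp_zero S N, Functor.map_zero]

include hS in
lemma shortExact (Q : ModSite.Mod X.sheaf) (hQ : Injective Q) :
    (ShortComplex.mk ((κ f S).app Q) ((η f S).app Q) (DerivedLES.w_app _ _ (w f S) Q)).ShortExact := by
  have := hS.epi_g
  have := hS.mono_f
  have hm : Mono ((ExtSupp.sheafHomMap (O := X.sheaf) S.g).app Q) :=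
    mono_sheafHomMap_g S Q hS.exact
  have hex := exact_sheafHomMap S Q hS.exact
  have hsurj := surjective_sheafHomMap_app (O := X.sheaf) S.f Q
  refine ShortComplex.ShortExact.mk' ?_ ?_ ?_
  · exact hex.map_of_mono_of_preservesKernel (pf f) hm inferInstance
  · exact (inferInstance : Mono ((pf f).map
      ((ExtSupp.sheafHomMap (O := X.sheaf) S.g).app Q)))
  · exact epi_pf_map f _ hsurj

variable [HasInjectiveResolutions (ModSite.Mod X.sheaf)]
  [(ModSite.sheafHom (O := X.sheaf) S.X₁ ⋙ pf f).Additive]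
  [(ModSite.sheafHom (O := X.sheaf) S.X₂ ⋙ pf f).Additive]
  [(ModSite.sheafHom (O := X.sheaf) S.X₃ ⋙ pf f).Additive]

include hS in
theorem les (G : ModSite.Mod X.sheaf) :
    Mono ((NatTrans.rightDerived (κ f S) 0).app G) ∧
    (∀ p : ℕ, ∃ w : (NatTrans.rightDerived (κ f S) p).app G ≫
        (NatTrans.rightDerived (η f S) p).app G = 0, (ShortComplex.mk _ _ w).Exact) ∧
    ∃ δ : ∀ p : ℕ, ((ModSite.sheafHom (O := X.sheaf) S.X₁ ⋙ pf f).rightDerived p).obj G ⟶
        ((ModSite.sheafHom (O := X.sheaf) S.X₃ ⋙ pf f).rightDerived (p + 1)).obj G,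
      ∀ p : ℕ,
        (∃ w : (NatTrans.rightDerived (η f S) p).app G ≫ δ p = 0, (ShortComplex.mk _ _ w).Exact) ∧
        (∃ w : δ p ≫ (NatTrans.rightDerived (κ f S) (p + 1)).app G = 0,
          (ShortComplex.mk _ _ w).Exact) := by
  have h := shortExact f S hS
  have hl₃ : PreservesFiniteLimits (ModSite.sheafHom (O := X.sheaf) S.X₃ ⋙ pf f) := by
    have : PreservesLimitsOfSize.{0, 0} (ModSite.sheafHom (O := X.sheaf) S.X₃) :=
      (ModSite.sheafHomAdj S.X₃).rightAdjoint_preservesLimits
    have : PreservesFiniteLimits (ModSite.sheafHom (O := X.sheaf) S.X₃) :=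
      PreservesLimitsOfSize.preservesFiniteLimits _
    infer_instance
  have hl₂ : PreservesFiniteLimits (ModSite.sheafHom (O := X.sheaf) S.X₂ ⋙ pf f) := by
    have : PreservesLimitsOfSize.{0, 0} (ModSite.sheafHom (O := X.sheaf) S.X₂) :=
      (ModSite.sheafHomAdj S.X₂).rightAdjoint_preservesLimits
    have : PreservesFiniteLimits (ModSite.sheafHom (O := X.sheaf) S.X₂) :=
      PreservesLimitsOfSize.preservesFiniteLimits _
    infer_instance
  have := hS.epi_g
  refine ⟨?_, fun p => ⟨_, DerivedLES2.exact₂ (κ f S) (η f S) (w f S) h p G⟩,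
    fun p => (DerivedLES.δ (κ f S) (η f S) (w f S) h p).app G, fun p => ⟨⟨_, DerivedLES.exact₃ _ _ _ h p G⟩,
      ⟨_, DerivedLES2.exact₁ _ _ _ h p G⟩⟩⟩
  apply DerivedLES2.mono_rightDerived_zero_app
  have hm : Mono ((ExtSupp.sheafHomMap (O := X.sheaf) S.g).app G) :=
    mono_sheafHomMap_g S G hS.exact
  exact (inferInstance : Mono ((pf f).map ((ExtSupp.sheafHomMap (O := X.sheaf) S.g).app G)))

end LES

end Groth.Agent.H31.RelExtLES
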