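import Groth.Agent.H31.ContraRes
import Groth.Agent.H31.RelExtLES

/-!
# The contravariant families `M ↦ ℋom(M, -)` and `M ↦ f_* ℋom(M, -)` on a scheme
-/

set_option autoImplicit false
open CategoryTheory Limits Opposite AlgebraicGeometry
universe u

namespace Groth.Agent.H31.ContraResSch

open Groth.Agent.H45 Groth.Agent.H31.SheafHomFirstVar Groth.Agent.H30

section Site

variable {C : Type u} [SmallCategory C] {J : GrothendieckTopology C} {O : Sheaf J CommRingCat.{u}}

lemma sheafHomMap_comp {M M' M'' : ModSite.Mod O} [ModSite.HasSheafHom M] [ModSite.HasSheafHom M']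
    [ModSite.HasSheafHom M''] (h : M'' ⟶ M') (g : M' ⟶ M) :
    ExtSupp.sheafHomMap (h ≫ g) = ExtSupp.sheafHomMap g ≫ ExtSupp.sheafHomMap h := by
  dsimp only [ExtSupp.sheafHomMap]
  rw [conjugateEquiv_comp, Functor.map_comp]

lemma sheafHomMap_zero (M M' : ModSite.Mod O) [ModSite.HasSheafHom M] [ModSite.HasSheafHom M'] :
    ExtSupp.sheafHomMap (0 : M' ⟶ M) = 0 := by
  ext N : 2
  apply ((ModSite.sheafHomAdj M').homEquiv _ N).symm.injective
  have h := homEquiv_symm_comp_sheafHomMap (0 : M' ⟶ M) (N := N) (𝟙 ((ModSite.sheafHom M).obj N))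
  rw [Category.id_comp] at h
  rw [h, Functor.map_zero, zero_comp]
  exact (homEquiv_symm_zero M' _ N).symm

end Site

variable {X Y : Scheme.{u}} (f : X ⟶ Y)

scoped instance (M : ModSite.Mod X.sheaf) : ModSite.HasSheafHom (O := X.sheaf) M := hasSheafHom X.sheaf M

lemma preservesFiniteLimits_sheafHom (M : ModSite.Mod X.sheaf) :
    PreservesFiniteLimits (ModSite.sheafHom (O := X.sheaf) M) := by
  have : PreservesLimitsOfSize.{0, 0} (ModSite.sheafHom (O := X.sheaf) M) :=
    (ModSite.sheafHomAdj M).rightAdjoint_preservesLimits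
  exact PreservesLimitsOfSize.preservesFiniteLimits _

/-- The family `M ↦ f_* ℋom(M, -)`. -/
noncomputable def famRel : ContraRes.Fam (ModSite.Mod X.sheaf) Y.Modules where
  T M := ModSite.sheafHom (O := X.sheaf) M ⋙ RelExtLES.pf f
  add M := inferInstance
  lex M := by
    have := preservesFiniteLimits_sheafHom M
    infer_instance
  τ g := Functor.whiskerRight (ExtSupp.sheafHomMap (O := X.sheaf) g) (RelExtLES.pf f)
  τ_comp h g := by
    rw [sheafHomMap_comp, Functor.whiskerRight_comp]
  τ_zero M M' := by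
    rw [sheafHomMap_zero]
    ext N : 2
    exact (RelExtLES.pf f).map_zero _ _
  mono S hS hg N := by
    have hm : Mono ((ExtSupp.sheafHomMap (O := X.sheaf) S.g).app N) :=
      mono_sheafHomMap_g S N hS
    exact (inferInstance : Mono ((RelExtLES.pf f).map
      ((ExtSupp.sheafHomMap (O := X.sheaf) S.g).app N)))
  exact S hS hg N w := by
    have hm : Mono ((ExtSupp.sheafHomMap (O := X.sheaf) S.g).app N) :=
      mono_sheafHomMap_g S N hS
    have hex := exact_sheafHomMap S N hS
    exact hex.map_of_mono_of_preservesKernel (RelExtLES.pf f) hm inferInstance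
  epi S hS Q hQ := by
    have := hS.mono_f
    exact RelExtLES.epi_pf_map f _ (surjective_sheafHomMap_app (O := X.sheaf) S.f Q)

end Groth.Agent.H31.ContraResSch
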