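import Groth.Agent.H31.DiskStep
import Mathlib.CategoryTheory.Functor.OfSequence
import Mathlib.CategoryTheory.Limits.Constructions.EventuallyConstant
import Mathlib.Algebra.Homology.HomologicalComplexLimits
import Mathlib.Data.ENat.Basic

/-!
# Resolving an unbounded complex by objects with `d = 0`, for a dimension function `d`
-/

set_option autoImplicit false
universe v u
open CategoryTheory Limits
open scoped ENat

namespace Groth.Agent.H31.DimRes

open Groth.Agent.H31.Disk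

section Seq

variable {𝒞 : Type*} [Category 𝒞]

/-- If all the maps `F k ⟶ F (k+1)`, `k ≥ k₀`, belong to a multiplicative class `W`, then so do
all maps `F i ⟶ F j` for `k₀ ≤ i ≤ j`. -/
lemma map_mem_of_succ (F : ℕ ⥤ 𝒞) (W : MorphismProperty 𝒞) [W.IsMultiplicative] (k₀ : ℕ)
    (h : ∀ k, k₀ ≤ k → W (F.map (homOfLE (Nat.le_succ k)))) :
    ∀ (i j : ℕ) (_ : k₀ ≤ i) (f : i ⟶ j), W (F.map f) := by
  intro i j hi f
  obtain ⟨n, rfl⟩ := Nat.exists_eq_add_of_le (leOfHom f)
  induction n with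
  | zero =>
    obtain rfl : f = 𝟙 i := Subsingleton.elim _ _
    rw [F.map_id]
    exact W.id_mem _
  | succ n ih =>
    have e : f = homOfLE (Nat.le_add_right i n) ≫ homOfLE (Nat.le_succ (i + n)) :=
      Subsingleton.elim _ _
    rw [e, F.map_comp]
    exact W.comp_mem _ _ (ih _) (h _ (hi.trans (Nat.le_add_right i n)))

end Seq

variable {A : Type u} [Category.{v} A] [Abelian A]

lemma quasiIsoAt_of_isIso_f {K L : CochainComplex A ℤ} (φ : K ⟶ L) (m : ℤ)
    (h₁ : IsIso (φ.f (m - 1))) (h₂ : IsIso (φ.f m)) (h₃ : IsIso (φ.f (m + 1))) :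
    QuasiIsoAt φ m := by
  rw [quasiIsoAt_iff' φ (m - 1) m (m + 1) (by simp) (by simp)]
  have e₁ : Epi ((HomologicalComplex.shortComplexFunctor' A (ComplexShape.up ℤ)
      (m - 1) m (m + 1)).map φ).τ₁ := (inferInstance : Epi (φ.f (m - 1)))
  have e₂ : IsIso ((HomologicalComplex.shortComplexFunctor' A (ComplexShape.up ℤ)
      (m - 1) m (m + 1)).map φ).τ₂ := h₂
  have e₃ : Mono ((HomologicalComplex.shortComplexFunctor' A (ComplexShape.up ℤ)
      (m - 1) m (m + 1)).map φ).τ₃ := (inferInstance : Mono (φ.f (m + 1)))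
  exact ShortComplex.quasiIso_of_epi_of_isIso_of_mono _

variable (d : A → ℕ∞)
  (h1 : ∀ X : A, ∃ (Y : A) (ι : X ⟶ Y), Mono ι ∧ d Y = 0)

include h1 in
lemma exists_emb (X : A) :
    ∃ (Y : A) (ι : X ⟶ Y), Mono ι ∧ d Y = 0 ∧ (d X = 0 → IsIso ι) := by
  by_cases h : d X = 0
  · exact ⟨X, 𝟙 X, inferInstance, h, fun _ => inferInstance⟩
  · obtain ⟨Y, ι, hm, hY⟩ := h1 X
    exact ⟨Y, ι, hm, hY, fun h' => absurd h' h⟩

/-- A chosen object with `d = 0` containing `X` (equal to `X` if `d X = 0`). -/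
noncomputable def embObj (X : A) : A := (exists_emb d h1 X).choose

/-- The chosen embedding. -/
noncomputable def emb (X : A) : X ⟶ embObj d h1 X := (exists_emb d h1 X).choose_spec.choose

instance mono_emb (X : A) : Mono (emb d h1 X) := (exists_emb d h1 X).choose_spec.choose_spec.1

lemma d_embObj (X : A) : d (embObj d h1 X) = 0 := (exists_emb d h1 X).choose_spec.choose_spec.2.1

lemma isIso_emb (X : A) (h : d X = 0) : IsIso (emb d h1 X) :=
  (exists_emb d h1 X).choose_spec.choose_spec.2.2 h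

/-- One improvement step. -/
noncomputable def next (K : CochainComplex A ℤ) : CochainComplex A ℤ :=
  step K (fun m => embObj d h1 (K.X m)) (fun m => emb d h1 (K.X m))

/-- `K ⟶ next K`. -/
noncomputable def nextι (K : CochainComplex A ℤ) : K ⟶ next d h1 K :=
  stepι K (fun m => embObj d h1 (K.X m)) (fun m => emb d h1 (K.X m))

instance quasiIso_nextι (K : CochainComplex A ℤ) : QuasiIso (nextι d h1 K) :=
  quasiIso_stepι K _ _

lemma isIso_nextι_f (K : CochainComplex A ℤ) (m : ℤ) (h0 : d (K.X m) = 0)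
    (h0' : d (K.X (m - 1)) = 0) : IsIso ((nextι d h1 K).f m) := by
  have := isIso_emb d h1 _ h0
  have := isIso_emb d h1 _ h0'
  exact isIso_stepι_f K _ _ m

variable (h2 : ∀ X Y : A, d (X ⊞ Y) ≤ max (d X) (d Y))
  (h3 : ∀ S : ShortComplex A, S.ShortExact → d S.X₃ ≤ max (d S.X₁ - 1) (d S.X₂))

include h2 h3 in
lemma d_next_le (K : CochainComplex A ℤ) (m : ℤ) :
    d ((next d h1 K).X m) ≤ d (K.X (m - 1)) - 1 := by
  have hS := shortExact_ww K (fun m => embObj d h1 (K.X m)) (fun m => emb d h1 (K.X m)) m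
  have h := h3 _ hS
  have hz : d (embObj d h1 (K.X m) ⊞ embObj d h1 (K.X (m - 1))) = 0 := by
    have := h2 (embObj d h1 (K.X m)) (embObj d h1 (K.X (m - 1)))
    rw [d_embObj d h1, d_embObj d h1, max_self] at this
    exact le_antisymm this (by simp)
  refine h.trans ?_
  change max (d (K.X (m - 1)) - 1)
    (d (embObj d h1 (K.X m) ⊞ embObj d h1 (K.X (m - 1)))) ≤ _
  rw [hz, max_eq_left (by simp)]

/-- The sequence of improved complexes. -/
noncomputable def seq (K : CochainComplex A ℤ) : ℕ → CochainComplex A ℤ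
  | 0 => K
  | (k + 1) => next d h1 (seq K k)

/-- The sequence as a functor. -/
noncomputable def F (K : CochainComplex A ℤ) : ℕ ⥤ CochainComplex A ℤ :=
  Functor.ofSequence (fun k => nextι d h1 (seq d h1 K k))

include h2 h3 in
lemma d_seq_le (K : CochainComplex A ℤ) (k : ℕ) (m : ℤ) :
    d ((seq d h1 K k).X m) ≤ d (K.X (m - k)) - k := by
  induction k generalizing m with
  | zero => simp [seq]
  | succ k ih =>
    have e : m - 1 - (k : ℤ) = m - ((k + 1 : ℕ) : ℤ) := by push_cast; omega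
    have h := (d_next_le d h1 h2 h3 (seq d h1 K k) m).trans (tsub_le_tsub_right (ih (m - 1)) 1)
    rw [e, tsub_tsub] at h
    exact h


variable (K : CochainComplex A ℤ)
  (hK : ∀ m : ℤ, ∃ N : ℤ, ∀ n : ℤ, n ≤ N → ∃ k : ℕ, d (K.X n) = k ∧ n + k ≤ m)

include h2 h3 hK in
lemma exists_d_seq_eq_zero (m : ℤ) : ∃ k₀ : ℕ, ∀ k : ℕ, k₀ ≤ k → d ((seq d h1 K k).X m) = 0 := by
  obtain ⟨N, hN⟩ := hK m
  refine ⟨(m - N).toNat, fun k hk => ?_⟩
  have hle : m - (k : ℤ) ≤ N := by
    have := Int.self_le_toNat (m - N)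
    have : ((m - N).toNat : ℤ) ≤ (k : ℤ) := by exact_mod_cast hk
    omega
  obtain ⟨c, hc, hcm⟩ := hN _ hle
  have hck : c ≤ k := by omega
  have h := d_seq_le d h1 h2 h3 K k m
  rw [hc] at h
  have hz : ((c : ℕ∞) - (k : ℕ∞)) = 0 := by
    rw [tsub_eq_zero_iff_le]
    exact_mod_cast hck
  rw [hz] at h
  exact le_antisymm h (by simp)

include h2 h3 hK in
lemma exists_isIso_nextι_f (m : ℤ) :
    ∃ k₀ : ℕ, ∀ k : ℕ, k₀ ≤ k → IsIso ((nextι d h1 (seq d h1 K k)).f m) := by
  obtain ⟨a, ha⟩ := exists_d_seq_eq_zero d h1 h2 h3 K hK m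
  obtain ⟨b, hb⟩ := exists_d_seq_eq_zero d h1 h2 h3 K hK (m - 1)
  exact ⟨max a b, fun k hk => isIso_nextι_f d h1 _ m
    (ha k ((le_max_left a b).trans hk)) (hb k ((le_max_right a b).trans hk))⟩

lemma F_map_succ (k : ℕ) :
    (F d h1 K).map (homOfLE (Nat.le_succ k)) = nextι d h1 (seq d h1 K k) :=
  Functor.ofSequence_map_homOfLE_succ _ k

include h2 h3 hK in
lemma exists_isEventuallyConstantFrom (m : ℤ) : ∃ k₀ : ℕ,
    (F d h1 K ⋙ HomologicalComplex.eval A (ComplexShape.up ℤ) m).IsEventuallyConstantFrom k₀ ∧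
    ∀ k : ℕ, k₀ ≤ k → d ((seq d h1 K k).X m) = 0 := by
  obtain ⟨a, ha⟩ := exists_isIso_nextι_f d h1 h2 h3 K hK m
  obtain ⟨b, hb⟩ := exists_d_seq_eq_zero d h1 h2 h3 K hK m
  refine ⟨max a b, ?_, fun k hk => hb k ((le_max_right a b).trans hk)⟩
  intro j f
  refine map_mem_of_succ (F d h1 K ⋙ HomologicalComplex.eval A (ComplexShape.up ℤ) m)
    (MorphismProperty.isomorphisms A) (max a b) (fun k hk => ?_) (max a b) j le_rfl f
  rw [MorphismProperty.isomorphisms.iff]
  change IsIso (((F d h1 K).map (homOfLE (Nat.le_succ k))).f m)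
  rw [F_map_succ]
  exact ha k ((le_max_left a b).trans hk)

lemma quasiIso_F_map {i j : ℕ} (f : i ⟶ j) : QuasiIso ((F d h1 K).map f) := by
  have := map_mem_of_succ (F d h1 K) (HomologicalComplex.quasiIso A (ComplexShape.up ℤ)) 0
    (fun k _ => by
      rw [HomologicalComplex.mem_quasiIso_iff, F_map_succ]
      exact quasiIso_nextι d h1 _) i j (Nat.zero_le i) f
  rwa [HomologicalComplex.mem_quasiIso_iff] at this

include h1 h2 h3 hK in
/-- The main result. -/
theorem exists_resolution (hiso : ∀ ⦃X Y : A⦄, Nonempty (X ≅ Y) → d X = d Y) :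
    ∃ (L : CochainComplex A ℤ) (f : K ⟶ L), QuasiIso f ∧ ∀ n, d (L.X n) = 0 := by
  choose k₀ hk₀ hzero using exists_isEventuallyConstantFrom d h1 h2 h3 K hK
  have hcol : ∀ m, HasColimit (F d h1 K ⋙ HomologicalComplex.eval A (ComplexShape.up ℤ) m) :=
    fun m => (hk₀ m).hasColimit
  have hiso_ι : ∀ (m : ℤ) (j : ℕ), k₀ m ≤ j → IsIso ((colimit.ι (F d h1 K) j).f m) := by
    intro m j hj
    have hc := isColimitOfPreserves (HomologicalComplex.eval A (ComplexShape.up ℤ) m)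
      (colimit.isColimit (F d h1 K))
    exact (hk₀ m).isIso_ι_of_isColimit' hc j (homOfLE hj)
  have hq0 : QuasiIso (colimit.ι (F d h1 K) 0) := by
    rw [quasiIso_iff]
    intro m
    obtain ⟨k, hk1, hk2, hk3⟩ : ∃ k, k₀ (m - 1) ≤ k ∧ k₀ m ≤ k ∧ k₀ (m + 1) ≤ k :=
      ⟨max (k₀ (m - 1)) (max (k₀ m) (k₀ (m + 1))), le_max_left _ _,
        (le_max_left _ _).trans (le_max_right _ _), (le_max_right _ _).trans (le_max_right _ _)⟩
    have e : colimit.ι (F d h1 K) 0 =
        (F d h1 K).map (homOfLE (Nat.zero_le k)) ≫ colimit.ι (F d h1 K) k :=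
      (colimit.w (F d h1 K) (homOfLE (Nat.zero_le k))).symm
    have hq := quasiIso_F_map d h1 K (homOfLE (Nat.zero_le k))
    have hq' : QuasiIsoAt (colimit.ι (F d h1 K) k) m :=
      quasiIsoAt_of_isIso_f _ m (hiso_ι (m - 1) k hk1) (hiso_ι m k hk2) (hiso_ι (m + 1) k hk3)
    rw [e]
    infer_instance
  refine ⟨colimit (F d h1 K), colimit.ι (F d h1 K) 0, hq0, fun m => ?_⟩
  · have e : (seq d h1 K (k₀ m)).X m ≅ (colimit (F d h1 K)).X m :=
      @asIso _ _ _ _ ((colimit.ι (F d h1 K) (k₀ m)).f m) (hiso_ι m (k₀ m) le_rfl)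
    rw [← hiso ⟨e⟩]
    exact hzero m (k₀ m) le_rfl

end Groth.Agent.H31.DimRes
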