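import Mathlib

/-!
# Dimension shifting for `Abelian.Ext` (covariant variable)
-/

namespace Groth.Agent.H31.DimShift

open CategoryTheory Abelian Limits

universe w v u

variable {A : Type u} [Category.{v} A] [Abelian A] [HasExt.{w} A]
variable {S : ShortComplex A} (hS : S.ShortExact)

include hS in
/-- If `Ext^1(X, S.X₁) = 0` then every map `X ⟶ S.X₃` lifts to `S.X₂`. -/
lemma exists_lift_of_subsingleton_ext_one (X : A) [Subsingleton (Ext X S.X₁ 1)] (φ : X ⟶ S.X₃) :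
    ∃ ψ : X ⟶ S.X₂, ψ ≫ S.g = φ := by
  obtain ⟨x₂, hx₂⟩ := Ext.covariant_sequence_exact₃ X hS (Ext.mk₀ φ) (n₁ := 1) rfl
    (Subsingleton.elim _ _)
  obtain ⟨ψ, rfl⟩ := (Ext.mk₀_bijective X S.X₂).surjective x₂
  refine ⟨ψ, (Ext.mk₀_bijective X S.X₃).injective ?_⟩
  rw [← hx₂, Ext.mk₀_comp_mk₀]

include hS in
/-- If `S.X₂` is injective and every map `X ⟶ S.X₃` lifts to `S.X₂`, then `Ext^1(X, S.X₁) = 0`. -/
lemma subsingleton_ext_one_of_exists_lift [Injective S.X₂] (X : A)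
    (h : ∀ φ : X ⟶ S.X₃, ∃ ψ : X ⟶ S.X₂, ψ ≫ S.g = φ) : Subsingleton (Ext X S.X₁ 1) := by
  refine subsingleton_of_forall_eq 0 fun x₁ => ?_
  obtain ⟨x₃, hx₃⟩ := Ext.covariant_sequence_exact₁ X hS x₁ (Ext.eq_zero_of_injective _)
    (n₀ := 0) rfl
  obtain ⟨φ, rfl⟩ := (Ext.mk₀_bijective X S.X₃).surjective x₃
  obtain ⟨ψ, rfl⟩ := h φ
  rw [← hx₃, ← Ext.mk₀_comp_mk₀, Ext.comp_assoc_of_second_deg_zero, hS.comp_extClass,
    Ext.comp_zero]

include hS in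
lemma subsingleton_ext_succ_iff [Injective S.X₂] (X : A) (q : ℕ) :
    Subsingleton (Ext X S.X₁ (q + 2)) ↔ Subsingleton (Ext X S.X₃ (q + 1)) := by
  constructor
  · intro h
    refine subsingleton_of_forall_eq 0 fun x₃ => ?_
    obtain ⟨x₂, hx₂⟩ := Ext.covariant_sequence_exact₃ X hS x₃ (n₁ := q + 2) rfl
      (Subsingleton.elim _ _)
    rw [← hx₂, Ext.eq_zero_of_injective x₂, Ext.zero_comp]
  · intro h
    refine subsingleton_of_forall_eq 0 fun x₁ => ?_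
    obtain ⟨x₃, hx₃⟩ := Ext.covariant_sequence_exact₁ X hS x₁ (Ext.eq_zero_of_injective _)
      (n₀ := q + 1) rfl
    rw [← hx₃, Subsingleton.elim x₃ 0, Ext.zero_comp]

end Groth.Agent.H31.DimShift
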