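import Mathlib.Algebra.Homology.HomologicalComplexAbelian
import Mathlib.Algebra.Homology.HomologySequenceLemmas
import Mathlib.Algebra.Homology.QuasiIso
import Mathlib.CategoryTheory.Abelian.CommSq

/-!
# The contractible "disk" complex on a graded object
-/

set_option autoImplicit false
universe v u
open CategoryTheory Limits

namespace Groth.Agent.H31.Disk

variable {A : Type u} [Category.{v} A] [Abelian A]

/-- The differential of the disk. -/
noncomputable def diskD (X : ℤ → A) (i j : ℤ) : (X i ⊞ X (i - 1)) ⟶ (X j ⊞ X (j - 1)) :=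
  if h : i + 1 = j then
    biprod.fst ≫ eqToHom (congrArg X (by omega : i = j - 1)) ≫ biprod.inr
  else 0

lemma diskD_eq (X : ℤ → A) (j : ℤ) :
    diskD X (j - 1) j = biprod.fst ≫ (biprod.inr : X (j - 1) ⟶ X j ⊞ X (j - 1)) := by
  simp [diskD]

/-- The complex with terms `X m ⊞ X (m - 1)` and differential `(x, y) ↦ (0, x)`. -/
noncomputable abbrev disk (X : ℤ → A) : CochainComplex A ℤ where
  X m := X m ⊞ X (m - 1)
  d i j := diskD X i j
  shape i j hij := dif_neg hij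
  d_comp_d' i j k hij hjk := by
    obtain rfl : i = j - 1 := by simp at hij; omega
    obtain rfl : j = k - 1 := by simp at hjk; omega
    rw [diskD_eq, diskD_eq]
    simp

lemma desc_comm (X : ℤ → A) (K : CochainComplex A ℤ) (φ : ∀ m, X m ⟶ K.X m) (j : ℤ) :
    (biprod.desc (φ (j - 1)) (φ (j - 1 - 1) ≫ K.d (j - 1 - 1) (j - 1)) :
      X (j - 1) ⊞ X (j - 1 - 1) ⟶ K.X (j - 1)) ≫ K.d (j - 1) j =
    diskD X (j - 1) j ≫ biprod.desc (φ j) (φ (j - 1) ≫ K.d (j - 1) j) := by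
  rw [diskD_eq]
  apply biprod.hom_ext' <;> simp

/-- Maps out of the disk. -/
noncomputable def desc (X : ℤ → A) (K : CochainComplex A ℤ) (φ : ∀ m, X m ⟶ K.X m) :
    disk X ⟶ K where
  f m := (biprod.desc (φ m) (φ (m - 1) ≫ K.d (m - 1) m) : X m ⊞ X (m - 1) ⟶ K.X m)
  comm' i j hij := by
    obtain rfl : i = j - 1 := by simp at hij; omega
    exact desc_comm X K φ j

lemma map_comm {X Y : ℤ → A} (g : ∀ m, X m ⟶ Y m) (j : ℤ) :
    biprod.map (g (j - 1)) (g (j - 1 - 1)) ≫ diskD Y (j - 1) j =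
      diskD X (j - 1) j ≫ biprod.map (g j) (g (j - 1)) := by
  rw [diskD_eq, diskD_eq]
  apply biprod.hom_ext' <;> simp

/-- Functoriality of the disk. -/
noncomputable def map {X Y : ℤ → A} (g : ∀ m, X m ⟶ Y m) : disk X ⟶ disk Y where
  f m := (biprod.map (g m) (g (m - 1)) : X m ⊞ X (m - 1) ⟶ Y m ⊞ Y (m - 1))
  comm' i j hij := by
    obtain rfl : i = j - 1 := by simp at hij; omega
    exact map_comm g j


lemma diskD_comp (X : ℤ → A) (k : ℤ) : diskD X (k - 1 - 1) (k - 1) ≫ diskD X (k - 1) k = 0 := by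
  rw [diskD_eq, diskD_eq]; simp

lemma exact_aux (X : ℤ → A) (k : ℤ) :
    (ShortComplex.mk (diskD X (k - 1 - 1) (k - 1)) (diskD X (k - 1) k) (diskD_comp X k)).Exact := by
  rw [ShortComplex.exact_iff_exact_up_to_refinements]
  intro T (x₂ : T ⟶ X (k - 1) ⊞ X (k - 1 - 1)) (hx₂ : x₂ ≫ diskD X (k - 1) k = 0)
  rw [diskD_eq] at hx₂
  have h0 : x₂ ≫ biprod.fst = 0 := by
    rw [← cancel_mono (biprod.inr : X (k - 1) ⟶ X k ⊞ X (k - 1)), Category.assoc, hx₂, zero_comp]
  have key : x₂ = (x₂ ≫ biprod.snd ≫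
      (biprod.inl : _ ⟶ X (k - 1 - 1) ⊞ X (k - 1 - 1 - 1))) ≫ diskD X (k - 1 - 1) (k - 1) := by
    rw [diskD_eq]
    have h1 : x₂ = x₂ ≫ (biprod.fst ≫ biprod.inl + biprod.snd ≫ biprod.inr) := by
      rw [biprod.total, Category.comp_id]
    conv_lhs => rw [h1]
    rw [Preadditive.comp_add, ← Category.assoc, h0, zero_comp, zero_add]
    simp
  exact ⟨T, 𝟙 T, inferInstance, x₂ ≫ biprod.snd ≫
    (biprod.inl : _ ⟶ X (k - 1 - 1) ⊞ X (k - 1 - 1 - 1)), (Category.id_comp _).trans key⟩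

lemma exactAt_disk_pred (X : ℤ → A) (k : ℤ) : (disk X).ExactAt (k - 1) := by
  rw [HomologicalComplex.exactAt_iff' _ (k - 1 - 1) (k - 1) k (by simp) (by simp)]
  exact exact_aux X k

lemma exactAt_disk (X : ℤ → A) (m : ℤ) : (disk X).ExactAt m := by
  have := exactAt_disk_pred X (m + 1)
  simpa using this

lemma acyclic_disk (X : ℤ → A) : (disk X).Acyclic := fun m => exactAt_disk X m

instance mono_map {X Y : ℤ → A} (g : ∀ m, X m ⟶ Y m) [∀ m, Mono (g m)] : Mono (map g) := by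
  have : ∀ m, Mono ((map g).f m) := fun m =>
    (inferInstance : Mono (biprod.map (g m) (g (m - 1))))
  exact HomologicalComplex.mono_of_mono_f _ this

end Groth.Agent.H31.Disk
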