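import Groth.Agent.H31.Disk

/-!
# One improvement step: pushing out along the disk
-/

set_option autoImplicit false
universe v u
open CategoryTheory Limits

namespace Groth.Agent.H31.Disk

section General

variable {𝒞 : Type*} [Category 𝒞] [Abelian 𝒞]

/-- The map `pushout f g ⟶ coker g`. -/
noncomputable def pushoutToCokernel {Z X Y : 𝒞} (f : Z ⟶ X) (g : Z ⟶ Y) :
    pushout f g ⟶ cokernel g :=
  pushout.desc 0 (cokernel.π g) (by rw [comp_zero, cokernel.condition])

@[reassoc (attr := simp)]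
lemma inl_pushoutToCokernel {Z X Y : 𝒞} (f : Z ⟶ X) (g : Z ⟶ Y) :
    pushout.inl f g ≫ pushoutToCokernel f g = 0 := pushout.inl_desc _ _ _

@[reassoc (attr := simp)]
lemma inr_pushoutToCokernel {Z X Y : 𝒞} (f : Z ⟶ X) (g : Z ⟶ Y) :
    pushout.inr f g ≫ pushoutToCokernel f g = cokernel.π g := pushout.inr_desc _ _ _

/-- For a pushout square with one leg `g` mono, `coker (pushout.inl f g) ≅ coker g`: the
corresponding short exact sequence. -/
lemma shortExact_pushout_inl {Z X Y : 𝒞} (f : Z ⟶ X) (g : Z ⟶ Y) [Mono g] :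
    (ShortComplex.mk (pushout.inl f g) (pushoutToCokernel f g)
      (inl_pushoutToCokernel f g)).ShortExact := by
  have hepi : Epi (pushoutToCokernel f g) :=
    epi_of_epi_fac (inr_pushoutToCokernel f g)
  refine ShortComplex.ShortExact.mk' ?_ (inferInstance : Mono (pushout.inl f g)) hepi
  refine ShortComplex.exact_of_g_is_cokernel _ ?_
  refine CokernelCofork.IsColimit.ofπ _ _
    (fun {T} t ht => cokernel.desc g (pushout.inr f g ≫ t) (by
      rw [← Category.assoc, ← pushout.condition, Category.assoc, ht, comp_zero]))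
    (fun {T} t ht => ?_) (fun {T} t ht m hm => ?_)
  · apply pushout.hom_ext
    · rw [inl_pushoutToCokernel_assoc, zero_comp, ht]
    · rw [inr_pushoutToCokernel_assoc, cokernel.π_desc]
  · rw [← cancel_epi (cokernel.π g), cokernel.π_desc, ← hm, inr_pushoutToCokernel_assoc]

end General

variable {A : Type u} [Category.{v} A] [Abelian A]

lemma quasiIso_f_of_acyclic_X₃ (S : ShortComplex (CochainComplex A ℤ)) (hS : S.ShortExact)
    (h : S.X₃.Acyclic) : QuasiIso S.f := by
  rw [quasiIso_iff]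
  intro i
  rw [quasiIsoAt_iff_isIso_homologyMap]
  have h1 := hS.homology_exact₁ (i - 1) i (by simp)
  have hm : Mono (HomologicalComplex.homologyMap S.f i) :=
    h1.mono_g ((h (i - 1)).isZero_homology.eq_of_src _ _)
  have h2 := hS.homology_exact₂ i
  have he : Epi (HomologicalComplex.homologyMap S.f i) :=
    h2.epi_f ((h i).isZero_homology.eq_of_tgt _ _)
  exact isIso_of_mono_of_epi _

lemma acyclic_cokernel {K L : CochainComplex A ℤ} (v : K ⟶ L) [Mono v] (hK : K.Acyclic)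
    (hL : L.Acyclic) : (cokernel v).Acyclic := by
  have hS : (ShortComplex.mk v (cokernel.π v) (cokernel.condition v)).ShortExact :=
    ShortComplex.ShortExact.mk' (ShortComplex.exact_cokernel v) inferInstance inferInstance
  intro i
  refine hS.exactAt_X₃ i ?_ ?_
  · exact ⟨fun _ _ _ => (hL i).isZero_homology.eq_of_src _ _⟩
  · intro j _
    exact ⟨fun _ _ _ => (hK j).isZero_homology.eq_of_tgt _ _⟩


section Cokernel

variable {𝒞 : Type*} [Category 𝒞] [Abelian 𝒞]

/-- In a pushout square, if the leg `f` is a cokernel of `κ`, then `inr` is a cokernel of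
`κ ≫ g`. -/
noncomputable def isColimitInrOfIsColimit {T Z X Y W : 𝒞} {f : Z ⟶ X} {g : Z ⟶ Y} {inl : X ⟶ W}
    {inr : Y ⟶ W} (sq : IsPushout f g inl inr) (κ : T ⟶ Z) (w : κ ≫ f = 0)
    (hκ : IsColimit (CokernelCofork.ofπ f w)) (w' : (κ ≫ g) ≫ inr = 0) :
    IsColimit (CokernelCofork.ofπ inr w') :=
  haveI : Epi f := epi_of_isColimit_cofork hκ
  CokernelCofork.IsColimit.ofπ _ _
    (fun {T'} t ht => sq.desc (hκ.desc (CokernelCofork.ofπ (g ≫ t)
      (by rw [← Category.assoc]; exact ht))) t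
      (Cofork.IsColimit.π_desc hκ))
    (fun {T'} t ht => sq.inr_desc _ _ _)
    (fun {T'} t ht m hm => by
      have hd : f ≫ hκ.desc (CokernelCofork.ofπ (g ≫ t)
          (by rw [← Category.assoc]; exact ht)) = g ≫ t := Cofork.IsColimit.π_desc hκ
      apply sq.hom_ext
      · rw [sq.inl_desc, ← cancel_epi f, hd, ← Category.assoc, sq.w, Category.assoc, hm]
      · rw [sq.inr_desc, hm])

end Cokernel

section Step

variable (K : CochainComplex A ℤ) (P : ℤ → A) (i : ∀ m, K.X m ⟶ P m)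

/-- `disk K♮ ⟶ K`. -/
noncomputable def u : disk (fun m => K.X m) ⟶ K := desc _ K (fun m => 𝟙 (K.X m))

/-- `disk K♮ ⟶ disk P`. -/
noncomputable def vv : disk (fun m => K.X m) ⟶ disk P := map i

/-- The improved complex. -/
noncomputable def step : CochainComplex A ℤ := pushout (u K) (vv K P i)

/-- `K ⟶ step K`. -/
noncomputable def stepι : K ⟶ step K P i := pushout.inl _ _

/-- `disk P ⟶ step K`. -/
noncomputable def stepInr : disk P ⟶ step K P i := pushout.inr _ _

lemma isPushout_step : IsPushout (u K) (vv K P i) (stepι K P i) (stepInr K P i) :=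
  IsPushout.of_hasPushout _ _

lemma isPushout_step_f (m : ℤ) :
    IsPushout ((u K).f m) ((vv K P i).f m) ((stepι K P i).f m) ((stepInr K P i).f m) :=
  (isPushout_step K P i).map (HomologicalComplex.eval A (ComplexShape.up ℤ) m)

variable [∀ m, Mono (i m)]

instance quasiIso_stepι : QuasiIso (stepι K P i) := by
  have : Mono (vv K P i) := mono_map i
  have hS := shortExact_pushout_inl (u K) (vv K P i)
  exact quasiIso_f_of_acyclic_X₃ _ hS
    (acyclic_cokernel (vv K P i) (acyclic_disk _) (acyclic_disk _))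

lemma isIso_stepι_f (m : ℤ) [IsIso (i m)] [IsIso (i (m - 1))] : IsIso ((stepι K P i).f m) := by
  have : IsIso ((vv K P i).f m) :=
    (biprod.mapIso (asIso (i m)) (asIso (i (m - 1)))).isIso_hom
  exact (isPushout_step_f K P i m).isIso_inl_of_isIso


/-- `κ : K^{m-1} ⟶ K^m ⊞ K^{m-1}`, `y ↦ (-dy, y)`. -/
noncomputable def kap (m : ℤ) : K.X (m - 1) ⟶ K.X m ⊞ K.X (m - 1) :=
  biprod.lift (-(K.d (m - 1) m)) (𝟙 _)

omit [∀ (m : ℤ), Mono (i m)] in
lemma u_f (m : ℤ) : ((u K).f m : K.X m ⊞ K.X (m - 1) ⟶ K.X m) =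
    biprod.desc (𝟙 _) (K.d (m - 1) m) := by
  change biprod.desc (𝟙 _) (𝟙 _ ≫ K.d (m - 1) m) = _
  rw [Category.id_comp]

omit [∀ (m : ℤ), Mono (i m)] in
lemma kap_u (m : ℤ) : kap K m ≫ ((u K).f m : K.X m ⊞ K.X (m - 1) ⟶ K.X m) = 0 := by
  rw [u_f, kap]
  simp

omit [∀ (m : ℤ), Mono (i m)] in
lemma inl_u (m : ℤ) : (biprod.inl : K.X m ⟶ K.X m ⊞ K.X (m - 1)) ≫
    ((u K).f m : K.X m ⊞ K.X (m - 1) ⟶ K.X m) = 𝟙 _ := by
  rw [u_f]; simp

omit [∀ (m : ℤ), Mono (i m)] in
/-- `u_m` is a cokernel of `κ_m`. -/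
noncomputable def isColimit_u (m : ℤ) :
    IsColimit (CokernelCofork.ofπ ((u K).f m : K.X m ⊞ K.X (m - 1) ⟶ K.X m) (kap_u K m)) :=
  CokernelCofork.IsColimit.ofπ _ _
    (fun {T} (t : K.X m ⊞ K.X (m - 1) ⟶ T) _ => biprod.inl ≫ t)
    (fun {T} (t : K.X m ⊞ K.X (m - 1) ⟶ T) (ht : kap K m ≫ t = 0) => by
      have h1 : biprod.inr ≫ t = K.d (m - 1) m ≫ biprod.inl ≫ t := by
        have h2 : kap K m = -(K.d (m - 1) m ≫ biprod.inl) + biprod.inr := by
          rw [kap, biprod.lift_eq]; simp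
        rw [h2, Preadditive.add_comp, Preadditive.neg_comp, neg_add_eq_zero] at ht
        rw [← ht, Category.assoc]
      rw [u_f]
      apply biprod.hom_ext'
      · simp
      · simp [h1])
    (fun {T} (t : K.X m ⊞ K.X (m - 1) ⟶ T) _ (m' : K.X m ⟶ T)
        (hm' : ((u K).f m : K.X m ⊞ K.X (m - 1) ⟶ K.X m) ≫ m' = t) => by
      rw [← hm', ← Category.assoc, inl_u, Category.id_comp])

/-- `w_m : K^{m-1} ⟶ P^m ⊞ P^{m-1}`. -/
noncomputable def ww (m : ℤ) : K.X (m - 1) ⟶ P m ⊞ P (m - 1) :=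
  kap K m ≫ ((vv K P i).f m : K.X m ⊞ K.X (m - 1) ⟶ P m ⊞ P (m - 1))

omit [∀ (m : ℤ), Mono (i m)] in
lemma ww_snd (m : ℤ) : ww K P i m ≫ biprod.snd = i (m - 1) := by
  rw [ww, Category.assoc]
  change kap K m ≫ biprod.map (i m) (i (m - 1)) ≫ biprod.snd = _
  rw [kap]; simp

instance mono_ww (m : ℤ) : Mono (ww K P i m) := mono_of_mono_fac (ww_snd K P i m)

omit [∀ (m : ℤ), Mono (i m)] in
lemma ww_stepInr (m : ℤ) : ww K P i m ≫
    ((stepInr K P i).f m : P m ⊞ P (m - 1) ⟶ (step K P i).X m) = 0 := by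
  have h := (isPushout_step_f K P i m).w
  rw [ww, Category.assoc]
  refine (congrArg (fun t => kap K m ≫ t) h.symm).trans ?_
  exact (Category.assoc _ _ _).symm.trans ((congrArg (fun t => t ≫ _) (kap_u K m)).trans zero_comp)

lemma shortExact_ww (m : ℤ) : (ShortComplex.mk (ww K P i m)
    ((stepInr K P i).f m : P m ⊞ P (m - 1) ⟶ (step K P i).X m) (ww_stepInr K P i m)).ShortExact := by
  have hc : IsColimit (CokernelCofork.ofπ
      ((stepInr K P i).f m : P m ⊞ P (m - 1) ⟶ (step K P i).X m) (ww_stepInr K P i m)) :=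
    isColimitInrOfIsColimit (isPushout_step_f K P i m) (kap K m) (kap_u K m) (isColimit_u K m)
      (ww_stepInr K P i m)
  have hepi : Epi ((stepInr K P i).f m : P m ⊞ P (m - 1) ⟶ (step K P i).X m) :=
    epi_of_isColimit_cofork hc
  exact ShortComplex.ShortExact.mk' (ShortComplex.exact_of_g_is_cokernel _ hc)
    (mono_ww K P i m) hepi

end Step

end Groth.Agent.H31.Disk
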