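import Groth.Agent.H31.SheafHomFirstVar
import Groth.Agent.H31.SheafHomFree
import Groth.Agent.H45.KFlat.Associator
import Groth.Agent.H45.KFlat.Symmetry

/-!
# Pairings and the internal hom on a ringed site

* `isIso_restr_sheafHomMap`: the internal hom `ℋom(M, N)|_U` only depends on `M|_U`: if `g|_U` is an
  isomorphism then so is `ℋom(g, N)|_U`.
* `pairMap p G : G ⊗ A ⟶ ℋom(B, G)` for a pairing `p : A ⊗ B ⟶ O`, natural in `G`
  (`pairNat`), dinatural in the pairing (`pairMap_dinat`), and an isomorphism when `p` is an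
  isomorphism and `- ⊗ B` is an equivalence (`isIso_pairMap`).
-/

set_option autoImplicit false
set_option linter.unusedSectionVars false
open CategoryTheory Limits Opposite
universe u

namespace Groth.Agent.H31.DualLF

open Groth.Agent.H45 Groth.Agent.H31.ExtZero Groth.Agent.H31.SheafHomFirstVar

variable {C : Type u} [SmallCategory C] {J : GrothendieckTopology C} {O : Sheaf J CommRingCat.{u}}

section Locality

variable (U : C) {M M' : ModSite.Mod O} [ModSite.HasSheafHom M] [ModSite.HasSheafHom M']
  (g : M' ⟶ M)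

/-- if `g|_U` is an isomorphism, so is `j_!T ⊗ g` -/
lemma isIso_extZero_tensor_map (hg : IsIso ((ModSite.restr O U).map g))
    (T : ModSite.Mod (O.over U)) :
    IsIso (((ModSite.tensorBi O).obj ((ModSite.extZero O U).obj T)).map g) := by
  have h1 : IsIso ((ModSite.restr O U ⋙ (ModSite.tensorBi (O.over U)).obj T ⋙
      ModSite.extZero O U).map g) := by
    dsimp only [Functor.comp_map]
    infer_instance
  exact (NatIso.isIso_map_iff (projG O U T) g).1 h1

/-- `Hom(T, ℋom(M, N)|_U) ≃ Hom(j_!T ⊗ M, N)` -/
noncomputable def restrHomEquiv (M : ModSite.Mod O) [ModSite.HasSheafHom M] (N : ModSite.Mod O)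
    (T : ModSite.Mod (O.over U)) :
    (T ⟶ (ModSite.restr O U).obj ((ModSite.sheafHom M).obj N)) ≃
      (((ModSite.tensorBi O).obj ((ModSite.extZero O U).obj T)).obj M ⟶ N) :=
  ((ModSite.extZeroAdj O U).homEquiv T _).symm.trans
    ((ModSite.sheafHomAdj M).homEquiv ((ModSite.extZero O U).obj T) N).symm

lemma restrHomEquiv_comp (N : ModSite.Mod O) (T : ModSite.Mod (O.over U))
    (k : T ⟶ (ModSite.restr O U).obj ((ModSite.sheafHom M).obj N)) :
    restrHomEquiv U M' N T (k ≫ (ModSite.restr O U).map ((ExtSupp.sheafHomMap g).app N)) =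
      ((ModSite.tensorBi O).obj ((ModSite.extZero O U).obj T)).map g ≫ restrHomEquiv U M N T k := by
  dsimp only [restrHomEquiv, Equiv.trans_apply]
  rw [Adjunction.homEquiv_naturality_right_symm]
  exact homEquiv_symm_comp_sheafHomMap g _

/-- **Locality of the internal hom in the first variable.** -/
theorem isIso_restr_sheafHomMap (hg : IsIso ((ModSite.restr O U).map g)) (N : ModSite.Mod O) :
    IsIso ((ModSite.restr O U).map ((ExtSupp.sheafHomMap g).app N)) := by
  apply isIso_of_yoneda_map_bijective
  intro T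
  have hi := isIso_extZero_tensor_map U g hg T
  have hb : Function.Bijective (fun k : ((ModSite.tensorBi O).obj
      ((ModSite.extZero O U).obj T)).obj M ⟶ N =>
      ((ModSite.tensorBi O).obj ((ModSite.extZero O U).obj T)).map g ≫ k) := by
    constructor
    · intro a b hab
      exact (cancel_epi _).1 hab
    · intro b
      exact ⟨inv (((ModSite.tensorBi O).obj ((ModSite.extZero O U).obj T)).map g) ≫ b, by simp⟩
  have key : (fun k : T ⟶ (ModSite.restr O U).obj ((ModSite.sheafHom M).obj N) =>
      k ≫ (ModSite.restr O U).map ((ExtSupp.sheafHomMap g).app N)) =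
      (restrHomEquiv U M' N T).symm ∘ (fun k => ((ModSite.tensorBi O).obj
        ((ModSite.extZero O U).obj T)).map g ≫ k) ∘ (restrHomEquiv U M N T) := by
    funext k
    apply (restrHomEquiv U M' N T).injective
    simp only [Function.comp_apply, Equiv.apply_symm_apply]
    exact restrHomEquiv_comp U g N T k
  rw [key]
  exact (restrHomEquiv U M' N T).symm.bijective.comp (hb.comp (restrHomEquiv U M N T).bijective)

end Locality

section Pairing

/-- `A ⊗ B` -/
noncomputable abbrev tens (A B : ModSite.Mod O) : ModSite.Mod O :=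
  ((ModSite.tensorBi O).obj A).obj B

/-- `f ⊗ B` -/
noncomputable abbrev tensL {A A' : ModSite.Mod O} (f : A ⟶ A') (B : ModSite.Mod O) :
    tens A B ⟶ tens A' B := ((ModSite.tensorBi O).map f).app B

/-- `A ⊗ f` -/
noncomputable abbrev tensR (A : ModSite.Mod O) {B B' : ModSite.Mod O} (f : B ⟶ B') :
    tens A B ⟶ tens A B' := ((ModSite.tensorBi O).obj A).map f

/-- `G ⊗ O ≅ G` -/
noncomputable abbrev rho (G : ModSite.Mod O) : tens G (ModSite.unit O) ⟶ G :=
  (SheafHomFree.flipUnitIso O).hom.app G

lemma rho_naturality {G G' : ModSite.Mod O} (f : G ⟶ G') :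
    tensL f (ModSite.unit O) ≫ rho G' = rho G ≫ f :=
  (SheafHomFree.flipUnitIso O).hom.naturality f

instance (G : ModSite.Mod O) : IsIso (rho G) := by
  dsimp only [rho]
  infer_instance

variable {A B : ModSite.Mod O} (p : tens A B ⟶ ModSite.unit O)

/-- `(G ⊗ A) ⊗ B ⟶ G ⊗ (A ⊗ B) ⟶ G ⊗ O ⟶ G` -/
noncomputable def kap (G : ModSite.Mod O) : tens (tens G A) B ⟶ G :=
  (tensorAssocApp O G A B).hom ≫ tensR G p ≫ rho G

lemma kap_naturality {G G' : ModSite.Mod O} (f : G ⟶ G') :
    tensL (tensL f A) B ≫ kap p G' = kap p G ≫ f := by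
  dsimp only [kap]
  have h1 := tensorAssocApp_naturality₁ f A B
  have h2 : tensL f (tens A B) ≫ tensR G' p = tensR G p ≫ tensL f (ModSite.unit O) :=
    (((ModSite.tensorBi O).map f).naturality p).symm
  have h3 := rho_naturality f
  rw [reassoc_of% h1, reassoc_of% h2, h3, Category.assoc, Category.assoc]

variable [ModSite.HasSheafHom B]

/-- the map `G ⊗ A ⟶ ℋom(B, G)` induced by a pairing `p : A ⊗ B ⟶ O` -/
noncomputable def pairMap (G : ModSite.Mod O) : tens G A ⟶ (ModSite.sheafHom B).obj G :=
  (ModSite.sheafHomAdj B).homEquiv (tens G A) G (kap p G)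

lemma homEquiv_symm_pairMap (G : ModSite.Mod O) :
    ((ModSite.sheafHomAdj B).homEquiv (tens G A) G).symm (pairMap p G) = kap p G :=
  Equiv.symm_apply_apply _ _

/-- `pairMap` as a natural transformation `- ⊗ A ⟶ ℋom(B, -)` -/
noncomputable def pairNat : (ModSite.tensorBi O).flip.obj A ⟶ ModSite.sheafHom B where
  app G := pairMap p G
  naturality G G' f := by
    change tensL f A ≫ pairMap p G' = pairMap p G ≫ (ModSite.sheafHom B).map f
    dsimp only [pairMap]
    rw [← Adjunction.homEquiv_naturality_right, ← Adjunction.homEquiv_naturality_left]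
    exact congrArg _ (kap_naturality p f)

@[simp] lemma pairNat_app (G : ModSite.Mod O) : (pairNat p).app G = pairMap p G := rfl

/-- the pairing map is an isomorphism when the pairing is and `- ⊗ B` is an equivalence -/
theorem isIso_pairMap [IsIso (ModSite.sheafHomAdj B).unit] [IsIso p] (G : ModSite.Mod O) :
    IsIso (pairMap p G) := by
  dsimp only [pairMap]
  rw [Adjunction.homEquiv_unit]
  have : IsIso (kap p G) := by
    dsimp only [kap, tensR]
    infer_instance
  infer_instance

/-- dinaturality of the pairing map -/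
theorem pairMap_dinat {A' B' : ModSite.Mod O} [ModSite.HasSheafHom B']
    (p' : tens A' B' ⟶ ModSite.unit O) (a : A' ⟶ A) (b : B ⟶ B')
    (h : tensL a B ≫ p = tensR A' b ≫ p') (G : ModSite.Mod O) :
    tensR G a ≫ pairMap p G = pairMap p' G ≫ (ExtSupp.sheafHomMap b).app G := by
  apply ((ModSite.sheafHomAdj B).homEquiv (tens G A') G).symm.injective
  rw [homEquiv_symm_comp_sheafHomMap, homEquiv_symm_pairMap,
    Adjunction.homEquiv_naturality_left_symm, homEquiv_symm_pairMap]
  change tensL (tensR G a) B ≫ kap p G = tensR (tens G A') b ≫ kap p' G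
  dsimp only [kap]
  have h1 := tensorAssocApp_naturality₂ G a B
  have h2 := tensorAssocApp_naturality₃ G A' b
  rw [reassoc_of% h1, reassoc_of% h2]
  congr 1
  dsimp only [tensR]
  rw [← Functor.map_comp_assoc, ← Functor.map_comp_assoc]
  exact congrArg (fun t => ((ModSite.tensorBi O).obj G).map t ≫ rho G) h

end Pairing

end Groth.Agent.H31.DualLF
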