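import Groth.Agent.H31.DualLF1

/-!
# The evaluation pairing `E^∨ ⊗ E ⟶ O` and the canonical maps
`τ : G ⊗ E^∨ ⟶ ℋom(E, G)` and `σ : G ⊗ E ⟶ ℋom(E^∨, G)` on a ringed site
-/

set_option autoImplicit false
set_option linter.unusedSectionVars false
open CategoryTheory Limits Opposite
universe u

namespace Groth.Agent.H31.DualLF

open Groth.Agent.H45 Groth.Agent.H31.ExtZero Groth.Agent.H31.SheafHomFirstVar

section Sum

universe v₁ v₂ u₁ u₂
variable {𝒞 : Type u₁} [Category.{v₁} 𝒞] [Preadditive 𝒞] {𝒟 : Type u₂} [Category.{v₂} 𝒟]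
  [Preadditive 𝒟]

/-- a natural transformation between additive functors is an isomorphism at `X` as soon as it is
one at each member of a finite family through which the identity of `X` decomposes -/
theorem isIso_app_of_sum {F G : 𝒞 ⥤ 𝒟} [F.Additive] [G.Additive] (τ : F ⟶ G) {ι : Type*}
    [Fintype ι] (X : 𝒞) (Xi : ι → 𝒞) (prj : ∀ i, X ⟶ Xi i) (inj : ∀ i, Xi i ⟶ X)
    (hsum : ∑ i, prj i ≫ inj i = 𝟙 X) (h : ∀ i, IsIso (τ.app (Xi i))) : IsIso (τ.app X) := by
  refine ⟨∑ i, G.map (prj i) ≫ inv (τ.app (Xi i)) ≫ F.map (inj i), ?_, ?_⟩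
  · rw [Preadditive.comp_sum]
    have : ∀ i, τ.app X ≫ G.map (prj i) ≫ inv (τ.app (Xi i)) ≫ F.map (inj i) =
        F.map (prj i ≫ inj i) := fun i => by
      rw [← τ.naturality_assoc, IsIso.hom_inv_id_assoc, F.map_comp]
    rw [Finset.sum_congr rfl (fun i _ => this i), ← Functor.map_sum, hsum, F.map_id]
  · rw [Preadditive.sum_comp]
    have : ∀ i, (G.map (prj i) ≫ inv (τ.app (Xi i)) ≫ F.map (inj i)) ≫ τ.app X =
        G.map (prj i ≫ inj i) := fun i => by
      rw [Category.assoc, Category.assoc, τ.naturality, IsIso.inv_hom_id_assoc, G.map_comp]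
    rw [Finset.sum_congr rfl (fun i _ => this i), ← Functor.map_sum, hsum, G.map_id]

end Sum

variable {C : Type u} [SmallCategory C] {J : GrothendieckTopology C} {O : Sheaf J CommRingCat.{u}}

/-- every module has an internal hom (helper45) -/
instance instHasSheafHom (F : ModSite.Mod O) : ModSite.HasSheafHom F := hasSheafHom O F

section Ev

/-- the dual `E^∨ = ℋom(E, O)` -/
noncomputable abbrev dual (E : ModSite.Mod O) : ModSite.Mod O :=
  (ModSite.sheafHom E).obj (ModSite.unit O)

/-- `φ^∨ : E'^∨ ⟶ E^∨` -/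
noncomputable abbrev dualMap {E E' : ModSite.Mod O} (φ : E ⟶ E') : dual E' ⟶ dual E :=
  (ExtSupp.sheafHomMap φ).app (ModSite.unit O)

/-- the evaluation pairing `E^∨ ⊗ E ⟶ O` -/
noncomputable def ev (E : ModSite.Mod O) : tens (dual E) E ⟶ ModSite.unit O :=
  (ModSite.sheafHomAdj E).counit.app (ModSite.unit O)

/-- extranaturality of the evaluation -/
lemma ev_dinat {E E' : ModSite.Mod O} (φ : E ⟶ E') :
    tensL (dualMap φ) E ≫ ev E = tensR (dual E') φ ≫ ev E' := by
  have h := homEquiv_symm_comp_sheafHomMap φ (N := ModSite.unit O) (𝟙 (dual E'))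
  rw [Category.id_comp, Adjunction.homEquiv_counit, Adjunction.homEquiv_counit,
    CategoryTheory.Functor.map_id, Category.id_comp] at h
  exact h

/-- the symmetry `A ⊗ B ⟶ B ⊗ A` -/
noncomputable abbrev swap (A B : ModSite.Mod O) : tens A B ⟶ tens B A :=
  ((tensorBiFlipIso O).hom.app A).app B

instance (A B : ModSite.Mod O) : IsIso (swap A B) := by
  dsimp only [swap]
  infer_instance

lemma swap_naturality_left {A A' : ModSite.Mod O} (f : A ⟶ A') (B : ModSite.Mod O) :
    tensL f B ≫ swap A' B = swap A B ≫ tensR B f :=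
  congrArg (fun t => NatTrans.app t B) ((tensorBiFlipIso O).hom.naturality f)

lemma swap_naturality_right (A : ModSite.Mod O) {B B' : ModSite.Mod O} (f : B ⟶ B') :
    tensR A f ≫ swap A B' = swap A B ≫ tensL f A :=
  ((tensorBiFlipIso O).hom.app A).naturality f

/-- the evaluation pairing `E ⊗ E^∨ ⟶ O` -/
noncomputable def evS (E : ModSite.Mod O) : tens E (dual E) ⟶ ModSite.unit O :=
  swap E (dual E) ≫ ev E

lemma evS_dinat {E E' : ModSite.Mod O} (φ : E ⟶ E') :
    tensL φ (dual E') ≫ evS E' = tensR E (dualMap φ) ≫ evS E := by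
  dsimp only [evS]
  rw [reassoc_of% (swap_naturality_left φ (dual E')), ← ev_dinat φ,
    reassoc_of% (swap_naturality_right E (dualMap φ))]

end Ev

section Op

lemma sheafHomMap_id (M : ModSite.Mod O) : ExtSupp.sheafHomMap (𝟙 M) = 𝟙 (ModSite.sheafHom M) := by
  dsimp only [ExtSupp.sheafHomMap]
  rw [CategoryTheory.Functor.map_id]
  exact conjugateEquiv_id _

lemma sheafHomMap_comp {M M' M'' : ModSite.Mod O} (g : M' ⟶ M) (g' : M'' ⟶ M') :
    ExtSupp.sheafHomMap (g' ≫ g) = ExtSupp.sheafHomMap g ≫ ExtSupp.sheafHomMap g' := by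
  dsimp only [ExtSupp.sheafHomMap]
  rw [CategoryTheory.Functor.map_comp]
  exact (conjugateEquiv_comp _ _ _ _ _).symm

lemma sheafHomMap_app_eq {M M' : ModSite.Mod O} (g : M' ⟶ M) (N : ModSite.Mod O) :
    (ExtSupp.sheafHomMap g).app N = (ModSite.sheafHomAdj M').homEquiv ((ModSite.sheafHom M).obj N) N
      (tensR ((ModSite.sheafHom M).obj N) g ≫ (ModSite.sheafHomAdj M).counit.app N) := by
  have h := homEquiv_symm_comp_sheafHomMap g (N := N) (𝟙 _)
  have h0 : ((ModSite.sheafHomAdj M).homEquiv ((ModSite.sheafHom M).obj N) N).symm (𝟙 _) =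
      (ModSite.sheafHomAdj M).counit.app N := by
    rw [Adjunction.homEquiv_counit, CategoryTheory.Functor.map_id, Category.id_comp]
  rw [Category.id_comp, h0] at h
  rw [← h]
  exact (Equiv.apply_symm_apply _ _).symm

lemma sheafHomMap_add {M M' : ModSite.Mod O} (g g' : M' ⟶ M) (N : ModSite.Mod O) :
    (ExtSupp.sheafHomMap (g + g')).app N =
      (ExtSupp.sheafHomMap g).app N + (ExtSupp.sheafHomMap g').app N := by
  rw [sheafHomMap_app_eq, sheafHomMap_app_eq, sheafHomMap_app_eq]
  dsimp only [tensR]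
  rw [Functor.map_add, Preadditive.add_comp, Adjunction.homEquiv_unit, Adjunction.homEquiv_unit,
    Adjunction.homEquiv_unit, Functor.map_add, Preadditive.comp_add]

/-- the internal hom as a functor of its first variable -/
noncomputable def sheafHomOp (N : ModSite.Mod O) : (ModSite.Mod O)ᵒᵖ ⥤ ModSite.Mod O where
  obj E := (ModSite.sheafHom E.unop).obj N
  map φ := (ExtSupp.sheafHomMap φ.unop).app N
  map_id E := by
    rw [unop_id, sheafHomMap_id]
    rfl
  map_comp φ ψ := by
    rw [unop_comp, sheafHomMap_comp]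
    rfl

instance (N : ModSite.Mod O) : (sheafHomOp N).Additive where
  map_add {E E' φ ψ} := by
    change (ExtSupp.sheafHomMap (φ + ψ).unop).app N = _
    rw [unop_add, sheafHomMap_add]
    rfl

/-- `E ↦ E^∨` as a covariant functor to the opposite category -/
noncomputable abbrev dualF : ModSite.Mod O ⥤ (ModSite.Mod O)ᵒᵖ := (sheafHomOp (ModSite.unit O)).rightOp

variable (G : ModSite.Mod O)

/-- `τ : G ⊗ E^∨ ⟶ ℋom(E, G)`, natural in `E` -/
noncomputable def tauNat : sheafHomOp (ModSite.unit O) ⋙ (ModSite.tensorBi O).obj G ⟶ sheafHomOp G where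
  app E := pairMap (ev E.unop) G
  naturality E E' φ :=
    pairMap_dinat (ev E'.unop) (ev E.unop) (dualMap φ.unop) φ.unop (ev_dinat φ.unop) G

/-- `σ : G ⊗ E ⟶ ℋom(E^∨, G)`, natural in `E` -/
noncomputable def sigmaNat : (ModSite.tensorBi O).obj G ⟶ dualF ⋙ sheafHomOp G where
  app E := pairMap (evS E) G
  naturality E E' φ :=
    pairMap_dinat (evS E') (evS E) φ (dualMap φ) (evS_dinat φ) G

end Op

section Base

instance : ((ModSite.tensorBi O).flip.obj (ModSite.unit O)).IsEquivalence :=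
  Functor.isEquivalence_of_iso (SheafHomFree.flipUnitIso O).symm

instance : IsIso (ev (ModSite.unit O)) := by
  dsimp only [ev]
  infer_instance

instance : IsIso (evS (ModSite.unit O)) := by
  dsimp only [evS]
  infer_instance

/-- `O^∨ ≅ O` -/
noncomputable def dualUnitIso : dual (ModSite.unit O) ≅ ModSite.unit O :=
  (asIso (rho (dual (ModSite.unit O)))).symm ≪≫ asIso (ev (ModSite.unit O))

instance : ((ModSite.tensorBi O).flip.obj (dual (ModSite.unit O))).IsEquivalence :=
  Functor.isEquivalence_of_iso ((ModSite.tensorBi O).flip.mapIso (dualUnitIso (O := O))).symm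

theorem isIso_tau_unit (G : ModSite.Mod O) : IsIso ((tauNat G).app (op (ModSite.unit O))) :=
  isIso_pairMap (ev (ModSite.unit O)) G

theorem isIso_sigma_unit (G : ModSite.Mod O) : IsIso ((sigmaNat G).app (ModSite.unit O)) :=
  isIso_pairMap (evS (ModSite.unit O)) G

/-- `τ` is an isomorphism at a finite sum of copies of `O` -/
theorem isIso_tau_of_sum (G : ModSite.Mod O) {ι : Type*} [Fintype ι] (F : ModSite.Mod O)
    (prj : ι → (F ⟶ ModSite.unit O)) (inj : ι → (ModSite.unit O ⟶ F))
    (hsum : ∑ i, prj i ≫ inj i = 𝟙 F) : IsIso ((tauNat G).app (op F)) := by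
  refine isIso_app_of_sum (tauNat G) (ι := ι) (op F) (fun _ => op (ModSite.unit O))
    (fun i => (inj i).op) (fun i => (prj i).op) ?_ (fun _ => isIso_tau_unit G)
  have h := congrArg Quiver.Hom.op hsum
  rw [op_sum] at h
  exact h

/-- `σ` is an isomorphism at a finite sum of copies of `O` -/
theorem isIso_sigma_of_sum (G : ModSite.Mod O) {ι : Type*} [Fintype ι] (F : ModSite.Mod O)
    (prj : ι → (F ⟶ ModSite.unit O)) (inj : ι → (ModSite.unit O ⟶ F))
    (hsum : ∑ i, prj i ≫ inj i = 𝟙 F) : IsIso ((sigmaNat G).app F) :=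
  isIso_app_of_sum (sigmaNat G) (ι := ι) F (fun _ => ModSite.unit O) prj inj hsum
    (fun _ => isIso_sigma_unit G)

end Base

end Groth.Agent.H31.DualLF
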