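import Groth.Agent.H31.DualLF5
import Groth.Agent.H31.ModExt
import Groth.Agent.H4.ExtAdj

/-!
# `Ext^i(F ⊗ E, G) ≃ Ext^i(F, G ⊗ E^∨)` for `E` finite locally free
-/

set_option autoImplicit false
set_option linter.unusedSectionVars false
open CategoryTheory Limits Opposite AlgebraicGeometry
universe u

namespace Groth.Agent.H31.DualLF

variable {X : Scheme.{u}} (E : ModSite.Mod X.sheaf) (hE : FlatMod.IsFinLocFree (X := X) E)

/-- the adjunction `- ⊗ E ⊣ - ⊗ E^∨` -/
noncomputable def tensorAdj :
    (ModSite.tensorBi X.sheaf).flip.obj E ⊣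
      (ModSite.tensorBi X.sheaf).flip.obj (dual (O := X.sheaf) E) :=
  (ModSite.sheafHomAdj (O := X.sheaf) E).ofNatIsoRight (tensorDualIso E hE).symm

include hE in
lemma preservesMonomorphisms_tensor :
    ((ModSite.tensorBi X.sheaf).flip.obj E).PreservesMonomorphisms := by
  have : (ModSite.sheafHom (O := X.sheaf) (dual (O := X.sheaf) E)).PreservesMonomorphisms :=
    inferInstance
  exact Functor.PreservesMonomorphisms.of_iso (tensorIsoSheafHomDual E hE).symm

include hE in
theorem nonempty_ext_addEquiv [HasExt.{u} (ModSite.Mod X.sheaf)] (F G : ModSite.Mod X.sheaf)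
    (i : ℕ) :
    Nonempty (Abelian.Ext.{u} (tens F E) G i ≃+
      Abelian.Ext.{u} F (tens G (dual (O := X.sheaf) E)) i) := by
  have h1 := preservesFiniteLimits_tensor_dual E hE
  have h2 := preservesFiniteColimits_tensor_flip (dual (O := X.sheaf) E)
  have h3 : ((ModSite.tensorBi X.sheaf).flip.obj (dual (O := X.sheaf) E)).Additive :=
    Functor.additive_of_preserves_binary_products _
  have h4 := preservesMonomorphisms_tensor E hE
  have h5 : ((ModSite.tensorBi X.sheaf).flip.obj (dual (O := X.sheaf) E)).PreservesInjectiveObjects :=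
    Functor.preservesInjectiveObjects_of_adjunction_of_preservesMonomorphisms (tensorAdj E hE)
  have h6 : EnoughInjectives (ModSite.Mod X.sheaf) := ModExt.enoughInjectives X.ringCatSheaf
  exact ⟨Groth.Agent.H4.ExtAdj.phiEquiv (tensorAdj E hE) F G i⟩

end Groth.Agent.H31.DualLF
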