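import Groth.Agent.H31.ProjLoc2
import Groth.Agent.H31.AcycComp
import Groth.Agent.H31.PostDerived
import Groth.Agent.H30.RpushQC.Main
import Groth.Agent.H5.KFlatScheme
import Groth.Agent.H5.PerfectPull
import Groth.Agent.H5.LocFreeLocus
import Groth.Agent.H45.Scheme.Flat
import Groth.Agent.H18.TwistTensor2

/-!
# The projection formula for higher direct images and finite locally free modules
-/

set_option autoImplicit false
universe u
open CategoryTheory CategoryTheory.Limits AlgebraicGeometry TopologicalSpace Opposite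
  Scheme.Modules Groth.Agent.H5.ProjFormula Groth.Agent.H30

namespace Groth.Agent.H31.ProjLoc

variable {X Y : Scheme.{u}}

section Exact

/-- tensoring with a flat module is left exact -/
lemma preservesFiniteLimits_tensorRightMod (E : Y.Modules) (hE : FlatMod.IsFlat E) :
    PreservesFiniteLimits (DCoh.tensorRightMod E) := by
  have h := (Groth.Agent.H45.isFlat_of_flatMod E hE).1
  exact @preservesFiniteLimits_of_natIso _ _ _ _ _ _
    (Groth.Agent.H5.KFlatScheme.tensorRightModIso E).symm h

/-- tensoring with a module is right exact -/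
lemma preservesFiniteColimits_tensorRightMod (E : Y.Modules) (hE : FlatMod.IsFlat E) :
    PreservesFiniteColimits (DCoh.tensorRightMod E) := by
  have h := (Groth.Agent.H45.isFlat_of_flatMod E hE).2
  exact @preservesFiniteColimits_of_natIso _ _ _ _ _ _
    (Groth.Agent.H5.KFlatScheme.tensorRightModIso E).symm h

end Exact

variable (f : X ⟶ Y)

/-- the projection formula isomorphism `f_*M ⊗ E ≅ f_*(M ⊗ f^*E)` for finite locally free `E` -/
noncomputable def projIsoApp (E : Y.Modules) (hE : FlatMod.IsFinLocFree E) (M : X.Modules) :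
    (pushforward f ⋙ DCoh.tensorRightMod E).obj M ≅
      (DCoh.tensorRightMod ((Scheme.Modules.pullback f).obj E) ⋙ pushforward f).obj M :=
  (@asIso _ _ (S f M E) _ (π f M E) (isIso_π_of_isFinLocFree f M E hE) :
    S f M E ≅ (pushforward f).obj (T f M E))

lemma projIsoApp_hom (E : Y.Modules) (hE : FlatMod.IsFinLocFree E) (M : X.Modules) :
    (projIsoApp f E hE M).hom = π f M E := rfl

/-- the projection formula isomorphism `f_*(-) ⊗ E ≅ f_*(- ⊗ f^*E)` for finite locally free `E`,
as a natural isomorphism in the first variable -/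
noncomputable def projNatIso (E : Y.Modules) (hE : FlatMod.IsFinLocFree E) :
    pushforward f ⋙ DCoh.tensorRightMod E ≅
      DCoh.tensorRightMod ((Scheme.Modules.pullback f).obj E) ⋙ pushforward f :=
  NatIso.ofComponents (fun M => projIsoApp f E hE M) (by
    intro M M' g
    have h1 := π_naturality f g (𝟙 E)
    rw [CategoryTheory.Functor.map_id, ← KoszTw.tensorRightMod_map,
      ← KoszTw.tensorRightMod_map] at h1
    exact h1)

section Acyclic

variable (E : Y.Modules) (I : X.Modules) [Injective I] (V : Y.Opens) (n : ℕ)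
  (e : E.restrict V.ι ≅ FlatMod.freeMod (V : Scheme.{u}) n)

/-- `(I ⊗ f^*E)|_{f⁻¹V} ≅ (I|_{f⁻¹V})^n` if `E|_V` is free of rank `n` -/
noncomputable def restrictTensorPullbackIso :
    (restrictFunctor (f ⁻¹ᵁ V).ι).obj ((DCoh.tensorRightMod ((Scheme.Modules.pullback f).obj E)).obj I) ≅
      ∐ fun _ : Fin n => (restrictFunctor (f ⁻¹ᵁ V).ι).obj I :=
  Groth.Agent.H5.FinLocFreeOps.restrictTensorIso (f ⁻¹ᵁ V).ι I ((Scheme.Modules.pullback f).obj E) ≪≫
    Groth.Agent.H5.FinLocFreeOps.tensorIso (Iso.refl _)
      ((bcIso f V).app E ≪≫ (Scheme.Modules.pullback (f ∣_ V)).mapIso e ≪≫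
        Groth.Agent.H5.PullbackUnit.pullbackFreeIso (f ∣_ V) n) ≪≫
    Groth.Agent.H5.FinLocFreeOps.tensorFreeIso _ n

lemma injective_sigma_fin {C : Type*} [Category C] [Preadditive C] [HasFiniteBiproducts C]
    (n : ℕ) (A : C) [Injective A] : Injective (∐ fun _ : Fin n => A) := by
  have : Injective (⨁ fun _ : Fin n => A) := inferInstance
  exact Injective.of_iso
    ((biproduct.isColimit (fun _ : Fin n => A)).coconePointUniqueUpToIso (colimit.isColimit _))
    this

include e in
lemma isZero_restrict_rpush_tensor [HasInjectiveResolutions X.Modules] (q : ℕ) (hq : 0 < q) :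
    IsZero ((restrictFunctor V.ι).obj ((Coh.Rpush f q).obj
      ((DCoh.tensorRightMod ((Scheme.Modules.pullback f).obj E)).obj I))) := by
  have e1 := (Groth.Agent.H30.RpushQC.rpushRestrictIso f V q).app
    ((DCoh.tensorRightMod ((Scheme.Modules.pullback f).obj E)).obj I)
  refine IsZero.of_iso ?_ e1
  dsimp only [Functor.comp_obj]
  have := Groth.Agent.H30.RpushQC.injective_restrict (f ⁻¹ᵁ V) I
  have : HasFiniteBiproducts (↑(f ⁻¹ᵁ V) : Scheme.{u}).Modules := Abelian.hasFiniteBiproducts
  have hinj : Injective (∐ fun _ : Fin n => (restrictFunctor (f ⁻¹ᵁ V).ι).obj I) :=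
    injective_sigma_fin n _
  have h2 := Leray.acyclic_of_injective (pushforward (f ∣_ V))
    (∐ fun _ : Fin n => (restrictFunctor (f ⁻¹ᵁ V).ι).obj I) q hq
  exact IsZero.of_iso h2 ((Coh.Rpush (f ∣_ V) q).mapIso (restrictTensorPullbackIso f E I V n e))

end Acyclic

/-- `I ⊗ f^*E` is `f_*`-acyclic for `I` injective and `E` finite locally free -/
lemma acyclic_tensor_pullback [HasInjectiveResolutions X.Modules] (E : Y.Modules)
    (hE : FlatMod.IsFinLocFree E) (I : X.Modules) (hI : Injective I) :
    Leray.acyclic (pushforward f) ((DCoh.tensorRightMod ((Scheme.Modules.pullback f).obj E)).obj I) := by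
  intro q hq
  refine Groth.Agent.H5.LocFreeLocus.isZero_of_locally _ (fun y => ?_)
  obtain ⟨V, n, hyV, ⟨e⟩⟩ := hE y
  exact ⟨V, hyV, isZero_restrict_rpush_tensor f E I V n e q hq⟩

/-- **Projection formula**: `R^q f_* F ⊗ E ≅ R^q f_* (F ⊗ f^* E)` for `E` finite locally free,
naturally in `F`. -/
noncomputable def rpushProjIso [HasInjectiveResolutions X.Modules] (E : Y.Modules)
    (hE : FlatMod.IsFinLocFree E) (q : ℕ) :
    Coh.Rpush f q ⋙ DCoh.tensorRightMod E ≅
      DCoh.tensorRightMod ((Scheme.Modules.pullback f).obj E) ⋙ Coh.Rpush f q :=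
  haveI := preservesFiniteLimits_tensorRightMod E
    (Groth.Agent.H5.PerfectPull.flatMod_of_isFinLocFree E hE)
  haveI := preservesFiniteColimits_tensorRightMod E
    (Groth.Agent.H5.PerfectPull.flatMod_of_isFinLocFree E hE)
  haveI := preservesFiniteLimits_tensorRightMod ((Scheme.Modules.pullback f).obj E)
    (Groth.Agent.H5.PerfectPull.flatMod_of_isFinLocFree _
      (Groth.Agent.H5.PerfectPull.isFinLocFree_pullback f E hE))
  haveI := preservesFiniteColimits_tensorRightMod ((Scheme.Modules.pullback f).obj E)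
    (Groth.Agent.H5.PerfectPull.flatMod_of_isFinLocFree _
      (Groth.Agent.H5.PerfectPull.isFinLocFree_pullback f E hE))
  (PostDerived.rightDerivedPostIso (pushforward f) (DCoh.tensorRightMod E) q).symm ≪≫
    GrothSSExt.rightDerivedIsoOfIso (projNatIso f E hE) q ≪≫
    AcycComp.rightDerivedCompIso (DCoh.tensorRightMod ((Scheme.Modules.pullback f).obj E)) (pushforward f)
      (fun I hI => acyclic_tensor_pullback f E hE I hI) q

theorem projection_formula [HasInjectiveResolutions X.Modules]
    (F : X.Modules) (E : Y.Modules) (hE : FlatMod.IsFinLocFree E) (q : ℕ) :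
    Nonempty (CohB1.tensorMod E ((Coh.Rpush f q).obj F) ≅
      (Coh.Rpush f q).obj (CohB1.tensorMod ((Scheme.Modules.pullback f).obj E) F)) :=
  ⟨Groth.Agent.H18.tensorModComm _ _ ≪≫ (rpushProjIso f E hE q).app F ≪≫
    (Coh.Rpush f q).mapIso (Groth.Agent.H18.tensorModComm _ _)⟩

end Groth.Agent.H31.ProjLoc
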