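import Groth.Agent.H31.DualLF6
import Groth.Agent.H31.AcycComp
import Groth.Agent.H31.ProjLoc3

/-!
# Relative Ext sheaves and tensor products with finite locally free modules
-/

set_option autoImplicit false
set_option linter.unusedSectionVars false
open CategoryTheory Limits Opposite AlgebraicGeometry
universe u

namespace Groth.Agent.H31.DualLF

open Groth.Agent.H45 Groth.Agent.H31.ProjLoc Groth.Agent.H30

section Site

variable {C : Type u} [SmallCategory C] {J : GrothendieckTopology C} {O : Sheaf J CommRingCat.{u}}

/-- `(- ⊗ A) ⊗ B ≅ (- ⊗ B) ⊗ A` -/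
noncomputable def flipFlipCommIso (A B : ModSite.Mod O) :
    (ModSite.tensorBi O).flip.obj A ⋙ (ModSite.tensorBi O).flip.obj B ≅
      (ModSite.tensorBi O).flip.obj B ⋙ (ModSite.tensorBi O).flip.obj A :=
  (tensorBiFlipObjTensorIso O A B).symm ≪≫
    (ModSite.tensorBi O).flip.mapIso (((tensorBiFlipIso O).app A).app B) ≪≫
    tensorBiFlipObjTensorIso O B A

end Site

section Scheme

variable {X : Scheme.{u}} (M : ModSite.Mod X.sheaf) (hM : FlatMod.IsFinLocFree (X := X) M)

/-- `ℋom(F, -) ⊗ M ≅ ℋom(F, - ⊗ M)` for `M` finite locally free -/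
noncomputable def tensorSheafHomCommIso (F : ModSite.Mod X.sheaf) :
    (ModSite.tensorBi X.sheaf).flip.obj M ⋙ ModSite.sheafHom (O := X.sheaf) F ≅
      ModSite.sheafHom (O := X.sheaf) F ⋙ (ModSite.tensorBi X.sheaf).flip.obj M :=
  Functor.isoWhiskerRight (tensorIsoSheafHomDual M hM) (ModSite.sheafHom (O := X.sheaf) F) ≪≫
    (sheafHomTensorIso (O := X.sheaf) F (dual (O := X.sheaf) M)).symm ≪≫
    sheafHomTensorIso' (O := X.sheaf) F (dual (O := X.sheaf) M) ≪≫
    Functor.isoWhiskerLeft (ModSite.sheafHom (O := X.sheaf) F) (tensorIsoSheafHomDual M hM).symm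

include hM in
lemma preservesFiniteLimits_tensor :
    PreservesFiniteLimits ((ModSite.tensorBi X.sheaf).flip.obj M) := by
  have : PreservesFiniteLimits (ModSite.sheafHom (O := X.sheaf) (dual (O := X.sheaf) M)) := by
    have : PreservesLimitsOfSize.{0, 0} (ModSite.sheafHom (O := X.sheaf) (dual (O := X.sheaf) M)) :=
      (ModSite.sheafHomAdj (O := X.sheaf) (dual (O := X.sheaf) M)).rightAdjoint_preservesLimits
    exact PreservesLimitsOfSize.preservesFiniteLimits _
  exact preservesFiniteLimits_of_natIso (tensorIsoSheafHomDual M hM).symm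

include hM in
/-- `I ⊗ M` is injective for `I` injective and `M` finite locally free -/
theorem injective_tensor_right (I : ModSite.Mod X.sheaf) (hI : Injective I) :
    Injective (((ModSite.tensorBi X.sheaf).flip.obj M).obj I) := by
  have h := injective_tensor M hM I
  exact Injective.of_iso (asIso (swap (O := X.sheaf) M I)) h

include hM in
/-- `I ⊗ M^∨` is injective for `I` injective and `M` finite locally free -/
theorem injective_tensor_dual (I : ModSite.Mod X.sheaf) (hI : Injective I) :
    Injective (((ModSite.tensorBi X.sheaf).flip.obj (dual (O := X.sheaf) M)).obj I) := by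
  have := preservesMonomorphisms_tensor M hM
  have h1 : Injective ((ModSite.sheafHom (O := X.sheaf) M).obj I) :=
    Injective.injective_of_adjoint (ModSite.sheafHomAdj (O := X.sheaf) M) I
  exact Injective.of_iso ((tensorDualIso M hM).app I).symm h1

end Scheme

end Groth.Agent.H31.DualLF
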