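import Groth.Agent.H31.DualLF7

/-!
# Relative Ext sheaves: `ℰxt^p_f(F ⊗ L, G ⊗ f^*N) ≅ ℰxt^p_f(F, G ⊗ L^∨) ⊗ N`
-/

set_option autoImplicit false
set_option linter.unusedSectionVars false
open CategoryTheory Limits Opposite AlgebraicGeometry
universe u

namespace Groth.Agent.H31.DualLF

open Groth.Agent.H45 Groth.Agent.H31.ProjLoc Groth.Agent.H30

variable {X Y : Scheme.{u}} (f : X ⟶ Y)

/-- the projection formula in terms of `ModSite.tensorBi` -/
noncomputable def projNatIso' (N : Y.Modules) (hN : FlatMod.IsFinLocFree N) :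
    Scheme.Modules.pushforward f ⋙ (ModSite.tensorBi Y.sheaf).flip.obj N ≅
      (ModSite.tensorBi X.sheaf).flip.obj ((Scheme.Modules.pullback f).obj N) ⋙
        Scheme.Modules.pushforward f :=
  Functor.isoWhiskerLeft _ (Groth.Agent.H5.KFlatScheme.tensorRightModIso N).symm ≪≫
    projNatIso f N hN ≪≫
    Functor.isoWhiskerRight
      (Groth.Agent.H5.KFlatScheme.tensorRightModIso ((Scheme.Modules.pullback f).obj N)) _

variable [HasInjectiveResolutions (ModSite.Mod X.sheaf)]

theorem nonempty_relExt_iso (F G L : X.Modules) (N : Y.Modules)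
    (hL : FlatMod.IsFinLocFree L) (hN : FlatMod.IsFinLocFree N) (p : ℕ)
    [(ModSite.sheafHom (O := X.sheaf) F ⋙ Scheme.Modules.pushforward f).Additive]
    [(ModSite.sheafHom (O := X.sheaf) (CohB1.tensorMod F L) ⋙ Scheme.Modules.pushforward f).Additive] :
    Nonempty (((ModSite.sheafHom (O := X.sheaf) (CohB1.tensorMod F L) ⋙
        Scheme.Modules.pushforward f).rightDerived p).obj
        (CohB1.tensorMod G ((Scheme.Modules.pullback f).obj N)) ≅
      CohB1.tensorMod (((ModSite.sheafHom (O := X.sheaf) F ⋙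
        Scheme.Modules.pushforward f).rightDerived p).obj
        (CohB1.tensorMod G ((ModSite.sheafHom (O := X.sheaf) L).obj (Coh.structureModule X)))) N) := by
  let M : X.Modules := (Scheme.Modules.pullback f).obj N
  have hM : FlatMod.IsFinLocFree M := Groth.Agent.H5.PerfectPull.isFinLocFree_pullback f N hN
  let Ψ := ModSite.sheafHom (O := X.sheaf) F ⋙ Scheme.Modules.pushforward f
  let Φ := ModSite.sheafHom (O := X.sheaf) (CohB1.tensorMod F L) ⋙ Scheme.Modules.pushforward f
  let TL := (ModSite.tensorBi X.sheaf).flip.obj (dual (O := X.sheaf) L)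
  let TM := (ModSite.tensorBi X.sheaf).flip.obj M
  let TN : Y.Modules ⥤ Y.Modules := (ModSite.tensorBi Y.sheaf).flip.obj N
  -- instances
  have hTL1 : PreservesFiniteLimits TL := preservesFiniteLimits_tensor_dual L hL
  have hTL2 : PreservesFiniteColimits TL := preservesFiniteColimits_tensor_flip _
  have hTL3 : TL.Additive := Functor.additive_of_preserves_binary_products _
  have hTM1 : PreservesFiniteLimits TM := preservesFiniteLimits_tensor M hM
  have hTM2 : PreservesFiniteColimits TM := preservesFiniteColimits_tensor_flip _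
  have hTM3 : TM.Additive := Functor.additive_of_preserves_binary_products _
  have hTN1 : PreservesFiniteLimits TN := preservesFiniteLimits_tensor N hN
  have hTN2 : PreservesFiniteColimits TN := preservesFiniteColimits_tensor_flip _
  have hTN3 : TN.Additive := Functor.additive_of_preserves_binary_products _
  have hΨ : PreservesFiniteLimits Ψ := by
    have h1 : PreservesLimitsOfSize.{0, 0} (ModSite.sheafHom (O := X.sheaf) F) :=
      (ModSite.sheafHomAdj (O := X.sheaf) F).rightAdjoint_preservesLimits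
    have h2 : PreservesLimitsOfSize.{0, 0} (Scheme.Modules.pushforward f) :=
      (Scheme.Modules.pullbackPushforwardAdjunction f).rightAdjoint_preservesLimits
    have h1' : PreservesFiniteLimits (ModSite.sheafHom (O := X.sheaf) F) :=
      PreservesLimitsOfSize.preservesFiniteLimits _
    have h2' : PreservesFiniteLimits (Scheme.Modules.pushforward f) :=
      PreservesLimitsOfSize.preservesFiniteLimits _
    exact @comp_preservesFiniteLimits _ _ _ _ _ _ (ModSite.sheafHom (O := X.sheaf) F)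
      (Scheme.Modules.pushforward f) h1' h2'
  have hEI : EnoughInjectives (ModSite.Mod X.sheaf) := ModExt.enoughInjectives X.ringCatSheaf
  -- `Φ ≅ TL ⋙ Ψ`
  let i1 : Φ ≅ TL ⋙ Ψ :=
    Functor.isoWhiskerRight (sheafHomTensorIso (O := X.sheaf) F L ≪≫
      Functor.isoWhiskerRight (tensorDualIso L hL).symm (ModSite.sheafHom (O := X.sheaf) F))
      (Scheme.Modules.pushforward f) ≪≫ Functor.associator _ _ _
  have hTLinj : ∀ Q : ModSite.Mod X.sheaf, Injective Q → Leray.acyclic Ψ (TL.obj Q) :=
    fun Q hQ => by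
      have : Injective (TL.obj Q) := injective_tensor_dual L hL Q hQ
      exact Leray.acyclic_of_injective Ψ (TL.obj Q)
  have hTMinj : ∀ Q : ModSite.Mod X.sheaf, Injective Q → Leray.acyclic Ψ (TM.obj Q) :=
    fun Q hQ => by
      have : Injective (TM.obj Q) := injective_tensor_right M hM Q hQ
      exact Leray.acyclic_of_injective Ψ (TM.obj Q)
  have hTLadd : (TL ⋙ Ψ).Additive := inferInstance
  let d1 : Φ.rightDerived p ≅ (TL ⋙ Ψ).rightDerived p := GrothSSExt.rightDerivedIsoOfIso i1 p
  let d2 : (TL ⋙ Ψ).rightDerived p ≅ TL ⋙ Ψ.rightDerived p :=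
    AcycComp.rightDerivedCompIso TL Ψ hTLinj p
  -- `TM ⋙ Ψ ≅ Ψ ⋙ TN`
  let i2 : TM ⋙ Ψ ≅ Ψ ⋙ TN :=
    (Functor.associator _ _ _).symm ≪≫
    Functor.isoWhiskerRight (tensorSheafHomCommIso M hM F) (Scheme.Modules.pushforward f) ≪≫
    Functor.associator _ _ _ ≪≫
    Functor.isoWhiskerLeft (ModSite.sheafHom (O := X.sheaf) F) (projNatIso' f N hN).symm ≪≫
    (Functor.associator _ _ _).symm
  have hTMadd : (TM ⋙ Ψ).Additive := inferInstance
  have hTNadd : (Ψ ⋙ TN).Additive := inferInstance
  let d3 : TM ⋙ Ψ.rightDerived p ≅ (TM ⋙ Ψ).rightDerived p :=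
    (AcycComp.rightDerivedCompIso TM Ψ hTMinj p).symm
  let d4 : (TM ⋙ Ψ).rightDerived p ≅ (Ψ ⋙ TN).rightDerived p :=
    GrothSSExt.rightDerivedIsoOfIso i2 p
  let d5 : (Ψ ⋙ TN).rightDerived p ≅ Ψ.rightDerived p ⋙ TN :=
    PostDerived.rightDerivedPostIso Ψ TN p
  let a1 := (d1 ≪≫ d2).app (CohB1.tensorMod G M)
  let a2 := (Ψ.rightDerived p).mapIso ((flipFlipCommIso (O := X.sheaf) M (dual (O := X.sheaf) L)).app G)
  let a3 := (d3 ≪≫ d4 ≪≫ d5).app (CohB1.tensorMod G (dual (O := X.sheaf) L))
  exact ⟨a1 ≪≫ a2 ≪≫ a3⟩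

end Groth.Agent.H31.DualLF
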