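import Mathlib.Algebra.Homology.DerivedCategory.Ext.MapBijective
import Mathlib.Algebra.Homology.DerivedCategory.Ext.Linear
import Mathlib.Algebra.Homology.DerivedCategory.Ext.EnoughInjectives

/-!
# A canonical comparison map between `Ext` groups along an exact functor

For an exact functor `E : 𝒜 ⥤ ℬ`, objects `X : 𝒜`, `Y : ℬ` and `c : Y ⟶ E.obj X`, the map
`Ψ : Ext X M n → Ext Y (E.obj M) n`, `x ↦ c ≫ E(x)`, is natural in `M`; it is bijective for all
`n` and `M` as soon as it is in degree `0` and `Ext^{n+1}(Y, E(I)) = 0` for `I` injective.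
-/

set_option autoImplicit false
universe w w' v v' u u'
open CategoryTheory Abelian Limits

namespace Groth.Agent.H31.ExtCanon

variable {𝒜 : Type u} [Category.{v} 𝒜] [Abelian 𝒜] [HasExt.{w} 𝒜]
  {ℬ : Type u'} [Category.{v'} ℬ] [Abelian ℬ] [HasExt.{w'} ℬ]
  (E : 𝒜 ⥤ ℬ) [E.Additive] [PreservesFiniteLimits E] [PreservesFiniteColimits E]
  {X : 𝒜} {Y : ℬ} (c : Y ⟶ E.obj X)

/-- the canonical comparison map `Ext X M n → Ext Y (E.obj M) n` -/
noncomputable def Ψ (M : 𝒜) (n : ℕ) : Ext X M n →+ Ext Y (E.obj M) n :=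
  ((Ext.mk₀ c).precomp (E.obj M) (zero_add n)).comp (E.mapExtAddHom X M n)

lemma Ψ_apply (M : 𝒜) (n : ℕ) (x : Ext X M n) :
    Ψ E c M n x = (Ext.mk₀ c).comp (x.mapExactFunctor E) (zero_add n) := rfl

lemma Ψ_comp {M M' : 𝒜} {a b d : ℕ} (x : Ext X M a) (β : Ext M M' b) (h : a + b = d) :
    Ψ E c M' d (x.comp β h) = (Ψ E c M a x).comp (β.mapExactFunctor E) h := by
  rw [Ψ_apply, Ψ_apply, Ext.mapExactFunctor_comp, Ext.comp_assoc _ _ _ (zero_add a) h
    (by omega)]

lemma Ψ_comp_mk₀ {M M' : 𝒜} {n : ℕ} (x : Ext X M n) (g : M ⟶ M') :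
    Ψ E c M' n (x.comp (Ext.mk₀ g) (add_zero n)) =
      (Ψ E c M n x).comp (Ext.mk₀ (E.map g)) (add_zero n) := by
  rw [Ψ_comp, Ext.mapExactFunctor_mk₀]

lemma Ψ_mk₀ {M : 𝒜} (f : X ⟶ M) : Ψ E c M 0 (Ext.mk₀ f) = Ext.mk₀ (c ≫ E.map f) := by
  rw [Ψ_apply, Ext.mapExactFunctor_mk₀, Ext.mk₀_comp_mk₀]

variable (h0 : ∀ M : 𝒜, Function.Bijective (fun x : X ⟶ M => c ≫ E.map x))
  (hI : ∀ I : 𝒜, Injective I → ∀ n : ℕ, Subsingleton (Ext Y (E.obj I) (n + 1)))

include h0 in
lemma Ψ_bijective_zero (M : 𝒜) : Function.Bijective (Ψ E c M 0) := by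
  constructor
  · intro x y hxy
    obtain ⟨f, rfl⟩ := (Ext.mk₀_bijective X M).2 x
    obtain ⟨g, rfl⟩ := (Ext.mk₀_bijective X M).2 y
    rw [Ψ_mk₀, Ψ_mk₀] at hxy
    rw [(h0 M).1 ((Ext.mk₀_bijective _ _).1 hxy)]
  · intro y
    obtain ⟨g, rfl⟩ := (Ext.mk₀_bijective Y (E.obj M)).2 y
    obtain ⟨f, hf⟩ := (h0 M).2 g
    exact ⟨Ext.mk₀ f, by rw [Ψ_mk₀]; exact congrArg _ hf⟩

attribute [local instance] Ext.subsingleton_of_injective in
include h0 hI in
/-- **the canonical comparison map is bijective** -/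
theorem Ψ_bijective [EnoughInjectives 𝒜] (n : ℕ) : ∀ M : 𝒜, Function.Bijective (Ψ E c M n) := by
  induction n with
  | zero => exact Ψ_bijective_zero E c h0
  | succ n hn =>
    intro M
    let I : InjectivePresentation M := Classical.arbitrary _
    let S := ShortComplex.mk _ _ (cokernel.condition I.f)
    have : Injective S.X₂ := I.injective
    have hS : S.ShortExact := { exact := ShortComplex.exact_cokernel I.f }
    have : Subsingleton (Ext Y (S.map E).X₂ (n + 1)) := hI _ I.injective n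
    refine AddMonoidHom.bijective_of_surjective_of_bijective_of_right_exact _ _ _ _
      (Ψ E c S.X₂ n) (Ψ E c S.X₃ n) (Ψ E c S.X₁ (n + 1)) ?_ ?_
      ((ShortComplex.ab_exact_iff_function_exact _).mp
        (Ext.covariant_sequence_exact₃' X hS n (n + 1) rfl))
      ((ShortComplex.ab_exact_iff_function_exact _).mp
        (Ext.covariant_sequence_exact₃' Y (hS.map_of_exact E) n (n + 1) rfl))
      (hn _).surjective (hn _)
      (fun x₁ ↦ Ext.covariant_sequence_exact₁ _ hS x₁ (by subsingleton) rfl)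
      (fun y₁ ↦ Ext.covariant_sequence_exact₁ _ (hS.map_of_exact E) y₁ (by subsingleton) rfl)
    · ext x
      exact (Ψ_comp_mk₀ E c x S.g).symm
    · ext x
      change (Ψ E c S.X₃ n x).comp (hS.map_of_exact E).extClass rfl =
        Ψ E c S.X₁ (n + 1) (x.comp hS.extClass rfl)
      rw [Ψ_comp, Ext.mapExactFunctor_extClass]
      rfl

end Groth.Agent.H31.ExtCanon
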