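import Groth.Agent.H31.ExtCanonSite
import Groth.Agent.H31.SheafHomFlasque
import Groth.Agent.H31.SheafHomSchLocFree
import Groth.Prelude.Def_KLin
import Groth.Prelude.Def_Canon

/-!
# `Ext^n(F, G) ≃ₗ[A] H^n(X, ℋom(F, G))` for `F` finite locally free on a scheme over `Spec A`

Also: `Ext^n(O_X, G) ≃ₗ[A] H^n(X, G)` and, for `L ⊗ I ≅ O_X`, `Ext^n(I, G) ≃ₗ[A] H^n(X, G ⊗ L)`.
-/

set_option autoImplicit false
set_option linter.unusedSectionVars false
open CategoryTheory Limits Opposite Abelian AlgebraicGeometry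
universe u

namespace Groth.Agent.H31.ExtCanonSch

open Groth.Agent.H31.ExtCanonSite Groth.Agent.H31.ExtInvertible DerComp

variable {X : Scheme.{u}}

/-- a global function, as a global section of the structure sheaf of the ringed site -/
noncomputable def gs (r : Coh.Γtop X) : GSec X.sheaf :=
  ⟨fun U => Coh.resTop X (op U) r, fun U V g => Coh.resTop_comp (op U) (op V) g.op r⟩

lemma smulModΓ_eq (N : X.Modules) (r : Coh.Γtop X) :
    Formal.smulModΓ N r = smulEnd (gs r) N := by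
  ext U x
  rfl

lemma toSheaf_smulEnd (N : X.Modules) (r : Coh.Γtop X) :
    (SheafOfModules.toSheaf X.ringCatSheaf).map (smulEnd (gs r) N) = Coh.smulAb N r := by
  ext U x
  rfl

variable (A : Type u) [CommRing A] (X) [X.Over (Spec (CommRingCat.of A))]

/-- an isomorphism of modules induces a linear equivalence on cohomology -/
noncomputable def HHlinEquiv {F G : X.Modules} (e : F ≅ G) (r : ℕ) :
    Coh.HH X F r ≃ₗ[A] Coh.HH X G r :=
  let e' : Coh.toAb F ≅ Coh.toAb G := (SheafOfModules.toSheaf X.ringCatSheaf).mapIso e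
  LinearEquiv.ofLinearMap (Canon.HHlin A e.hom r) (Canon.HHlin A e.inv r)
    (by
      ext x
      change Sheaf.H.map e'.hom r (Sheaf.H.map e'.inv r x) = x
      rw [← Sheaf.H.map_comp_apply, e'.inv_hom_id, Sheaf.H.map_id_apply])
    (by
      ext x
      change Sheaf.H.map e'.inv r (Sheaf.H.map e'.hom r x) = x
      rw [← Sheaf.H.map_comp_apply, e'.hom_inv_id, Sheaf.H.map_id_apply])

variable [hE : HasExt.{u} X.Modules]

set_option maxHeartbeats 400000 in
lemma smul_eq (F G : X.Modules) (n : ℕ) (a : A) (x : Ext F G n) :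
    a • x = x.comp (Ext.mk₀ (smulEnd (gs (Coh.toGlobal (X ↘ Spec (CommRingCat.of A)) a)) G))
      (add_zero n) := by
  rw [Ext.smul_eq_comp_mk₀]
  congr 2

set_option maxHeartbeats 400000 in
/-- **`Ext^n(F, G) ≃ₗ[A] H^n(X, ℋom(F, G))` when `ℋom(F, -)` is exact** -/
theorem nonempty_ext_linearEquiv_HH' (F G : X.Modules) [ModSite.HasSheafHom (O := X.sheaf) F]
    (hex : PreservesFiniteColimits (ModSite.sheafHom (O := X.sheaf) F)) (n : ℕ) :
    Nonempty (Ext F G n ≃ₗ[A] Coh.HH X ((ModSite.sheafHom (O := X.sheaf) F).obj G) n) := by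
  have h1 := (exactE X.sheaf F hex).1
  have h2 := (exactE X.sheaf F hex).2.1
  have h3 := (exactE X.sheaf F hex).2.2
  have hE' : HasExt.{u} (ModSite.Mod X.sheaf) := hE
  let Θ : Ext F G n →+ Coh.HH X ((ModSite.sheafHom (O := X.sheaf) F).obj G) n :=
    ExtCanon.Ψ (E X.sheaf F) (c X.sheaf F) G n
  have hΘ : Function.Bijective Θ := bijective_Θ X.sheaf F hex n G
  refine ⟨LinearEquiv.ofBijective
    { toFun := Θ
      map_add' := Θ.map_add
      map_smul' := fun a x => ?_ } hΘ⟩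
  rw [smul_eq X A F G n a x]
  refine (Ψ_comp_smulEnd _ F G hex n x).trans ?_
  rw [toSheaf_smulEnd]
  rfl

/-- **(D4)** `Ext^n(F, G) ≃ₗ[A] H^n(X, ℋom(F, G))` for `F` finite locally free. -/
theorem nonempty_ext_linearEquiv_HH (F G : X.Modules) (hF : FlatMod.IsFinLocFree F)
    [DCoh.HasSheafHom F] (n : ℕ) :
    Nonempty (Ext F G n ≃ₗ[A] Coh.HH X ((DCoh.sheafHom F).obj G) n) := by
  have := SheafHomFlasque.hasSheafHom F
  have hM := SheafHomSchLocFree.preservesFiniteColimits_sheafHom F hF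
  obtain ⟨e⟩ := nonempty_ext_linearEquiv_HH' X A F G hM n
  exact ⟨e.trans (HHlinEquiv X A ((SheafHomFlasque.sheafHomIso F).symm.app G) n)⟩

/-- **(E1)** `Ext^n(O_X, G) ≃ₗ[A] H^n(X, G)`. -/
theorem nonempty_ext_unit_linearEquiv_HH (G : X.Modules) (n : ℕ) :
    Nonempty (Ext (Coh.structureModule X) G n ≃ₗ[A] Coh.HH X G n) := by
  have : ModSite.HasSheafHom (ModSite.unit X.sheaf) := Groth.Agent.H45.hasSheafHom _ _
  have hM : PreservesFiniteColimits (ModSite.sheafHom (ModSite.unit X.sheaf)) :=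
    preservesFiniteColimits_of_natIso (sheafHomUnitIso (O := X.sheaf))
  obtain ⟨e⟩ := nonempty_ext_linearEquiv_HH' X A (ModSite.unit X.sheaf) G hM n
  exact ⟨e.trans (HHlinEquiv X A ((sheafHomUnitIso (O := X.sheaf)).symm.app G) n)⟩

/-- `ℋom(I, -) ≅ - ⊗ L` when `L ⊗ I ≅ O`, on any ringed site -/
noncomputable def sheafHomInvIso {C : Type u} [SmallCategory C] {J : GrothendieckTopology C}
    {O : Sheaf J CommRingCat.{u}} {I L : ModSite.Mod O}
    (e : ((ModSite.tensorBi O).obj L).obj I ≅ ModSite.unit O) [ModSite.HasSheafHom I] :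
    T O L ≅ ModSite.sheafHom I :=
  conjugateIsoEquiv (adjL e) (ModSite.sheafHomAdj I) (Iso.refl _)

/-- **`Ext^n(I, G) ≃ₗ[A] H^n(X, G ⊗ L)` when `L ⊗ I ≅ O_X`.** -/
theorem nonempty_ext_linearEquiv_HH_of_inv {I L : X.Modules}
    (e : CohB1.tensorMod L I ≅ Coh.structureModule X) (G : X.Modules) (n : ℕ) :
    Nonempty (Ext I G n ≃ₗ[A] Coh.HH X (CohB1.tensorMod G L) n) := by
  have : ModSite.HasSheafHom (O := X.sheaf) I := Groth.Agent.H45.hasSheafHom _ _
  have hL : PreservesFiniteColimits (T X.sheaf L) :=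
    have := (equiv (O := X.sheaf) e).symm.toAdjunction.isLeftAdjoint
    inferInstance
  have hM : PreservesFiniteColimits (ModSite.sheafHom (O := X.sheaf) I) :=
    preservesFiniteColimits_of_natIso (sheafHomInvIso (O := X.sheaf) e)
  obtain ⟨e'⟩ := nonempty_ext_linearEquiv_HH' X A I G hM n
  exact ⟨e'.trans (HHlinEquiv X A ((sheafHomInvIso (O := X.sheaf) e).symm.app G) n)⟩

end Groth.Agent.H31.ExtCanonSch
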