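import Mathlib
import Groth.Prelude.Def_ModSite

/-!
# The free module `j_{X!} O_X` on an object of a ringed site

`freeOnHomEquiv : (ModSite.freeOn O X ⟶ T) ≃ T(X)`, natural in `T`; `pullFreeOnIso : f^* A_X ≅ A_{u X}`.
-/

open CategoryTheory Limits Opposite
universe u

namespace Groth.Agent.H31

variable {C : Type u} [SmallCategory C] {J : GrothendieckTopology C} (O : Sheaf J CommRingCat.{u}) (X : C)

/-- the map to the terminal object of `Over X`. -/
abbrev toTerm (Y : Over X) : Y ⟶ Over.mk (𝟙 X) := Over.homMk Y.hom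

lemma toTerm_uniq {Y : Over X} (f g : Y ⟶ Over.mk (𝟙 X)) : f = g := by
  ext
  have h1 := Over.w f
  have h2 := Over.w g
  simp at h1 h2
  rw [h1, h2]

/-- Sections of a presheaf of modules on `Over X` are the elements over the terminal object. -/
noncomputable def sectionsOverEquiv {R : (Over X)ᵒᵖ ⥤ RingCat.{u}} (M : PresheafOfModules.{u} R) :
    M.sections ≃ M.obj (op (Over.mk (𝟙 X))) where
  toFun s := s.val (op (Over.mk (𝟙 X)))
  invFun t := PresheafOfModules.sectionsMk
    (fun Y => M.map (toTerm X Y.unop).op t) (by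
      intro Y Z f
      rw [← PresheafOfModules.map_comp_apply]
      have : (toTerm X Y.unop).op ≫ f = (toTerm X Z.unop).op :=
        Quiver.Hom.unop_inj (toTerm_uniq X _ _)
      rw [this])
  left_inv s := by
    ext Y
    simp
  right_inv t := by
    have : toTerm X (Over.mk (𝟙 X)) = 𝟙 _ := toTerm_uniq X _ _
    show M.map (toTerm X (Over.mk (𝟙 X))).op t = t
    rw [this]
    simp


/-- Key lemma: maps out of the free module on `X` are sections over `X`. -/
noncomputable def freeOnHomEquiv (T : ModSite.Mod O) :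
    (ModSite.freeOn O X ⟶ T) ≃ T.val.obj (op X) :=
  ((ModSite.extZeroAdj O X).homEquiv _ T).trans
    ((((ModSite.restr O X).obj T).unitHomEquiv).trans
      (sectionsOverEquiv X ((ModSite.restr O X).obj T).val))

lemma freeOnHomEquiv_apply (T : ModSite.Mod O) (h : ModSite.freeOn O X ⟶ T) :
    freeOnHomEquiv O X T h =
      (((ModSite.extZeroAdj O X).homEquiv _ T h).val.app (op (Over.mk (𝟙 X))))
        (1 : (ModSite.ringSh (O.over X)).obj.obj (op (Over.mk (𝟙 X)))) := rfl

lemma freeOnHomEquiv_naturality {T T' : ModSite.Mod O} (h : ModSite.freeOn O X ⟶ T) (p : T ⟶ T') :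
    freeOnHomEquiv O X T' (h ≫ p) = p.val.app (op X) (freeOnHomEquiv O X T h) := by
  rw [freeOnHomEquiv_apply, freeOnHomEquiv_apply, Adjunction.homEquiv_naturality_right]
  rfl


lemma freeOnHomEquiv_symm_naturality {T T' : ModSite.Mod O} (t : T.val.obj (op X)) (p : T ⟶ T') :
    (freeOnHomEquiv O X T').symm (p.val.app (op X) t) = (freeOnHomEquiv O X T).symm t ≫ p := by
  rw [Equiv.symm_apply_eq, freeOnHomEquiv_naturality, Equiv.apply_symm_apply]

/-- An isomorphism from a natural bijection of corepresented functors (equivalence form of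
`Coyoneda.ext`). -/
def isoOfHomEquiv {A : Type*} [Category A] {X Y : A} (e : ∀ Z : A, (X ⟶ Z) ≃ (Y ⟶ Z))
    (n : ∀ {Z Z' : A} (f : X ⟶ Z) (g : Z ⟶ Z'), e Z' (f ≫ g) = e Z f ≫ g) : X ≅ Y :=
  Coyoneda.ext X Y (fun {Z} f => e Z f) (fun {Z} f => (e Z).symm f) (by simp) (by simp)
    (fun {Z Z'} f g => by
      rw [Equiv.symm_apply_eq, n, Equiv.apply_symm_apply])

section Pull
variable {D : Type u} [SmallCategory D] {K : GrothendieckTopology D}
  {O_C : Sheaf J CommRingCat.{u}} {O_D : Sheaf K CommRingCat.{u}}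

/-- sections of `f_* T` over `X` are sections of `T` over `u X` (identity map). -/
def pushSectEquiv (f : ModSite.RMor O_C O_D) (X : D) (T : ModSite.Mod O_C) :
    (f.push.obj T).val.obj (op X) ≃ T.val.obj (op (f.fn.obj X)) := Equiv.refl _

lemma pushSectEquiv_naturality (f : ModSite.RMor O_C O_D) (X : D) {T T' : ModSite.Mod O_C}
    (p : T ⟶ T') (t : (f.push.obj T).val.obj (op X)) :
    pushSectEquiv f X T' ((f.push.map p).val.app (op X) t) =
      p.val.app (op (f.fn.obj X)) (pushSectEquiv f X T t) := rfl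

/-- `f^*` of the free module on `X` is the free module on `u X`. -/
noncomputable def pullFreeOnIso (f : ModSite.RMor O_C O_D) (X : D) :
    f.pull.obj (ModSite.freeOn O_D X) ≅ ModSite.freeOn O_C (f.fn.obj X) :=
  isoOfHomEquiv
    (fun T => (f.adj.homEquiv _ T).trans ((freeOnHomEquiv O_D X (f.push.obj T)).trans
      ((pushSectEquiv f X T).trans (freeOnHomEquiv O_C (f.fn.obj X) T).symm)))
    (fun {T T'} h p => by
      dsimp only [Equiv.trans_apply]
      rw [Adjunction.homEquiv_naturality_right, freeOnHomEquiv_naturality,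
        pushSectEquiv_naturality, freeOnHomEquiv_symm_naturality])

end Pull



/-- two sections of a sheaf of modules agree if they agree on a covering family -/
lemma sect_ext_of_cover (N : ModSite.Mod O) {W : C} {ι : Type*} (Y : ι → C) (p : ∀ i, Y i ⟶ W)
    (hcov : Sieve.ofArrows Y p ∈ J W) (a b : N.val.obj (op W))
    (h : ∀ i, N.val.map (p i).op a = N.val.map (p i).op b) : a = b := by
  have hsh : Presieve.IsSheaf J (N.val.presheaf ⋙ forget _) :=
    (isSheaf_iff_isSheaf_of_type _ _).1
      ((Presheaf.isSheaf_iff_isSheaf_forget J N.val.presheaf (forget _)).1 N.isSheaf)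
  refine (hsh.isSeparated _ hcov).ext ?_
  rintro Z q ⟨T, r, s, ⟨i⟩, rfl⟩
  have := congrArg (N.val.map r.op) (h i)
  rw [← PresheafOfModules.map_comp_apply, ← PresheafOfModules.map_comp_apply] at this
  exact this

theorem freeOn_isSeparating (G : Set C)
    (hG : ∀ X : C, ∃ (ι : Type u) (Y : ι → C) (f : ∀ i, Y i ⟶ X), Sieve.ofArrows Y f ∈ J X ∧ ∀ i, Y i ∈ G) :
    (ObjectProperty.ofObj fun X : G => ModSite.freeOn O (X : C)).IsSeparating := by
  intro M N f g h
  have h1 : ∀ X ∈ G, ∀ m : M.val.obj (op X), f.val.app (op X) m = g.val.app (op X) m := by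
    intro X hX m
    have h2 := h _ (ObjectProperty.ofObj_apply (fun X : G => ModSite.freeOn O (X : C)) ⟨X, hX⟩)
      ((freeOnHomEquiv O X M).symm m)
    have h3 := congrArg (freeOnHomEquiv O X N) h2
    rwa [freeOnHomEquiv_naturality, freeOnHomEquiv_naturality, Equiv.apply_symm_apply] at h3
  apply SheafOfModules.hom_ext
  apply PresheafOfModules.hom_ext
  intro W
  ext m
  obtain ⟨ι, Y, p, hcov, hY⟩ := hG W.unop
  apply sect_ext_of_cover O N Y p hcov
  intro i
  rw [← PresheafOfModules.naturality_apply, ← PresheafOfModules.naturality_apply]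
  exact h1 _ (hY i) _


end Groth.Agent.H31
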