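import Groth.Agent.H31.ExtZeroProj
import Groth.Agent.H31.FreeOn
import Groth.Agent.H45.SheafTensor.FlatExact

/-!
# `A_U ⊗ M ≅ j_! j^* M` and sections of the internal hom
-/

open CategoryTheory Limits Opposite MonoidalCategory
open scoped Classical
universe u

namespace Groth.Agent.H31.ExtZero

open Groth.Agent.H45

variable {C : Type u} [SmallCategory C] {J : GrothendieckTopology C} (O : Sheaf J CommRingCat.{u})
  (U : C)

/-- `O ⊗ T ≅ T`. -/
noncomputable def unitTensorIso (T : ModSite.Mod O) :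
    ((ModSite.tensorBi O).obj (ModSite.unit O)).obj T ≅ T :=
  (shf O).mapIso (λ_ ((forg O).obj T)) ≪≫ asIso ((shfAdj O).counit.app T)

/-- `A_U ⊗ M ≅ j_! j^* M`. -/
noncomputable def freeOnTensorIso (M : ModSite.Mod O) :
    ((ModSite.tensorBi O).obj (ModSite.freeOn O U)).obj M ≅
      (ModSite.extZero O U).obj ((ModSite.restr O U).obj M) :=
  (projG O U (ModSite.unit (O.over U))).symm.app M ≪≫
    (ModSite.extZero O U).mapIso (unitTensorIso (O.over U) ((ModSite.restr O U).obj M))


lemma freeOnHomEquiv_add (T : ModSite.Mod O) (h h' : ModSite.freeOn O U ⟶ T) :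
    freeOnHomEquiv O U T (h + h') = freeOnHomEquiv O U T h + freeOnHomEquiv O U T h' := by
  rw [freeOnHomEquiv_apply, freeOnHomEquiv_apply, freeOnHomEquiv_apply,
    Adjunction.homAddEquiv_add]
  rfl

/-- Sections of the internal hom over `U` are the homomorphisms between restrictions to `C/U`. -/
noncomputable def sectSheafHomEquiv (M N : ModSite.Mod O) [ModSite.HasSheafHom M] :
    ModSite.sect ((ModSite.sheafHom M).obj N) U ≃+
      ((ModSite.restr O U).obj M ⟶ (ModSite.restr O U).obj N) :=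
  let E1 : ((ModSite.restr O U).obj M ⟶ (ModSite.restr O U).obj N) ≃+
      ((ModSite.extZero O U).obj ((ModSite.restr O U).obj M) ⟶ N) :=
    ((ModSite.extZeroAdj O U).homAddEquiv _ _).symm
  let E2 : ((ModSite.extZero O U).obj ((ModSite.restr O U).obj M) ⟶ N) ≃+
      (((ModSite.tensorBi O).flip.obj M).obj (ModSite.freeOn O U) ⟶ N) :=
    AddEquiv.mk' ((freeOnTensorIso O U M).homCongr (Iso.refl N)).symm (by
      intro a b
      simp [Iso.homCongr])
  let E3 : (((ModSite.tensorBi O).flip.obj M).obj (ModSite.freeOn O U) ⟶ N) ≃+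
      (ModSite.freeOn O U ⟶ (ModSite.sheafHom M).obj N) :=
    (ModSite.sheafHomAdj M).homAddEquiv _ _
  let E4 : (ModSite.freeOn O U ⟶ (ModSite.sheafHom M).obj N) ≃+
      ModSite.sect ((ModSite.sheafHom M).obj N) U :=
    AddEquiv.mk' (freeOnHomEquiv O U ((ModSite.sheafHom M).obj N)) (freeOnHomEquiv_add O U _)
  (E1.trans (E2.trans (E3.trans E4))).symm

end Groth.Agent.H31.ExtZero
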