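import Groth.Agent.H31.SheafHomAcyc
import Groth.Agent.H31.ExtZeroHom
import Groth.Agent.H30.GrothSSExt
import Groth.Agent.H30.ConstPush
import Groth.Prelude.Def_ModSite2

namespace Groth.Agent.H31.LocalGlobalExt

open CategoryTheory Abelian Limits Opposite
open Groth.Agent.H31.SieveExt Groth.Agent.H31.LocTriv

universe u

variable {C : Type u} [SmallCategory C] {J : GrothendieckTopology C}
  (O : Sheaf J CommRingCat.{u})

/-- `R^p Hom_O(O, -)(F) ≅ H^p(C, F_ab)`. -/
lemma nonempty_iso_rightDerived_unit [HasExt.{u} (ModSite.Mod O)]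
    [HasInjectiveResolutions (ModSite.Mod O)]
    [HasDerivedCategory.{u + 1} (ModSite.Mod O)] [HasDerivedCategory.{u + 1} AddCommGrpCat.{u}]
    (F : ModSite.Mod O) (p : ℕ) :
    Nonempty (((preadditiveCoyoneda.obj (op (ModSite.unit O))).rightDerived p).obj F ≅
      AddCommGrpCat.of (ModSite.HC O F p)) := by
  have := ModExt.enoughInjectives (ModSite.ringSh O)
  obtain ⟨e⟩ := Groth.Agent.H30.ExtDerived.nonempty_iso_rightDerived (ModSite.unit O) p F
  obtain ⟨e'⟩ := ModH.nonempty_ext_unit_addEquiv (ModSite.ringSh O) F p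
  let e'' : AddCommGrpCat.of (Ext (ModSite.unit O) F p) ≅ AddCommGrpCat.of (ModSite.HC O F p) :=
    AddEquiv.toAddCommGrpIso e'
  exact ⟨e.symm ≪≫ e''⟩

variable (M : ModSite.Mod O) [ModSite.HasSheafHom M]

/-- `ℋom_O(M, -) ⋙ Hom_O(O, -) ≅ Hom_O(M, -)`. -/
noncomputable def tauHom :
    ModSite.sheafHom M ⋙ preadditiveCoyoneda.obj (op (ModSite.unit O)) ≅
      preadditiveCoyoneda.obj (op M) :=
  Groth.Agent.H30.ConstPush.adjHomIso (ModSite.sheafHomAdj M) (ModSite.unit O) ≪≫
    preadditiveCoyoneda.mapIso (ExtZero.unitTensorIso O M).symm.op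

open Groth.Agent.H30 in
theorem localGlobalExt [HasInjectiveResolutions (ModSite.Mod O)] [HasExt.{u} (ModSite.Mod O)]
    (N : ModSite.Mod O) :
    ∃ (E : E₂CohomologicalSpectralSequence AddCommGrpCat.{u})
      (a : SpSeq.Abutment E (fun n : ℤ =>
        if 0 ≤ n then AddCommGrpCat.of (Abelian.Ext.{u} M N n.toNat) else AddCommGrpCat.of PUnit.{u + 1})),
      (∀ n : ℤ, a.IsFinite n) ∧ SpSeq.IsBounded E ∧
      ∀ p q : ℤ, Nonempty ((E.page 2 le_rfl).X (p, q) ≅
        (if 0 ≤ p ∧ 0 ≤ q then AddCommGrpCat.of (ModSite.HC O ((ModSite.extSh M q.toNat).obj N) p.toNat)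
          else AddCommGrpCat.of PUnit.{u + 1})) := by
  let _ : HasDerivedCategory.{u + 1} (ModSite.Mod O) := HasDerivedCategory.standard _
  let _ : HasDerivedCategory.{u + 1} AddCommGrpCat.{u} := HasDerivedCategory.standard _
  have := ModExt.enoughInjectives (ModSite.ringSh O)
  have hT : ∀ Q : ModSite.Mod O, Injective Q → ∀ q : ℕ, 0 < q →
      IsZero (((preadditiveCoyoneda.obj (op (ModSite.unit O))).rightDerived q).obj
        ((ModSite.sheafHom M).obj Q)) := by
    intro Q hQ q hq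
    obtain ⟨e⟩ := nonempty_iso_rightDerived_unit O ((ModSite.sheafHom M).obj Q) q
    refine IsZero.of_iso ?_ e
    obtain ⟨q', rfl⟩ : ∃ q', q = q' + 1 := ⟨q - 1, by omega⟩
    have h1 : Subsingleton (Ext (Zs J (ModH.T0 J).obj)
        (ModSite.toAb ((ModSite.sheafHom M).obj Q)) (q' + 1)) :=
      SheafHomAcyc.isTotallyAcyclic_sheafHom O M Q (ModH.T0 J) q'
    have : Subsingleton (ModSite.HC O ((ModSite.sheafHom M).obj Q) (q' + 1)) :=
      (ModH.extAddEquivOfIso (ModH.ZsT0Iso J) _ (q' + 1)).symm.toEquiv.subsingleton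
    exact AddCommGrpCat.isZero_of_subsingleton _
  exact GrothSSExt.grothendieck_spectralSequence' (ModSite.sheafHom M)
    (preadditiveCoyoneda.obj (op (ModSite.unit O))) hT N
    (fun n => AddCommGrpCat.of (Abelian.Ext.{u} M N n))
    (fun p q => AddCommGrpCat.of (ModSite.HC O ((ModSite.extSh M q).obj N) p))
    (AddCommGrpCat.of PUnit.{u + 1}) (AddCommGrpCat.isZero_of_subsingleton _)
    (fun n => ⟨(GrothSSExt.rightDerivedIsoOfIso (tauHom O M) n).app N ≪≫
      (ExtDerived.nonempty_iso_rightDerived M n N).some.symm⟩)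
    (fun p q => nonempty_iso_rightDerived_unit O _ p)

end Groth.Agent.H31.LocalGlobalExt
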