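import Groth.Agent.H31.SheafHomSchLocFree
import Groth.Agent.H31.LocalGlobalExt
import Groth.Agent.H31.AcycComp

/-!
# `Ext^p(A, B) ≅ H^p(X, ℋom(A, B))` when `ℋom(A, -)` is exact (e.g. `A` finite locally free)
-/

set_option autoImplicit false
open CategoryTheory Limits Opposite Abelian
universe u

namespace Groth.Agent.H31.ExtLocFree

open Groth.Agent.H30 Groth.Agent.H31.LocalGlobalExt

section Site

variable {C : Type u} [SmallCategory C] {J : GrothendieckTopology C}
  (O : Sheaf J CommRingCat.{u})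

theorem nonempty_ext_addEquiv_HC [HasExt.{u} (ModSite.Mod O)] (M N : ModSite.Mod O)
    [ModSite.HasSheafHom M] (hM : PreservesFiniteColimits (ModSite.sheafHom M)) (p : ℕ)
    (N' : ModSite.Mod O) (i : (ModSite.sheafHom M).obj N ≅ N') :
    Nonempty (Abelian.Ext.{u} M N p ≃+ ModSite.HC O N' p) := by
  let _ : HasDerivedCategory.{u + 1} (ModSite.Mod O) := HasDerivedCategory.standard _
  let _ : HasDerivedCategory.{u + 1} AddCommGrpCat.{u} := HasDerivedCategory.standard _
  have := ModExt.enoughInjectives (ModSite.ringSh O)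
  have hadd : (ModSite.sheafHom M).Additive := (ModSite.sheafHomAdj M).right_adjoint_additive
  have hl : PreservesFiniteLimits (ModSite.sheafHom M) := by
    have : PreservesLimitsOfSize.{0, 0} (ModSite.sheafHom M) :=
      (ModSite.sheafHomAdj M).rightAdjoint_preservesLimits
    exact PreservesLimitsOfSize.preservesFiniteLimits _
  have hT : ∀ Q : ModSite.Mod O, Injective Q →
      Leray.acyclic (preadditiveCoyoneda.obj (op (ModSite.unit O))) ((ModSite.sheafHom M).obj Q) := by
    intro Q hQ q hq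
    obtain ⟨e⟩ := nonempty_iso_rightDerived_unit O ((ModSite.sheafHom M).obj Q) q
    refine IsZero.of_iso ?_ e
    obtain ⟨q', rfl⟩ : ∃ q', q = q' + 1 := ⟨q - 1, by omega⟩
    have h1 : Subsingleton (Ext (SieveExt.Zs J (ModH.T0 J).obj)
        (ModSite.toAb ((ModSite.sheafHom M).obj Q)) (q' + 1)) :=
      SheafHomAcyc.isTotallyAcyclic_sheafHom O M Q (ModH.T0 J) q'
    have : Subsingleton (ModSite.HC O ((ModSite.sheafHom M).obj Q) (q' + 1)) :=
      (ModH.extAddEquivOfIso (ModH.ZsT0Iso J) _ (q' + 1)).symm.toEquiv.subsingleton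
    exact AddCommGrpCat.isZero_of_subsingleton _
  obtain ⟨e1⟩ := ExtDerived.nonempty_iso_rightDerived M p N
  let e2 := (GrothSSExt.rightDerivedIsoOfIso (tauHom O M) p).symm.app N
  let e3 := (AcycComp.rightDerivedCompIso (ModSite.sheafHom M)
    (preadditiveCoyoneda.obj (op (ModSite.unit O))) hT p).app N
  let e3' := ((preadditiveCoyoneda.obj (op (ModSite.unit O))).rightDerived p).mapIso i
  obtain ⟨e4⟩ := nonempty_iso_rightDerived_unit O N' p
  exact ⟨(e1 ≪≫ e2 ≪≫ e3 ≪≫ e3' ≪≫ e4).addCommGroupIsoToAddEquiv⟩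

end Site

open AlgebraicGeometry in
/-- `Ext^p(A, B) ≅ H^p(X, ℋom(A, B))` for `A` finite locally free on a scheme. -/
theorem nonempty_ext_addEquiv_HH (X : Scheme.{u}) [hE : HasExt.{u} X.Modules]
    (A B : X.Modules) (hA : FlatMod.IsFinLocFree A) [DCoh.HasSheafHom A] (p : ℕ) :
    Nonempty (Abelian.Ext A B p ≃+ Coh.HH X ((DCoh.sheafHom A).obj B) p) := by
  have := SheafHomFlasque.hasSheafHom A
  have hM := SheafHomSchLocFree.preservesFiniteColimits_sheafHom A hA
  have hE' : HasExt.{u} (ModSite.Mod X.sheaf) := hE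
  exact nonempty_ext_addEquiv_HC X.sheaf A B hM p ((DCoh.sheafHom A).obj B)
    ((SheafHomFlasque.sheafHomIso A).symm.app B)

end Groth.Agent.H31.ExtLocFree
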