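import Groth.Agent.H31.ExtCanon
import Groth.Agent.H31.ExtLocFree
import Groth.Agent.H31.ExtInvertible
import Groth.Prelude.Def_DerComp

/-!
# The canonical map `Ext^n(F, G) → H^n(ℋom(F, G))` on a ringed site

It is bijective when `ℋom(F, -)` is exact, and compatible with multiplication by global sections
of the structure sheaf.
-/

set_option autoImplicit false
set_option linter.unusedSectionVars false
open CategoryTheory Limits Opposite Abelian MonoidalCategory
universe u

namespace Groth.Agent.H31.ExtCanonSite

open Groth.Agent.H45 Groth.Agent.H31.SheafHomFree Groth.Agent.H31.ExtInvertible DerComp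

section Site

variable {C : Type u} [SmallCategory C] {J : GrothendieckTopology C} (O : Sheaf J CommRingCat.{u})
  (F : ModSite.Mod O) [ModSite.HasSheafHom F]

/-- the left unitor `O ⊗ F ≅ F` -/
noncomputable def leftUnitor : ((ModSite.tensorBi O).obj (ModSite.unit O)).obj F ≅ F :=
  σ O (ModSite.unit O) F ≪≫ (flipUnitIso O).app F

/-- the identity section `O ⟶ ℋom(F, F)` -/
noncomputable def c₁ : ModSite.unit O ⟶ (ModSite.sheafHom F).obj F :=
  (ModSite.sheafHomAdj F).homEquiv (ModSite.unit O) F (leftUnitor O F).hom

lemma bijective_c₁ (M : ModSite.Mod O) :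
    Function.Bijective (fun x : F ⟶ M => c₁ O F ≫ (ModSite.sheafHom F).map x) := by
  have h : (fun x : F ⟶ M => c₁ O F ≫ (ModSite.sheafHom F).map x) =
      (fun x => (ModSite.sheafHomAdj F).homEquiv (ModSite.unit O) M ((leftUnitor O F).hom ≫ x)) := by
    funext x
    rw [Adjunction.homEquiv_naturality_right]
    rfl
  rw [h]
  refine ((ModSite.sheafHomAdj F).homEquiv _ M).bijective.comp ?_
  exact ⟨fun x y hxy => (cancel_epi _).1 hxy, fun y => ⟨(leftUnitor O F).inv ≫ y, by simp⟩⟩

/-- the comparison functor `ℋom(F, -)` followed by the underlying abelian sheaf -/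
noncomputable abbrev E : ModSite.Mod O ⥤ Sheaf J AddCommGrpCat.{u} :=
  ModSite.sheafHom F ⋙ SheafOfModules.toSheaf (ModSite.ringSh O)

/-- the constant sheaf `ℤ` -/
noncomputable abbrev Zc : Sheaf J AddCommGrpCat.{u} :=
  (constantSheaf J AddCommGrpCat.{u}).obj (AddCommGrpCat.of (ULift.{u} ℤ))

/-- the universal element -/
noncomputable def c : Zc (J := J) ⟶ (E O F).obj F :=
  (ModH.ZsT0Iso J).inv ≫ ModH.c0 (ModSite.ringSh O) ≫
    (SheafOfModules.toSheaf (ModSite.ringSh O)).map (c₁ O F)

lemma bijective_c (M : ModSite.Mod O) :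
    Function.Bijective (fun x : F ⟶ M => c O F ≫ (E O F).map x) := by
  have h : (fun x : F ⟶ M => c O F ≫ (E O F).map x) =
      (fun y => (ModH.ZsT0Iso J).inv ≫ y) ∘ (ModH.phi (ModSite.ringSh O) _) ∘
        (fun x : F ⟶ M => c₁ O F ≫ (ModSite.sheafHom F).map x) := by
    funext x
    simp only [Function.comp_apply, ModH.phi_eq, c, Functor.comp_map, Functor.map_comp,
      Category.assoc]
  rw [h]
  refine Function.Bijective.comp ?_ (Function.Bijective.comp (ModH.phi _ _).bijective
    (bijective_c₁ O F M))
  exact ⟨fun x y hxy => (cancel_epi _).1 hxy, fun y => ⟨(ModH.ZsT0Iso J).hom ≫ y, by simp⟩⟩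

variable [HasExt.{u} (ModSite.Mod O)]

lemma subsingleton_ext_E (I : ModSite.Mod O) (hI : Injective I) (n : ℕ) :
    Subsingleton (Ext (Zc (J := J)) ((E O F).obj I) (n + 1)) := by
  have h1 : Subsingleton (Ext (SieveExt.Zs J (ModH.T0 J).obj)
      ((E O F).obj I) (n + 1)) :=
    SheafHomAcyc.isTotallyAcyclic_sheafHom O F I (ModH.T0 J) n
  exact (ModH.extAddEquivOfIso (ModH.ZsT0Iso J) _ (n + 1)).symm.toEquiv.subsingleton

omit [HasExt.{u} (ModSite.Mod O)] in
lemma exactE (hex : PreservesFiniteColimits (ModSite.sheafHom F)) :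
    (E O F).Additive ∧ PreservesFiniteLimits (E O F) ∧ PreservesFiniteColimits (E O F) := by
  have hadd : (ModSite.sheafHom F).Additive := (ModSite.sheafHomAdj F).right_adjoint_additive
  have hl : PreservesFiniteLimits (ModSite.sheafHom F) := by
    have : PreservesLimitsOfSize.{0, 0} (ModSite.sheafHom F) :=
      (ModSite.sheafHomAdj F).rightAdjoint_preservesLimits
    exact PreservesLimitsOfSize.preservesFiniteLimits _
  have : PreservesFiniteColimits (SheafOfModules.toSheaf.{u} (ModSite.ringSh O)) :=
    (Groth.Agent.H31.toSheaf_preservesColimits (ModSite.ringSh O)).preservesFiniteColimits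
  exact ⟨inferInstance, inferInstance, inferInstance⟩

/-- **the canonical map `Ext^n(F, G) → H^n(ℋom(F, G))` is bijective when `ℋom(F,-)` is exact** -/
theorem bijective_Θ (hex : PreservesFiniteColimits (ModSite.sheafHom F)) (n : ℕ)
    (G : ModSite.Mod O) :
    haveI := (exactE O F hex).1
    haveI := (exactE O F hex).2.1
    haveI := (exactE O F hex).2.2
    Function.Bijective (ExtCanon.Ψ (E O F) (c O F) G n) := by
  have := (exactE O F hex).1
  have := (exactE O F hex).2.1
  have := (exactE O F hex).2.2
  have := ModExt.enoughInjectives (ModSite.ringSh O)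
  exact ExtCanon.Ψ_bijective (E O F) (c O F) (bijective_c O F)
    (fun I hI n => subsingleton_ext_E O F I hI n) n G

end Site

section Smul

variable {C : Type u} [SmallCategory C] {J : GrothendieckTopology C} {O : Sheaf J CommRingCat.{u}}

/-- the components of a global section, as scalars for presheaves of modules -/
abbrev sv (s : GSec O) (X : Cᵒᵖ) : (O.obj ⋙ forget₂ CommRingCat.{u} RingCat.{u}).obj X := s.1 X.unop

/-- multiplication by a global section on a presheaf of modules -/
noncomputable def smulP (s : GSec O) (P : PMod O) : P ⟶ P where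
  app X := ModuleCat.ofHom
      { toFun := fun x => sv s X • x
        map_add' := fun x y => smul_add _ x y
        map_smul' := fun r x => by
          rw [RingHom.id_apply, smul_smul, smul_smul]
          exact congrArg (fun t => t • x) (mul_comm (s.1 X.unop) (show O.obj.obj X from r)) }
  naturality {X Y} g := by
    ext x
    dsimp
    erw [PresheafOfModules.map_smul]
    congr 1
    exact (s.2 g.unop).symm

lemma smulP_apply (s : GSec O) (P : PMod O) (X : Cᵒᵖ) (x : P.obj X) :
    ((smulP s P).app X).hom x = sv s X • x := rfl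

lemma forg_smulEnd (s : GSec O) (N : ModSite.Mod O) :
    (forg O).map (smulEnd s N) = smulP s ((forg O).obj N) := rfl

/-- every morphism of presheaves of modules commutes with multiplication by a global section -/
lemma smulP_comm (s : GSec O) {P Q : PMod O} (φ : P ⟶ Q) : smulP s P ≫ φ = φ ≫ smulP s Q := by
  ext X x
  change (φ.app X).hom (sv s X • x) = sv s X • (φ.app X).hom x
  exact (φ.app X).hom.map_smul _ _

lemma smulP_whiskerRight (s : GSec O) (P Q : PMod O) : smulP s P ▷ Q = smulP s (P ⊗ Q) := by
  ext X : 1
  rw [PresheafOfModules.whiskerRight_app]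
  apply ModuleCat.MonoidalCategory.tensor_ext
  intro p q
  erw [ModuleCat.MonoidalCategory.whiskerRight_apply]

/-- sheafification commutes with multiplication by a global section -/
lemma shf_map_smulP (s : GSec O) (P : PMod O) :
    (shf O).map (smulP s P) = smulEnd s ((shf O).obj P) := by
  apply ((shfAdj O).homEquiv _ _).injective
  rw [Adjunction.homEquiv_unit, Adjunction.homEquiv_unit, forg_smulEnd]
  exact ((shfAdj O).unit.naturality (smulP s P)).symm.trans (smulP_comm s ((shfAdj O).unit.app P))

/-- `- ⊗ F` commutes with multiplication by a global section -/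
lemma tensor_map_smulEnd (s : GSec O) (F N : ModSite.Mod O) :
    ((ModSite.tensorBi O).flip.obj F).map (smulEnd s N) =
      smulEnd s (((ModSite.tensorBi O).flip.obj F).obj N) := by
  change (shf O).map ((forg O).map (smulEnd s N) ▷ (forg O).obj F) = _
  rw [forg_smulEnd, smulP_whiskerRight, shf_map_smulP]
  rfl


/-- `ℋom(F, -)` commutes with multiplication by a global section -/
lemma sheafHom_map_smulEnd (s : GSec O) (F G : ModSite.Mod O) [ModSite.HasSheafHom F] :
    (ModSite.sheafHom F).map (smulEnd s G) = smulEnd s ((ModSite.sheafHom F).obj G) := by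
  apply ((ModSite.sheafHomAdj F).homEquiv _ _).symm.injective
  rw [Adjunction.homEquiv_counit, Adjunction.homEquiv_counit, tensor_map_smulEnd, smulEnd_comm]
  exact (ModSite.sheafHomAdj F).counit.naturality (smulEnd s G)

/-- the canonical map is compatible with multiplication by global sections -/
lemma Ψ_comp_smulEnd [HasExt.{u} (ModSite.Mod O)] (s : GSec O) (F G : ModSite.Mod O)
    [ModSite.HasSheafHom F] (hex : PreservesFiniteColimits (ModSite.sheafHom F)) (n : ℕ)
    (x : Ext F G n) :
    haveI := (exactE O F hex).1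
    haveI := (exactE O F hex).2.1
    haveI := (exactE O F hex).2.2
    ExtCanon.Ψ (E O F) (c O F) G n (x.comp (Ext.mk₀ (smulEnd s G)) (add_zero n)) =
      Sheaf.H.map ((SheafOfModules.toSheaf (ModSite.ringSh O)).map
        (smulEnd s ((ModSite.sheafHom F).obj G))) n (ExtCanon.Ψ (E O F) (c O F) G n x) := by
  have := (exactE O F hex).1
  have := (exactE O F hex).2.1
  have := (exactE O F hex).2.2
  rw [ExtCanon.Ψ_comp_mk₀, Sheaf.H.map_apply]
  congr 2
  change (SheafOfModules.toSheaf (ModSite.ringSh O)).map
    ((ModSite.sheafHom F).map (smulEnd s G)) = _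
  rw [sheafHom_map_smulEnd]

end Smul

end Groth.Agent.H31.ExtCanonSite
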