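import Groth.Agent.H31.ExtZeroProj
import Groth.Agent.H45.SheafTensor.FlatExact

/-!
# Extension by zero is faithful; restriction preserves flatness
-/

open CategoryTheory Limits Opposite MonoidalCategory
open scoped Classical
universe u

namespace Groth.Agent.H31.ExtZero

open Groth.Agent.H45

variable {C : Type u} [SmallCategory C] {J : GrothendieckTopology C} (O : Sheaf J CommRingCat.{u})
  (U : C)

/-- the unit of sheafification is locally injective -/
lemma locInj_unit (P : PMod O) : LocInj J ((shfAdj O).unit.app P) :=
  ((isIso_shf_map_iff _).1 (isIso_shf_map_unit P)).1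

/-- if sheafification kills `ψ`, then `ψ` has locally zero values -/
lemma locZero_of_shf_map_eq_zero {P P' : PMod O} (ψ : P ⟶ P') (h : (shf O).map ψ = 0) (W : C)
    (y : P.obj (op W)) : LocZero J P' W (ψ.app (op W) y) := by
  apply locInj_unit O P'
  have nat := (shfAdj O).unit.naturality ψ
  have : ψ ≫ (shfAdj O).unit.app P' = 0 := by
    erw [nat]
    rw [Functor.comp_map, h, Functor.map_zero, comp_zero]
  have h2 := congrArg (fun t => (PresheafOfModules.Hom.app t (op W)) y) this
  exact h2

/-- two sections of a sheaf of modules agree if they agree on a covering sieve -/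
lemma sect_ext_of_sieve (N : ModSite.Mod O) {W : C} (S : Sieve W) (hS : S ∈ J W)
    (a b : N.val.obj (op W))
    (h : ∀ ⦃Z : C⦄ (g : Z ⟶ W), S g → N.val.map g.op a = N.val.map g.op b) : a = b := by
  have hsh : Presieve.IsSheaf J (N.val.presheaf ⋙ forget _) :=
    (isSheaf_iff_isSheaf_of_type _ _).1
      ((Presheaf.isSheaf_iff_isSheaf_forget J N.val.presheaf (forget _)).1 N.isSheaf)
  exact (hsh.isSeparated _ hS).ext (fun Z g hg => h g hg)


lemma inc_injective {R : Cᵒᵖ ⥤ RingCat.{u}} (P : PresheafOfModules.{u} (ringOver R U)) (W : C)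
    (φ : W ⟶ U) : Function.Injective (inc P W φ) :=
  DirectSum.of_injective (β := fun φ : W ⟶ U => summand P W φ) φ

lemma app_eq_zero_of_extS_map_eq_zero {P P' : ModSite.Mod (O.over U)} (f : P ⟶ P')
    (h : (extS U O).map f = 0) (W : C) (φ : W ⟶ U) (x : P.val.obj (op (Over.mk φ))) :
    f.val.app (op (Over.mk φ)) x = 0 := by
  let ψ := (extP (ModSite.ringSh O).obj U).map
    ((SheafOfModules.forget (ModSite.ringSh (O.over U))).map f)
  have h' : (shf O).map ψ = 0 := h
  obtain ⟨S, hS, hS'⟩ := locZero_of_shf_map_eq_zero O ψ h' W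
    (inc (R := (ModSite.ringSh O).obj) P.val W φ x)
  refine sect_ext_of_sieve (O.over U) P' ((Sieve.overEquiv (Over.mk φ)).symm S)
    (GrothendieckTopology.overEquiv_symm_mem_over J (Over.mk φ) S hS) _ 0 ?_
  intro Z k hk
  have hk' : S k.left := hk
  have h1 := hS' k.left hk'
  have h2 : ψ.app (op W) (inc (R := (ModSite.ringSh O).obj) P.val W φ x) =
      inc (R := (ModSite.ringSh O).obj) P'.val W φ (f.val.app (op (Over.mk φ)) x) :=
    extMap_app_inc (R := (ModSite.ringSh O).obj) _ (op W) φ x
  have h3 : (extObj (R := (ModSite.ringSh O).obj) P'.val).map k.left.op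
      (inc (R := (ModSite.ringSh O).obj) P'.val W φ (f.val.app (op (Over.mk φ)) x)) = 0 :=
    (congrArg (fun t => (extObj (R := (ModSite.ringSh O).obj) P'.val).map k.left.op t) h2).symm.trans
      h1
  have h3' := (extObj_map_inc (R := (ModSite.ringSh O).obj) (P := P'.val) k.left.op φ
    (f.val.app (op (Over.mk φ)) x)).symm.trans h3
  have h4 := inc_injective (R := (ModSite.ringSh O).obj) U P'.val _ _
    (h3'.trans (map_zero _).symm)
  have key : ∀ (Zh : Z.left ⟶ U) (w : k.left ≫ φ = Zh),
      P'.val.map (Over.homMk k.left w : Over.mk Zh ⟶ Over.mk φ).op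
        (f.val.app (op (Over.mk φ)) x) = 0 := by
    intro Zh w
    subst w
    exact h4
  have hk_eq : k = (Over.homMk k.left (Over.w k) : Over.mk Z.hom ⟶ Over.mk φ) := by
    ext
    rfl
  rw [map_zero, hk_eq]
  exact key Z.hom (Over.w k)

/-- `j_!` kills no nonzero morphism. -/
lemma eq_zero_of_extS_map_eq_zero {P P' : ModSite.Mod (O.over U)} (f : P ⟶ P')
    (h : (extS U O).map f = 0) : f = 0 := by
  apply SheafOfModules.hom_ext
  apply PresheafOfModules.hom_ext
  intro Y
  ext x
  exact app_eq_zero_of_extS_map_eq_zero O U f h Y.unop.left Y.unop.hom x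


instance additive_extS : (extS U O).Additive :=
  Functor.additive_of_iso (extZeroIso U O)

instance faithful_extS : (extS U O).Faithful where
  map_injective {P P'} f g h := by
    have : (extS U O).map (f - g) = 0 := by rw [Functor.map_sub, h, sub_self]
    exact sub_eq_zero.1 (eq_zero_of_extS_map_eq_zero O U _ this)

/-- Extension by zero is faithful. -/
instance faithful_extZero : (ModSite.extZero O U).Faithful :=
  Functor.Faithful.of_iso (extZeroIso U O).symm

/-- Extension by zero reflects exactness. -/
theorem exact_of_exact_map_extZero (S : ShortComplex (ModSite.Mod (O.over U)))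
    (h : (S.map (ModSite.extZero O U)).Exact) : S.Exact := by
  have h1 : PreservesFiniteLimits (ModSite.extZero O U) := preservesFiniteLimits_extZero U O
  have h2 : PreservesFiniteColimits (ModSite.extZero O U) := by
    have : PreservesColimitsOfSize.{0, 0} (ModSite.extZero O U) :=
      (ModSite.extZeroAdj O U).leftAdjoint_preservesColimits
    exact PreservesColimitsOfSize.preservesFiniteColimits _
  exact (ShortComplex.exact_map_iff_of_faithful S (ModSite.extZero O U)).1 h

/-- Restriction to `C/U` preserves flatness. -/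
theorem isFlat_restr (M : ModSite.Mod O) (hM : ModSite.IsFlat M) :
    ModSite.IsFlat ((ModSite.restr O U).obj M) := by
  apply isFlat_of_forall_mono
  intro E hE
  have := hE.mono_f
  have h1 : PreservesFiniteLimits (ModSite.extZero O U) := preservesFiniteLimits_extZero U O
  have h2 : PreservesFiniteLimits ((ModSite.tensorBi O).flip.obj M) := hM.1
  have h3 : Mono ((ModSite.extZero O U ⋙ (ModSite.tensorBi O).flip.obj M).map E.f) :=
    inferInstance
  have h4 : Mono (((ModSite.tensorBi (O.over U)).flip.obj ((ModSite.restr O U).obj M) ⋙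
      ModSite.extZero O U).map E.f) := by
    have e := NatIso.naturality_2 (projF O U M) E.f
    rw [← e]
    infer_instance
  exact (ModSite.extZero O U).mono_of_mono_map h4

end Groth.Agent.H31.ExtZero
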