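import Groth.Agent.H31.ExtZeroFaithful

/-!
# Restriction to `C/U` commutes with sheafification and with the tensor product
-/

open CategoryTheory Limits Opposite MonoidalCategory
open scoped Classical
universe u

namespace Groth.Agent.H31.ExtZero

open Groth.Agent.H45

variable {C : Type u} [SmallCategory C] {J : GrothendieckTopology C} (O : Sheaf J CommRingCat.{u})
  (U : C)

variable {O} in
lemma locInj_resC {P P' : PMod O} (ψ : P ⟶ P') (h : LocInj J ψ) :
    LocInj (J.over U) (R := (O.over U).obj) ((resC O.obj U).map ψ) := by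
  intro Y x hx
  obtain ⟨S, hS, hS'⟩ := h Y.left x hx
  refine ⟨(Sieve.overEquiv Y).symm S, GrothendieckTopology.overEquiv_symm_mem_over J Y S hS, ?_⟩
  intro Z k hk
  exact hS' k.left hk

variable {O} in
lemma locSurj_resC {P P' : PMod O} (ψ : P ⟶ P') (h : LocSurj J ψ) :
    LocSurj (J.over U) (R := (O.over U).obj) ((resC O.obj U).map ψ) := by
  intro Y y
  obtain ⟨S, hS, hS'⟩ := h Y.left y
  refine ⟨(Sieve.overEquiv Y).symm S, GrothendieckTopology.overEquiv_symm_mem_over J Y S hS, ?_⟩
  intro Z k hk
  exact hS' k.left hk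


lemma locSurj_unit (P : PMod O) : LocSurj J ((shfAdj O).unit.app P) :=
  ((isIso_shf_map_iff _).1 (isIso_shf_map_unit P)).2

/-- restriction of the sheafification unit, as a map to `forg'(restr (shf P))` -/
noncomputable def resUnit (P : PMod O) :
    (resC O.obj U).obj P ⟶ (forg (O.over U)).obj ((ModSite.restr O U).obj ((shf O).obj P)) :=
  (resC O.obj U).map ((shfAdj O).unit.app P)

instance isIso_shf_map_resUnit (P : PMod O) : IsIso ((shf (O.over U)).map (resUnit O U P)) := by
  rw [isIso_shf_map_iff]
  exact ⟨locInj_resC U _ (locInj_unit O P), locSurj_resC U _ (locSurj_unit O P)⟩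

/-- Sheafification commutes with restriction to `C/U`. -/
noncomputable def shfResIso (P : PMod O) :
    (shf (O.over U)).obj ((resC O.obj U).obj P) ≅ (ModSite.restr O U).obj ((shf O).obj P) :=
  asIso ((shf (O.over U)).map (resUnit O U P)) ≪≫
    asIso ((shfAdj (O.over U)).counit.app ((ModSite.restr O U).obj ((shf O).obj P)))

noncomputable instance monoidal_resC (Rc : Cᵒᵖ ⥤ CommRingCat.{u}) : (resC Rc U).Monoidal :=
  inferInstanceAs (PresheafOfModules.pushforward₀OfCommRingCat (Over.forget U) Rc).Monoidal

/-- Restriction to `C/U` commutes with the tensor product. -/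
noncomputable def restrTensorIso (M N : ModSite.Mod O) :
    (ModSite.restr O U).obj (((ModSite.tensorBi O).obj M).obj N) ≅
      ((ModSite.tensorBi (O.over U)).obj ((ModSite.restr O U).obj M)).obj
        ((ModSite.restr O U).obj N) :=
  (shfResIso O U ((forg O).obj M ⊗ (forg O).obj N)).symm ≪≫
    (shf (O.over U)).mapIso
      (Functor.Monoidal.μIso (resC O.obj U) ((forg O).obj M) ((forg O).obj N)).symm

end Groth.Agent.H31.ExtZero
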