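import Groth.Agent.H31.QuotOnAdj
import Groth.Agent.H31.ExtZeroFaithful
import Groth.Agent.H31.RestrTensor
import Groth.Agent.H31.FreeOn
import Groth.Agent.H31.ExtZeroHom
import Groth.Agent.H45.SheafTensor.ToSheaf

namespace Groth.Agent.H31.QuotOnExact

open CategoryTheory Limits Opposite
open Groth.Agent.H45 Groth.Agent.H31.ExtZero

universe u

variable {C : Type u} [SmallCategory C] {J : GrothendieckTopology C}
  (O : Sheaf J CommRingCat.{u}) (U : C)

/-- A section is `U`-local if locally it is zero or lives over an object mapping to `U`. -/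
def ULocal (F : ModSite.Mod O) (V : C) (x : F.val.obj (op V)) : Prop :=
  ∃ S ∈ J V, ∀ ⦃W : C⦄ (g : W ⟶ V), S g → (Nonempty (W ⟶ U) ∨ F.val.map g.op x = 0)

variable {O U}

lemma ULocal.map {F F' : ModSite.Mod O} (ψ : F ⟶ F') {V : C} {x : F.val.obj (op V)}
    (hx : ULocal O U F V x) : ULocal O U F' V (ψ.val.app (op V) x) := by
  obtain ⟨S, hS, h⟩ := hx
  refine ⟨S, hS, fun W g hg => ?_⟩
  rcases h g hg with h1 | h1
  · exact Or.inl h1
  · right
    have := PresheafOfModules.naturality_apply ψ.val g.op x
    refine this.symm.trans ?_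
    rw [h1]
    exact map_zero _

lemma ULocal.of_injective {F F' : ModSite.Mod O} (ψ : F ⟶ F')
    (hψ : ∀ W : C, Function.Injective (ψ.val.app (op W))) {V : C} {x : F.val.obj (op V)}
    (hx : ULocal O U F' V (ψ.val.app (op V) x)) : ULocal O U F V x := by
  obtain ⟨S, hS, h⟩ := hx
  refine ⟨S, hS, fun W g hg => ?_⟩
  rcases h g hg with h1 | h1
  · exact Or.inl h1
  · right
    apply hψ W
    have := PresheafOfModules.naturality_apply ψ.val g.op x
    refine this.trans (h1.trans ?_)
    exact (map_zero _).symm

variable (O U) in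
/-- every section of the explicit `j_! G` is `U`-local. -/
lemma ulocal_extS (G : ModSite.Mod (O.over U)) (V : C) (r : ((extS U O).obj G).val.obj (op V)) :
    ULocal O U ((extS U O).obj G) V r := by
  let P : PMod O := (extP (ModSite.ringSh O).obj U).obj
    ((SheafOfModules.forget (ModSite.ringSh (O.over U))).obj G)
  obtain ⟨S, hS, h⟩ := locSurj_unit O P V r
  refine ⟨S, hS, fun W g hg => ?_⟩
  by_cases hW : Nonempty (W ⟶ U)
  · exact Or.inl hW
  · right
    obtain ⟨p, hp⟩ := h g hg
    have : IsEmpty (W ⟶ U) := not_nonempty_iff.1 hW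
    have hp0 : p = 0 := Subsingleton.elim (α := sec (R := (ModSite.ringSh O).obj)
      ((SheafOfModules.forget (ModSite.ringSh (O.over U))).obj G) W) _ _
    rw [hp0] at hp
    exact hp.symm.trans (map_zero _)

variable (O U) in
/-- every section of `j_! G` is `U`-local. -/
lemma ulocal_extZero (G : ModSite.Mod (O.over U)) (V : C)
    (r : ((ModSite.extZero O U).obj G).val.obj (op V)) :
    ULocal O U ((ModSite.extZero O U).obj G) V r := by
  have h := ulocal_extS O U G V (((extZeroIso U O).hom.app G).val.app (op V) r)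
  have h' := h.map ((extZeroIso U O).inv.app G)
  have e : ((extZeroIso U O).hom.app G ≫ (extZeroIso U O).inv.app G) = 𝟙 _ :=
    (extZeroIso U O).hom_inv_id_app G
  have e' : ((extZeroIso U O).inv.app G).val.app (op V)
      (((extZeroIso U O).hom.app G).val.app (op V) r) = r :=
    congrArg (fun t : (ModSite.extZero O U).obj G ⟶ (ModSite.extZero O U).obj G =>
      t.val.app (op V) r) e
  rw [e'] at h'
  exact h'

/-- epimorphisms of sheaves of modules are locally surjective on sections. -/
lemma locSurj_of_epi {A B : ModSite.Mod O} (p : A ⟶ B) [Epi p] : LocSurj J ((forg O).map p) := by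
  rw [← isLocallySurjective_iff_locSurj]
  have h0 : PreservesFiniteColimits (SheafOfModules.toSheaf.{u} (ModSite.ringSh O)) :=
    preservesFiniteColimits_toSheaf O
  have : Epi ((SheafOfModules.toSheaf (ModSite.ringSh O)).map p) := inferInstance
  exact (Sheaf.isLocallySurjective_iff_epi' _ ((SheafOfModules.toSheaf (ModSite.ringSh O)).map p)).2 this

/-- monomorphisms of sheaves of modules are injective on sections. -/
lemma injective_of_mono {A B : ModSite.Mod O} (p : A ⟶ B) [Mono p] (W : C) :
    Function.Injective (p.val.app (op W)) := by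
  have : Mono ((forg O).map p) := inferInstance
  exact PresheafOfModules.injective_of_mono ((forg O).map p) (op W)

/-- a morphism of sheaves of modules which is injective on sections is a monomorphism. -/
lemma mono_of_injective {A B : ModSite.Mod O} (p : A ⟶ B)
    (h : ∀ W : C, Function.Injective (p.val.app (op W))) : Mono p := by
  have : Mono ((forg O).map p) :=
    PresheafOfModules.mono_of_injective (f := (forg O).map p) (fun W => h W.unop)
  exact (forg O).mono_of_mono_map this

lemma freeOnHomEquiv_zero (W : C) (T : ModSite.Mod O) : freeOnHomEquiv O W T 0 = 0 := by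
  have := ExtZero.freeOnHomEquiv_add O W T 0 0
  rw [add_zero] at this
  exact left_eq_add.1 this

/-- a section killed by `M ⟶ M/M_U` is locally `U`-local. -/
lemma locally_ulocal_of_π_eq_zero (M : ModSite.Mod O) {W : C} (x : M.val.obj (op W))
    (hx : ((ModSite.quotOnπ O U).app M).val.app (op W) x = 0) :
    ∃ S ∈ J W, ∀ ⦃W' : C⦄ (g : W' ⟶ W), S g → ULocal O U M W' (M.val.map g.op x) := by
  let xh : ModSite.freeOn O W ⟶ M := (freeOnHomEquiv O W M).symm x
  have h0 : xh ≫ (ModSite.quotOnπ O U).app M = 0 := by
    apply (freeOnHomEquiv O W _).injective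
    rw [freeOnHomEquiv_naturality, Equiv.apply_symm_apply, freeOnHomEquiv_zero]
    exact hx
  have hex := (ExtSupp.openSeq_exact U M).1
  rw [ShortComplex.exact_iff_exact_up_to_refinements] at hex
  obtain ⟨A', p, hp, x₁, hfac⟩ := hex xh h0
  let one : (ModSite.freeOn O W).val.obj (op W) := freeOnHomEquiv O W _ (𝟙 _)
  obtain ⟨S, hS, h⟩ := locSurj_of_epi p W one
  refine ⟨S, hS, fun W' g hg => ?_⟩
  obtain ⟨z, hz⟩ := h g hg
  have h1 : xh.val.app (op W) one = x := by
    have := freeOnHomEquiv_naturality O W (𝟙 _) xh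
    rw [Category.id_comp, Equiv.apply_symm_apply] at this
    exact this.symm
  have e1 : (x₁ ≫ (ExtSupp.openSeq U M).f).val.app (op W') z = (p ≫ xh).val.app (op W') z := by
    rw [hfac]
  have e2 : (p ≫ xh).val.app (op W') z = M.val.map g.op x := by
    have hz' : p.val.app (op W') z = (ModSite.freeOn O W).val.map g.op one := hz
    have nat := PresheafOfModules.naturality_apply xh.val g.op one
    show xh.val.app (op W') (p.val.app (op W') z) = _
    rw [hz']
    refine nat.trans ?_
    exact congrArg (fun t => M.val.map g.op t) h1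
  have h2 : M.val.map g.op x =
      ((ModSite.extZeroAdj O U).counit.app M).val.app (op W') (x₁.val.app (op W') z) :=
    e2.symm.trans e1.symm
  rw [h2]
  exact (ulocal_extZero O U _ W' _).map _

section

variable [ModSite.HasPushOver O U]

lemma quotOn_sect_eq_zero (M : ModSite.Mod O) {W : C} (f : W ⟶ U)
    (x : ((ModSite.quotOn O U).obj M).val.obj (op W)) : x = 0 :=
  (ExtSupp.isNullOn_iff O U _).1 (ExtSupp.isNullOn_quotOn O U M) f x

lemma π_eq_zero_of_ulocal (M : ModSite.Mod O) {V : C} {y : M.val.obj (op V)}
    (hy : ULocal O U M V y) : ((ModSite.quotOnπ O U).app M).val.app (op V) y = 0 := by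
  obtain ⟨S, hS, h⟩ := hy
  refine sect_ext_of_sieve O _ S hS _ 0 (fun W g hg => ?_)
  rcases h g hg with h0 | h1
  · obtain ⟨f⟩ := h0
    exact (quotOn_sect_eq_zero M f _).trans (quotOn_sect_eq_zero M f _).symm
  · have := PresheafOfModules.naturality_apply ((ModSite.quotOnπ O U).app M).val g.op y
    refine this.symm.trans ?_
    have e1 := (congrArg (fun z : M.val.obj (op W) =>
      ((ModSite.quotOnπ O U).app M).val.app (op W) z) h1).trans (map_zero _)
    exact e1.trans (map_zero _).symm

lemma π_eq_zero_of_locally_ulocal (M : ModSite.Mod O) {V : C} {y : M.val.obj (op V)}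
    (S : Sieve V) (hS : S ∈ J V)
    (h : ∀ ⦃W : C⦄ (g : W ⟶ V), S g → ULocal O U M W (M.val.map g.op y)) :
    ((ModSite.quotOnπ O U).app M).val.app (op V) y = 0 := by
  refine sect_ext_of_sieve O _ S hS _ 0 (fun W g hg => ?_)
  have := PresheafOfModules.naturality_apply ((ModSite.quotOnπ O U).app M).val g.op y
  refine this.symm.trans ?_
  exact (π_eq_zero_of_ulocal M (h g hg)).trans (map_zero _).symm

/-- `M ↦ M/M_U` preserves monomorphisms (for any object `U`). -/
theorem mono_quotOn_map {M' M : ModSite.Mod O} (φ : M' ⟶ M) [Mono φ] :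
    Mono ((ModSite.quotOn O U).map φ) := by
  apply mono_of_injective
  intro V
  refine (injective_iff_map_eq_zero ((((ModSite.quotOn O U).map φ).val.app (op V)).hom)).2 ?_
  intro s hs
  obtain ⟨S1, hS1, h1⟩ := locSurj_of_epi ((ModSite.quotOnπ O U).app M') V s
  refine sect_ext_of_sieve O _ S1 hS1 _ 0 (fun W g hg => ?_)
  obtain ⟨t, ht⟩ := h1 g hg
  have ht' : ((ModSite.quotOnπ O U).app M').val.app (op W) t =
      ((ModSite.quotOn O U).obj M').val.map g.op s := ht
  have nat : φ ≫ (ModSite.quotOnπ O U).app M =
      (ModSite.quotOnπ O U).app M' ≫ (ModSite.quotOn O U).map φ :=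
    (ModSite.quotOnπ O U).naturality φ
  have e1 : ((ModSite.quotOnπ O U).app M).val.app (op W) (φ.val.app (op W) t) = 0 := by
    have a1 : (φ ≫ (ModSite.quotOnπ O U).app M).val.app (op W) t =
        ((ModSite.quotOnπ O U).app M' ≫ (ModSite.quotOn O U).map φ).val.app (op W) t := by
      rw [nat]
    refine a1.trans ?_
    show ((ModSite.quotOn O U).map φ).val.app (op W)
      (((ModSite.quotOnπ O U).app M').val.app (op W) t) = 0
    rw [ht']
    have a2 := PresheafOfModules.naturality_apply ((ModSite.quotOn O U).map φ).val g.op s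
    refine a2.trans ?_
    have a3 := congrArg (fun z => ((ModSite.quotOn O U).obj M).val.map g.op z) hs
    exact a3.trans (map_zero _)
  obtain ⟨S2, hS2, h2⟩ := locally_ulocal_of_π_eq_zero (U := U) M (φ.val.app (op W) t) e1
  have e2 : ((ModSite.quotOnπ O U).app M').val.app (op W) t = 0 := by
    refine π_eq_zero_of_locally_ulocal M' S2 hS2 (fun W' k hk => ?_)
    apply ULocal.of_injective φ (injective_of_mono φ)
    have a4 := PresheafOfModules.naturality_apply φ.val k.op t
    rw [a4]
    exact h2 k hk
  exact ht'.symm.trans (e2.trans (map_zero _).symm)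

instance preservesMonomorphisms_quotOn : (ModSite.quotOn O U).PreservesMonomorphisms where
  preserves φ _ := mono_quotOn_map φ

/-- `Γ_Z` preserves injective objects. -/
lemma injective_sectOn (I : ModSite.Mod O) [Injective I] : Injective ((ModSite.sectOn O U).obj I) :=
  Injective.injective_of_adjoint (QuotOnAdj.adj O U) I

end

end Groth.Agent.H31.QuotOnExact
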