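import Groth.Agent.H31.ExtZeroFaithful
import Groth.Agent.H31.QuotOnExact

namespace Groth.Agent.H31.ExtZeroUnit

open CategoryTheory Limits Opposite
open Groth.Agent.H45 Groth.Agent.H31.ExtZero

universe u
open scoped Classical

section General
variable {A B : Type*} [Category A] [Category B]

lemma homEquiv_leftAdjointUniq_hom_app_comp {F F' : A ⥤ B} {G : B ⥤ A} (adj1 : F ⊣ G) (adj2 : F' ⊣ G)
    (X : A) (Y : B) (ψ : F'.obj X ⟶ Y) :
    adj1.homEquiv X Y ((Adjunction.leftAdjointUniq adj1 adj2).hom.app X ≫ ψ) = adj2.homEquiv X Y ψ := by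
  rw [Adjunction.homEquiv_naturality_right, Adjunction.homEquiv_leftAdjointUniq_hom_app,
    Adjunction.homEquiv_unit]

end General

section Triple
variable {A B : Type*} [Category A] [Category B] {F : B ⥤ A} {G : A ⥤ B} {H : B ⥤ A}
  (adj1 : F ⊣ G) (adj2 : G ⊣ H)

/-- For an adjoint triple `F ⊣ G ⊣ H`, if the counit of `F ⊣ G` at `H G I` is mono and `I` is injective,
the unit `I ⟶ H G I` is a split epimorphism. -/
lemma isSplitEpi_unit_of_mono_counit (I : A) [Injective I]
    (hm : Mono (adj1.counit.app (H.obj (G.obj I)))) : IsSplitEpi (adj2.unit.app I) := by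
  let T : A := H.obj (G.obj I)
  let φb : G.obj T ⟶ G.obj I := adj2.counit.app (G.obj I)
  let a : F.obj (G.obj T) ⟶ I := F.map φb ≫ adj1.counit.app I
  let ψ : T ⟶ I := Injective.factorThru a (adj1.counit.app T)
  have hψ : adj1.counit.app T ≫ ψ = a := Injective.comp_factorThru a (adj1.counit.app T)
  have h1 : G.map ψ = φb := by
    have t1 : adj1.unit.app (G.obj T) ≫ G.map (adj1.counit.app T) = 𝟙 _ :=
      adj1.right_triangle_components T
    have t2 : adj1.unit.app (G.obj I) ≫ G.map (adj1.counit.app I) = 𝟙 _ :=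
      adj1.right_triangle_components I
    have nat : φb ≫ adj1.unit.app (G.obj I) = adj1.unit.app (G.obj T) ≫ G.map (F.map φb) :=
      adj1.unit.naturality φb
    calc G.map ψ = (adj1.unit.app (G.obj T) ≫ G.map (adj1.counit.app T)) ≫ G.map ψ := by
          rw [t1, Category.id_comp]
      _ = adj1.unit.app (G.obj T) ≫ G.map a := by
          rw [Category.assoc, ← G.map_comp, hψ]
      _ = (φb ≫ adj1.unit.app (G.obj I)) ≫ G.map (adj1.counit.app I) := by
          rw [nat, Category.assoc, ← G.map_comp]
      _ = φb := by rw [Category.assoc, t2]; exact Category.comp_id _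
  refine ⟨⟨ψ, ?_⟩⟩
  apply (adj2.homEquiv T (G.obj I)).symm.injective
  rw [Adjunction.homEquiv_counit, Adjunction.homEquiv_counit, G.map_comp, Category.assoc]
  have t3 : G.map (adj2.unit.app I) ≫ adj2.counit.app (G.obj I) = 𝟙 _ :=
    adj2.left_triangle_components I
  rw [t3, h1]
  refine (Category.comp_id _).trans ?_
  refine Eq.trans ?_ (congrArg (fun t => t ≫ adj2.counit.app (G.obj I)) (G.map_id _).symm)
  exact (Category.id_comp _).symm

end Triple

variable {C : Type u} [SmallCategory C] {J : GrothendieckTopology C} (O : Sheaf J CommRingCat.{u})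
  (U : C)

/-- presheaf level: the abstract pullback adjunction agrees with the explicit one -/
lemma preAdj_homEquiv (R : Cᵒᵖ ⥤ RingCat.{u}) (P : PresheafOfModules.{u} (ringOver R U))
    (T : PresheafOfModules.{u} R) (ψ : (extP R U).obj P ⟶ T) :
    (PresheafOfModules.pullbackPushforwardAdjunction.{u} (F := Over.forget U)
        (𝟙 (ringOver R U))).homEquiv P T ((extPIsoPullback R U).inv.app P ≫ ψ) =
      (adjP R U).homEquiv P T ψ := by
  have h := homEquiv_leftAdjointUniq_hom_app_comp ((adjP R U).ofNatIsoRight (resPIso R U))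
    (PresheafOfModules.pullbackPushforwardAdjunction.{u} (F := Over.forget U) (𝟙 (ringOver R U)))
    P T ((extPIsoPullback R U).inv.app P ≫ ψ)
  have h2 : (Adjunction.leftAdjointUniq ((adjP R U).ofNatIsoRight (resPIso R U))
      (PresheafOfModules.pullbackPushforwardAdjunction.{u} (F := Over.forget U)
        (𝟙 (ringOver R U)))).hom.app P ≫ (extPIsoPullback R U).inv.app P ≫ ψ = ψ := by
    change (extPIsoPullback R U).hom.app P ≫ (extPIsoPullback R U).inv.app P ≫ ψ = ψ
    rw [Iso.hom_inv_id_app_assoc]
  rw [h2] at h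
  rw [← h, Adjunction.homEquiv_ofNatIsoRight_apply]
  exact Category.comp_id _

/-- sheaf level -/
lemma homEquiv_val (G : ModSite.Mod (O.over U)) (T : ModSite.Mod O)
    (ψ : (extS U O).obj G ⟶ T) :
    ((ModSite.extZeroAdj O U).homEquiv G T ((extZeroIso U O).hom.app G ≫ ψ)).val =
      (adjP (ModSite.ringSh O).obj U).homEquiv G.val T.val
        ((shfAdj O).unit.app ((extP (ModSite.ringSh O).obj U).obj G.val) ≫ ψ.val) := by
  have e1 : (extZeroIso U O).hom.app G ≫ ψ =
      (Adjunction.leftAdjointUniq
        (SheafOfModules.pullbackPushforwardAdjunction.{u} (𝟙 ((ModSite.ringSh O).over U)))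
        (SheafOfModules.PullbackConstruction.adjunction.{u} (𝟙 ((ModSite.ringSh O).over U)))).hom.app G ≫
        ((ModSite.sheafify O).map ((extPIsoPullback (ModSite.ringSh O).obj U).inv.app G.val) ≫ ψ) := by
    rw [← Category.assoc]
    rfl
  rw [e1]
  have h := homEquiv_leftAdjointUniq_hom_app_comp
    (SheafOfModules.pullbackPushforwardAdjunction.{u} (𝟙 ((ModSite.ringSh O).over U)))
    (SheafOfModules.PullbackConstruction.adjunction.{u} (𝟙 ((ModSite.ringSh O).over U))) G T
    ((ModSite.sheafify O).map ((extPIsoPullback (ModSite.ringSh O).obj U).inv.app G.val) ≫ ψ)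
  refine (congrArg (fun t => t.val) h).trans ?_
  rw [SheafOfModules.PullbackConstruction.adjunction, Adjunction.mkOfHomEquiv_homEquiv]
  change (SheafOfModules.forget ((ModSite.ringSh O).over U)).map
    ((SheafOfModules.fullyFaithfulForget ((ModSite.ringSh O).over U)).preimage (X := G)
      (Y := (SheafOfModules.pushforward.{u} (𝟙 ((ModSite.ringSh O).over U))).obj T)
      ((PresheafOfModules.pullbackPushforwardAdjunction.{u} (F := Over.forget U)
        (𝟙 (ringOver (ModSite.ringSh O).obj U))).homEquiv G.val T.val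
        ((PresheafOfModules.sheafificationAdjunction (𝟙 (ModSite.ringSh O).obj)).homEquiv
          ((PresheafOfModules.pullback.{u} (F := Over.forget U) (𝟙 (ringOver (ModSite.ringSh O).obj U))).obj
            ((SheafOfModules.forget ((ModSite.ringSh O).over U)).obj G)) T
          ((ModSite.sheafify O).map ((extPIsoPullback (ModSite.ringSh O).obj U).inv.app G.val) ≫ ψ)))) = _
  refine ((SheafOfModules.fullyFaithfulForget ((ModSite.ringSh O).over U)).map_preimage _).trans ?_
  have h3 : (PresheafOfModules.sheafificationAdjunction (𝟙 (ModSite.ringSh O).obj)).homEquiv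
      ((PresheafOfModules.pullback.{u} (F := Over.forget U) (𝟙 (ringOver (ModSite.ringSh O).obj U))).obj
        ((SheafOfModules.forget ((ModSite.ringSh O).over U)).obj G)) T
      ((ModSite.sheafify O).map ((extPIsoPullback (ModSite.ringSh O).obj U).inv.app G.val) ≫ ψ) =
      (extPIsoPullback (ModSite.ringSh O).obj U).inv.app G.val ≫
        ((shfAdj O).unit.app ((extP (ModSite.ringSh O).obj U).obj G.val) ≫ ψ.val) := by
    refine ((PresheafOfModules.sheafificationAdjunction
      (𝟙 (ModSite.ringSh O).obj)).homEquiv_naturality_left _ _).trans ?_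
    congr 1
  refine (congrArg (fun t => (PresheafOfModules.pullbackPushforwardAdjunction.{u} (F := Over.forget U)
        (𝟙 (ringOver (ModSite.ringSh O).obj U))).homEquiv G.val T.val t) h3).trans ?_
  exact preAdj_homEquiv U (ModSite.ringSh O).obj G.val T.val _


/-- sections form of `homEquiv_val` -/
lemma homEquiv_app (G : ModSite.Mod (O.over U)) (T : ModSite.Mod O)
    (ψ : (extS U O).obj G ⟶ T) (W : C) (φ : W ⟶ U) (z : G.val.obj (op (Over.mk φ))) :
    ((ModSite.extZeroAdj O U).homEquiv G T ((extZeroIso U O).hom.app G ≫ ψ)).val.app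
        (op (Over.mk φ)) z =
      ψ.val.app (op W) (((shfAdj O).unit.app ((extP (ModSite.ringSh O).obj U).obj G.val)).app (op W)
        (inc (R := (ModSite.ringSh O).obj) (U := U) G.val W φ z)) := by
  rw [homEquiv_val]
  rfl

/-- explicit formula for the unit of `j_! ⊣ j^*`. -/
lemma unit_app (G : ModSite.Mod (O.over U)) (W : C) (φ : W ⟶ U) (z : G.val.obj (op (Over.mk φ))) :
    ((extZeroIso U O).hom.app G).val.app (op W)
        (((ModSite.extZeroAdj O U).unit.app G).val.app (op (Over.mk φ)) z) =
      ((shfAdj O).unit.app ((extP (ModSite.ringSh O).obj U).obj G.val)).app (op W)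
        (inc (R := (ModSite.ringSh O).obj) (U := U) G.val W φ z) := by
  have h := homEquiv_app O U G _ (𝟙 _) W φ z
  rw [Category.comp_id, Adjunction.homEquiv_unit] at h
  exact h


variable {O U}

/-- injectivity of the components of `extZeroIso`. -/
lemma extZeroIso_hom_injective (G : ModSite.Mod (O.over U)) (W : C) :
    Function.Injective (((extZeroIso U O).hom.app G).val.app (op W)) := by
  intro a b hab
  have e : ((extZeroIso U O).hom.app G ≫ (extZeroIso U O).inv.app G) = 𝟙 _ :=
    (extZeroIso U O).hom_inv_id_app G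
  have e' : ∀ r, ((extZeroIso U O).inv.app G).val.app (op W)
      (((extZeroIso U O).hom.app G).val.app (op W) r) = r := fun r =>
    congrArg (fun t : (ModSite.extZero O U).obj G ⟶ (ModSite.extZero O U).obj G =>
      t.val.app (op W) r) e
  rw [← e' a, ← e' b, hab]

/-- For subterminal `U`, the unit `G ⟶ (j_! G)|_U` is locally surjective. -/
lemma unit_locSurj (hU : ∀ V : C, Subsingleton (V ⟶ U)) (G : ModSite.Mod (O.over U)) (W : C)
    (f : W ⟶ U) (y : ((ModSite.extZero O U).obj G).val.obj (op W)) :
    ∃ S ∈ J W, ∀ ⦃W' : C⦄ (g : W' ⟶ W), S g →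
      ∃ z : G.val.obj (op (Over.mk (g ≫ f))),
        ((ModSite.extZeroAdj O U).unit.app G).val.app (op (Over.mk (g ≫ f))) z =
          ((ModSite.extZero O U).obj G).val.map g.op y := by
  let P : PMod O := (extP (ModSite.ringSh O).obj U).obj
    ((SheafOfModules.forget (ModSite.ringSh (O.over U))).obj G)
  obtain ⟨S, hS, h⟩ := locSurj_unit O P W (((extZeroIso U O).hom.app G).val.app (op W) y)
  refine ⟨S, hS, fun W' g hg => ?_⟩
  obtain ⟨p, hp⟩ := h g hg
  have := hU W'
  have hp' : p = inc (R := (ModSite.ringSh O).obj) (U := U) G.val W' (g ≫ f)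
      ((show sec (R := (ModSite.ringSh O).obj) (U := U) G.val W' from p) (g ≫ f)) := by
    apply DFinsupp.ext
    intro i
    obtain rfl := Subsingleton.elim i (g ≫ f)
    exact (DirectSum.lof_apply ((ModSite.ringSh O).obj.obj (op W')) (ι := W' ⟶ U)
      (M := fun φ => summand (R := (ModSite.ringSh O).obj) (U := U) G.val W' φ) (g ≫ f) _).symm
  refine ⟨(show sec (R := (ModSite.ringSh O).obj) (U := U) G.val W' from p) (g ≫ f), ?_⟩
  apply extZeroIso_hom_injective G W'
  rw [unit_app]
  rw [← hp'] 
  refine hp.trans ?_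
  exact (PresheafOfModules.naturality_apply ((extZeroIso U O).hom.app G).val g.op y).symm


/-- For subterminal `U`, the counit `j_! j^* T ⟶ T` is a monomorphism. -/
theorem mono_counit (hU : ∀ V : C, Subsingleton (V ⟶ U)) (T : ModSite.Mod O) :
    Mono ((ModSite.extZeroAdj O U).counit.app T) := by
  apply QuotOnExact.mono_of_injective
  intro V
  refine (injective_iff_map_eq_zero
    ((((ModSite.extZeroAdj O U).counit.app T).val.app (op V)).hom)).2 ?_
  intro x hx
  obtain ⟨S, hS, h⟩ := QuotOnExact.ulocal_extZero O U ((ModSite.restr O U).obj T) V x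
  refine sect_ext_of_sieve O _ S hS _ 0 (fun W g hg => ?_)
  refine Eq.trans ?_ (map_zero _).symm
  rcases h g hg with h0 | h1
  · obtain ⟨f⟩ := h0
    have hy : ((ModSite.extZeroAdj O U).counit.app T).val.app (op W)
        (((ModSite.extZero O U).obj ((ModSite.restr O U).obj T)).val.map g.op x) = 0 := by
      refine (PresheafOfModules.naturality_apply
        ((ModSite.extZeroAdj O U).counit.app T).val g.op x).trans ?_
      exact (congrArg (fun t => T.val.map g.op t) hx).trans (map_zero _)
    obtain ⟨S', hS', h'⟩ := unit_locSurj hU ((ModSite.restr O U).obj T) W f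
      (((ModSite.extZero O U).obj ((ModSite.restr O U).obj T)).val.map g.op x)
    refine sect_ext_of_sieve O _ S' hS' _ 0 (fun W' g' hg' => ?_)
    refine Eq.trans ?_ (map_zero _).symm
    obtain ⟨z, hz⟩ := h' g' hg'
    have tri := (ModSite.extZeroAdj O U).right_triangle_components T
    have hz1 : ((ModSite.extZeroAdj O U).counit.app T).val.app (op W')
        (((ModSite.extZeroAdj O U).unit.app ((ModSite.restr O U).obj T)).val.app
          (op (Over.mk (g' ≫ f))) z) = z :=
      congrArg (fun t : (ModSite.restr O U).obj T ⟶ (ModSite.restr O U).obj T =>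
        t.val.app (op (Over.mk (g' ≫ f))) z) tri
    have hz0 : z = 0 := by
      rw [← hz1, hz]
      refine (PresheafOfModules.naturality_apply
        ((ModSite.extZeroAdj O U).counit.app T).val g'.op _).trans ?_
      exact (congrArg (fun t => T.val.map g'.op t) hy).trans (map_zero _)
    refine hz.symm.trans ?_
    rw [hz0]
    exact map_zero _
  · exact h1

end Groth.Agent.H31.ExtZeroUnit
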