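import Groth.Agent.H31.ModExt

namespace Groth.Agent.H31.ModH

open CategoryTheory Abelian Limits Opposite
open Groth.Agent.H31.SieveExt Groth.Agent.H31.LocTriv Groth.Agent.H31.SectExact
  Groth.Agent.H31.ModAcyc

universe u

section general

variable {A : Type*} [Category A] [Abelian A] [HasExt A]

/-- `Ext` is invariant under isomorphisms in the first variable. -/
noncomputable def extAddEquivOfIso {X X' : A} (e : X ≅ X') (M : A) (n : ℕ) :
    Ext X M n ≃+ Ext X' M n where
  toFun x := (Ext.mk₀ e.inv).comp x (zero_add n)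
  invFun x := (Ext.mk₀ e.hom).comp x (zero_add n)
  left_inv x := by
    show (Ext.mk₀ e.hom).comp ((Ext.mk₀ e.inv).comp x (zero_add n)) (zero_add n) = x
    rw [Ext.mk₀_comp_mk₀_assoc, e.hom_inv_id, Ext.mk₀_id_comp]
  right_inv x := by
    show (Ext.mk₀ e.inv).comp ((Ext.mk₀ e.hom).comp x (zero_add n)) (zero_add n) = x
    rw [Ext.mk₀_comp_mk₀_assoc, e.inv_hom_id, Ext.mk₀_id_comp]
  map_add' x y := Ext.comp_add _ _ _ _

end general

variable {C : Type u} [SmallCategory C] (J : GrothendieckTopology C)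

/-- the terminal sheaf of sets, as a constant presheaf. -/
noncomputable def T0 : Sheaf J (Type u) :=
  ⟨(Functor.const Cᵒᵖ).obj PUnit.{u + 1}, Presheaf.isSheaf_of_isTerminal J Types.isTerminalPUnit⟩

/-- `ℤ[pt]^# ≅ ℤ` (the constant sheaf). -/
noncomputable def ZsT0Iso : Zs J (T0 J).obj ≅
    (constantSheaf J AddCommGrpCat.{u}).obj (AddCommGrpCat.of (ULift.{u} ℤ)) :=
  (presheafToSheaf J AddCommGrpCat.{u}).mapIso
    (Functor.constComp Cᵒᵖ PUnit.{u + 1} AddCommGrpCat.free.{u} ≪≫
      (Functor.const Cᵒᵖ).mapIso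
        (((FreeAbelianGroup.uniqueEquiv PUnit.{u + 1}).trans
          AddEquiv.ulift.symm).toAddCommGrpIso))

variable {J} (R : Sheaf J RingCat.{u})

/-- `Hom(R, M) ≃ Hom(ℤ[pt]^#, M_ab)`. -/
noncomputable def phi (M : SheafOfModules.{u} R) :
    (SheafOfModules.unit R ⟶ M) ≃ (Zs J (T0 J).obj ⟶ (SheafOfModules.toSheaf R).obj M) :=
  M.unitHomEquiv.trans
    (((M.val.presheaf ⋙ forget Ab).sectionsEquivHom PUnit.{u + 1}).trans
      (homEquiv J (T0 J).obj ((SheafOfModules.toSheaf R).obj M)).symm)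

lemma phi_naturality {M M' : SheafOfModules.{u} R} (g : M ⟶ M') (x : SheafOfModules.unit R ⟶ M) :
    phi R M' (x ≫ g) = phi R M x ≫ (SheafOfModules.toSheaf R).map g := by
  apply (homEquiv J (T0 J).obj ((SheafOfModules.toSheaf R).obj M')).injective
  rw [homEquiv_naturality]
  show homEquiv J (T0 J).obj ((SheafOfModules.toSheaf R).obj M')
      ((homEquiv J (T0 J).obj ((SheafOfModules.toSheaf R).obj M')).symm
        (((M'.val.presheaf ⋙ forget Ab).sectionsEquivHom PUnit.{u + 1})
          (M'.unitHomEquiv (x ≫ g)))) =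
    homEquiv J (T0 J).obj ((SheafOfModules.toSheaf R).obj M)
      ((homEquiv J (T0 J).obj ((SheafOfModules.toSheaf R).obj M)).symm
        (((M.val.presheaf ⋙ forget Ab).sectionsEquivHom PUnit.{u + 1})
          (M.unitHomEquiv x))) ≫ _
  rw [Equiv.apply_symm_apply, Equiv.apply_symm_apply]
  rfl

/-- the universal map. -/
noncomputable def c0 : Zs J (T0 J).obj ⟶ (SheafOfModules.toSheaf R).obj (SheafOfModules.unit R) :=
  phi R _ (𝟙 _)

lemma phi_eq (M : SheafOfModules.{u} R) (x : SheafOfModules.unit R ⟶ M) :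
    phi R M x = c0 R ≫ (SheafOfModules.toSheaf R).map x := by
  rw [c0, ← phi_naturality, Category.id_comp]

/-- additive version. -/
noncomputable def phiAdd (M : SheafOfModules.{u} R) :
    (SheafOfModules.unit R ⟶ M) ≃+ (Zs J (T0 J).obj ⟶ (SheafOfModules.toSheaf R).obj M) :=
  { phi R M with
    map_add' := fun x x' => by
      show phi R M (x + x') = phi R M x + phi R M x'
      rw [phi_eq, phi_eq, phi_eq, Functor.map_add, Preadditive.comp_add] }

theorem nonempty_ext_unit_addEquiv [HasExt.{u} (SheafOfModules.{u} R)]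
    (M : SheafOfModules.{u} R) (n : ℕ) :
    Nonempty (Ext (SheafOfModules.unit R) M n ≃+
      Sheaf.H.{u} ((SheafOfModules.toSheaf R).obj M) n) := by
  have := ModExt.enoughInjectives R
  have : PreservesFiniteColimits (SheafOfModules.toSheaf.{u} R) :=
    (Groth.Agent.H31.toSheaf_preservesColimits R).preservesFiniteColimits
  obtain ⟨e⟩ := DeltaComp.nonempty_addEquiv (SheafOfModules.toSheaf R) (SheafOfModules.unit R)
    (Zs J (T0 J).obj) (fun M => phiAdd R M) (fun {M M'} g x => phi_naturality R g x)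
    (fun I hI n => totallyAcyclic_of_injective R I (T0 J) n) n M
  exact ⟨e.trans (extAddEquivOfIso (ZsT0Iso J) _ n)⟩

end Groth.Agent.H31.ModH
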