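import Groth.Agent.H31.QuotOnRestr2
import Groth.Agent.H31.ExtZeroUnit
import Groth.Agent.H31.ModH

namespace Groth.Agent.H31.ExtExcision

open CategoryTheory Abelian Limits Opposite
open Groth.Agent.H30 Groth.Agent.H45 Groth.Agent.H31.ExtZero Groth.Agent.H31.QuotOnTensor
open Groth.Agent.H31.RestrExact

universe w' w u

variable {C : Type u} [SmallCategory C] {J : GrothendieckTopology C}
  (O : Sheaf J CommRingCat.{u})

/-- `Ext^i_O(j_! G, N) ≃+ Ext^i_{O|V}(G, N|_V)`. -/
theorem nonempty_ext_extZero_addEquiv (V : C) [HasExt.{w} (ModSite.Mod O)]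
    [HasExt.{w'} (ModSite.Mod (O.over V))] (G : ModSite.Mod (O.over V)) (N : ModSite.Mod O) (i : ℕ) :
    Nonempty (Abelian.Ext.{w} ((ModSite.extZero O V).obj G) N i ≃+
      Abelian.Ext.{w'} G ((ModSite.restr O V).obj N) i) := by
  have e1 := ModExt.enoughInjectives (ModSite.ringSh O)
  have e2 := ModExt.enoughInjectives (ModSite.ringSh (O.over V))
  have h1 : HasExt.{u} (ModSite.Mod O) := hasExt_of_enoughInjectives.{u} _
  have h2 : HasExt.{u} (ModSite.Mod (O.over V)) := hasExt_of_enoughInjectives.{u} _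
  have := preservesFiniteLimits_restr O V
  have := preservesFiniteColimits_restr O V
  obtain ⟨e⟩ := DeltaComp.nonempty_addEquiv (ModSite.restr O V) ((ModSite.extZero O V).obj G) G
    (fun N' => (ModSite.extZeroAdj O V).homAddEquiv G N')
    (fun {_ _} g x => (ModSite.extZeroAdj O V).homEquiv_naturality_right x g)
    (fun I hI n => by
      have : Injective ((ModSite.restr O V).obj I) :=
        Injective.injective_of_adjoint (ModSite.extZeroAdj O V) I
      exact subsingleton_of_forall_eq 0 (fun x => Ext.eq_zero_of_injective x)) i N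
  exact ⟨(chgUnivAdd.{w, u} _ _ i).trans (e.trans (chgUnivAdd.{u, w'} _ _ i))⟩


variable {O}

/-- a module which is null on `U` and on `V` is zero when `U` and `V` cover the site. -/
theorem isZero_of_isNullOn_of_coversTop {U V : C}
    (hUV : J.CoversTop (fun b : Bool => cond b U V)) (F : ModSite.Mod O)
    (hU : ModSite.IsNullOn O U F) (hV : ModSite.IsNullOn O V F) : IsZero F := by
  rw [IsZero.iff_id_eq_zero]
  apply SheafOfModules.hom_ext
  apply PresheafOfModules.hom_ext
  intro W
  apply ModuleCat.hom_ext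
  apply LinearMap.ext
  intro (x : F.val.obj (op W.unop))
  show x = 0
  refine sect_ext_of_sieve O F _ (hUV W.unop) _ 0 (fun W' g hg => ?_)
  obtain ⟨b, ⟨f⟩⟩ := hg
  cases b
  · exact ((ExtSupp.isNullOn_iff O V F).1 hV f _).trans ((ExtSupp.isNullOn_iff O V F).1 hV f _).symm
  · exact ((ExtSupp.isNullOn_iff O U F).1 hU f _).trans ((ExtSupp.isNullOn_iff O U F).1 hU f _).symm

/-- quotients of modules null on `V` are null on `V`. -/
theorem isNullOn_of_epi {V : C} {F F' : ModSite.Mod O} (p : F ⟶ F') [Epi p]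
    (h : ModSite.IsNullOn O V F) : ModSite.IsNullOn O V F' := by
  have := epi_restr_map O V p
  exact IsZero.of_epi ((ModSite.restr O V).map p) h


variable [HasBinaryProducts C]

/-- for `V` subterminal and `U`, `V` covering: `(M_V)/(M_V)_U ⟶ M/M_U` is an isomorphism. -/
theorem isIso_quotOn_map_counit {U V : C} (hV : ∀ X : C, Subsingleton (X ⟶ V))
    (hUV : J.CoversTop (fun b : Bool => cond b U V)) (M : ModSite.Mod O) :
    IsIso ((ModSite.quotOn O U).map ((ModSite.extZeroAdj O V).counit.app M)) := by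
  have := ExtZeroUnit.mono_counit hV M
  have hm : Mono ((ModSite.quotOn O U).map ((ModSite.extZeroAdj O V).counit.app M)) :=
    QuotOnExact.mono_quotOn_map _
  have he : Epi ((ModSite.quotOn O U).map ((ModSite.extZeroAdj O V).counit.app M)) := by
    apply Preadditive.epi_of_isZero_cokernel
    have : PreservesColimitsOfSize.{0, 0} (ModSite.quotOn O U) :=
      (QuotOnAdj.adj O U).leftAdjoint_preservesColimits
    have : (ModSite.quotOn O U).Additive := (QuotOnAdj.adj O U).left_adjoint_additive
    refine IsZero.of_iso ?_ (PreservesCokernel.iso (ModSite.quotOn O U)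
      ((ModSite.extZeroAdj O V).counit.app M)).symm
    show IsZero ((ModSite.quotOn O U).obj ((ModSite.quotOn O V).obj M))
    exact isZero_of_isNullOn_of_coversTop hUV _ (QuotOnRestr.isNullOn_quotOn' O U _)
      (isNullOn_of_epi ((ModSite.quotOnπ O U).app _) (QuotOnRestr.isNullOn_quotOn' O V M))
  exact isIso_of_mono_of_epi _

/-- Excision: `Ext^i_Z(M, N) ≃+ Ext^i_{Z∩V}(V; M|_V, N|_V)` for `V` subterminal, `U`, `V` covering. -/
theorem nonempty_extZ_addEquiv_extZover [HasExt.{w} (ModSite.Mod O)] (U V : C)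
    [HasExt.{w'} (ModSite.Mod (O.over V))]
    (hV : ∀ X : C, Subsingleton (X ⟶ V)) (hUV : J.CoversTop (fun b : Bool => cond b U V))
    (M N : ModSite.Mod O) (i : ℕ) :
    Nonempty (ExtSupp.ExtZ U M N i ≃+
      ExtSupp.ExtZover V (Over.mk (prod.snd : U ⨯ V ⟶ V)) M N i) := by
  obtain ⟨e1⟩ := nonempty_ext_extZero_addEquiv.{w', w} O V
    ((ModSite.quotOn (O.over V) (Over.mk (prod.snd : U ⨯ V ⟶ V))).obj ((ModSite.restr O V).obj M))
    N i
  have := isIso_quotOn_map_counit hV hUV M
  let e2 := ModH.extAddEquivOfIso (QuotOnRestr.thetaApp' O U V ((ModSite.restr O V).obj M)) N i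
  let e3 := ModH.extAddEquivOfIso
    (asIso ((ModSite.quotOn O U).map ((ModSite.extZeroAdj O V).counit.app M))) N i
  exact ⟨(e1.symm.trans (e2.trans e3)).symm⟩

end Groth.Agent.H31.ExtExcision
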