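import Groth.Agent.H31.QuotOnExact
import Groth.Agent.H31.DeltaComp
import Groth.Agent.H31.ModExt

namespace Groth.Agent.H31.RestrExact

open CategoryTheory Abelian Limits Opposite
open Groth.Agent.H45 Groth.Agent.H31.ExtZero

universe w w' u

variable {C : Type u} [SmallCategory C] {J : GrothendieckTopology C}
  (O : Sheaf J CommRingCat.{u}) (U : C)

variable {O} in
/-- locally surjective morphisms of sheaves of modules are epimorphisms. -/
lemma epi_of_locSurj {A B : ModSite.Mod O} (p : A ⟶ B) (h : LocSurj J ((forg O).map p)) : Epi p := by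
  rw [← isLocallySurjective_iff_locSurj] at h
  have h1 : Epi ((SheafOfModules.toSheaf (ModSite.ringSh O)).map p) :=
    (Sheaf.isLocallySurjective_iff_epi' _
      ((SheafOfModules.toSheaf (ModSite.ringSh O)).map p)).1 h
  exact (SheafOfModules.toSheaf (ModSite.ringSh O)).epi_of_epi_map h1

/-- restriction to `C/U` preserves epimorphisms. -/
lemma epi_restr_map {A B : ModSite.Mod O} (p : A ⟶ B) [Epi p] :
    Epi ((ModSite.restr O U).map p) := by
  apply epi_of_locSurj
  exact locSurj_resC U _ (QuotOnExact.locSurj_of_epi p)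

/-- restriction to `C/U` is exact (no hypothesis on the site). -/
theorem preservesFiniteLimits_restr : PreservesFiniteLimits (ModSite.restr O U) := by
  have : PreservesLimitsOfSize.{0, 0} (ModSite.restr O U) :=
    (ModSite.extZeroAdj O U).rightAdjoint_preservesLimits
  exact PreservesLimitsOfSize.preservesFiniteLimits _

theorem preservesFiniteColimits_restr : PreservesFiniteColimits (ModSite.restr O U) := by
  have hl := preservesFiniteLimits_restr O U
  rw [Functor.preservesFiniteColimits_iff_forall_exact_map_and_epi]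
  intro S hS
  have := hS.epi_g
  exact ⟨((Functor.preservesFiniteLimits_iff_forall_exact_map_and_mono _).1 hl S hS).1,
    epi_restr_map O U S.g⟩

section chg

variable {A : Type*} [Category A] [Abelian A] [HasExt.{w} A] [HasExt.{w'} A]

/-- change of universe for `Ext`, additively. -/
noncomputable def chgUnivAdd (X Y : A) (n : ℕ) : Ext.{w} X Y n ≃+ Ext.{w'} X Y n :=
  { Ext.chgUniv.{w', w} with
    map_add' := fun x y => by
      let _ := HasDerivedCategory.standard A
      apply (Ext.homAddEquiv (X := X) (Y := Y) (n := n)).injective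
      rw [map_add]
      have h : ∀ z : Ext.{w} X Y n, Ext.homAddEquiv (Ext.chgUniv.{w', w} z) = Ext.homAddEquiv z :=
        fun z => Ext.homEquiv_chgUniv z
      show Ext.homAddEquiv (Ext.chgUniv.{w', w} (x + y)) =
        Ext.homAddEquiv (Ext.chgUniv.{w', w} x) + Ext.homAddEquiv (Ext.chgUniv.{w', w} y)
      rw [h, h, h, map_add] }

end chg

/-- `Ext^i(j_! j^* M, N) ≃+ Ext^i(j^* M, j^* N)`. -/
theorem nonempty_ext_openMod_addEquiv [HasExt.{w} (ModSite.Mod O)]
    [HasExt.{w'} (ModSite.Mod (O.over U))] (M N : ModSite.Mod O) (i : ℕ) :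
    Nonempty (Abelian.Ext.{w} (ExtSupp.openMod U M) N i ≃+
      Abelian.Ext.{w'} ((ModSite.restr O U).obj M) ((ModSite.restr O U).obj N) i) := by
  have e1 := ModExt.enoughInjectives (ModSite.ringSh O)
  have e2 := ModExt.enoughInjectives (ModSite.ringSh (O.over U))
  have h1 : HasExt.{u} (ModSite.Mod O) := hasExt_of_enoughInjectives.{u} _
  have h2 : HasExt.{u} (ModSite.Mod (O.over U)) := hasExt_of_enoughInjectives.{u} _
  have := preservesFiniteLimits_restr O U
  have := preservesFiniteColimits_restr O U
  obtain ⟨e⟩ := DeltaComp.nonempty_addEquiv (ModSite.restr O U) (ExtSupp.openMod U M)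
    ((ModSite.restr O U).obj M)
    (fun N' => (ModSite.extZeroAdj O U).homAddEquiv ((ModSite.restr O U).obj M) N')
    (fun {_ _} g x => (ModSite.extZeroAdj O U).homEquiv_naturality_right x g)
    (fun I hI n => by
      have : Injective ((ModSite.restr O U).obj I) :=
        Injective.injective_of_adjoint (ModSite.extZeroAdj O U) I
      exact subsingleton_of_forall_eq 0 (fun x => Ext.eq_zero_of_injective x)) i N
  exact ⟨(chgUnivAdd.{w, u} _ _ i).trans (e.trans (chgUnivAdd.{u, w'} _ _ i))⟩

end Groth.Agent.H31.RestrExact
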