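import Groth.Agent.H31.PostDerived
import Groth.Agent.H31.RestrExact
import Groth.Agent.H31.ExtZeroProj
import Groth.Agent.H30.DerivedComp
import Groth.Agent.H30.GrothSSExt
import Groth.Prelude.Def_ModSite2

namespace Groth.Agent.H31.ExtShRestr

open CategoryTheory Abelian Limits Opposite
open Groth.Agent.H30 Groth.Agent.H31.ExtZero

universe u

variable {C : Type u} [SmallCategory C] {J : GrothendieckTopology C}
  (O : Sheaf J CommRingCat.{u}) (X : C) (M : ModSite.Mod O)
  [ModSite.HasSheafHom M] [ModSite.HasSheafHom ((ModSite.restr O X).obj M)]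

/-- `ℋom(M, -)|_X ≅ ℋom(M|_X, (-)|_X)`, naturally. -/
noncomputable def sheafHomRestrIso :
    ModSite.sheafHom M ⋙ ModSite.restr O X ≅
      ModSite.restr O X ⋙ ModSite.sheafHom ((ModSite.restr O X).obj M) :=
  (((ModSite.extZeroAdj O X).comp (ModSite.sheafHomAdj M)).ofNatIsoLeft
    (projF O X M).symm).rightAdjointUniq
      ((ModSite.sheafHomAdj ((ModSite.restr O X).obj M)).comp (ModSite.extZeroAdj O X))

variable [HasInjectiveResolutions (ModSite.Mod O)]
  [HasInjectiveResolutions (ModSite.Mod (O.over X))]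

/-- `ℰxt^q(M, -)|_X ≅ ℰxt^q(M|_X, (-)|_X)`. -/
noncomputable def extShRestrIso (q : ℕ) :
    ModSite.extSh M q ⋙ ModSite.restr O X ≅
      ModSite.restr O X ⋙ ModSite.extSh ((ModSite.restr O X).obj M) q :=
  haveI := RestrExact.preservesFiniteLimits_restr O X
  haveI := RestrExact.preservesFiniteColimits_restr O X
  (PostDerived.rightDerivedPostIso (ModSite.sheafHom M) (ModSite.restr O X) q).symm ≪≫
    GrothSSExt.rightDerivedIsoOfIso (sheafHomRestrIso O X M) q ≪≫
    DerivedComp.rightDerivedCompIso (ModSite.restr O X)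
      (fun Q _ => Injective.injective_of_adjoint (ModSite.extZeroAdj O X) Q)
      (ModSite.sheafHom ((ModSite.restr O X).obj M)) q

end Groth.Agent.H31.ExtShRestr
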