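import Groth.Agent.H31.ExtCanonSch
import Groth.Agent.H86.Serre.Main
import Groth.Agent.H18.TwistPow

/-!
# `Ext^i(O(a), O(b)) ≃ₗ[R] H^i(P^n_R, O(b - a))`; piece (E) of the Serre duality chain
-/

set_option autoImplicit false
open CategoryTheory Limits Opposite Abelian AlgebraicGeometry
universe u

namespace Groth.Agent.H31.ExtTwist

open CohB1 Twist

variable (R : Type u) [CommRing R] (n : ℕ)

/-- `O(-a) ⊗ O(a) ≅ O` on projective space -/
theorem nonempty_twist_neg_tensor_iso (a : ℤ) :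
    Nonempty (CohB1.tensorMod (twistProjSpace n R (-a)) (twistProjSpace n R a) ≅
      Coh.structureModule (ProjSpace n R)) := by
  obtain ⟨e⟩ := Groth.Agent.H86.Serre.nonempty_twistBy_twist_iso n R (-a) a
  obtain ⟨e0⟩ := Groth.Agent.H18.nonempty_twist_zero_iso (CohB1.polyGrading n R)
  have h : -a + a = 0 := by omega
  rw [h] at e
  exact ⟨e ≪≫ e0⟩

variable [HasExt.{u} (ProjSpace n R).Modules]

/-- **`Ext^i(O(a), O(b)) ≃ₗ[R] H^i(P^n_R, O(b - a))`** -/
theorem nonempty_ext_twist_linearEquiv (a b : ℤ) (i : ℕ) :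
    Nonempty (Abelian.Ext (twistProjSpace n R a) (twistProjSpace n R b) i ≃ₗ[R]
      Coh.HH (ProjSpace n R) (twistProjSpace n R (b - a)) i) := by
  obtain ⟨e⟩ := nonempty_twist_neg_tensor_iso R n a
  obtain ⟨e1⟩ := ExtCanonSch.nonempty_ext_linearEquiv_HH_of_inv (ProjSpace n R) R e
    (twistProjSpace n R b) i
  obtain ⟨e2⟩ := Groth.Agent.H86.Serre.nonempty_twistBy_twist_iso n R b (-a)
  have h : b + -a = b - a := by omega
  rw [h] at e2
  exact ⟨e1.trans (ExtCanonSch.HHlinEquiv (ProjSpace n R) R e2 i)⟩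

/-- **(E)** `Ext^i(O(a), O(b)) = 0` as soon as `H^i(P^n_R, O(b - a)) = 0`. -/
theorem subsingleton_ext_twist (a b : ℤ) (i : ℕ)
    (h : Subsingleton (Coh.HH (ProjSpace n R) (twistProjSpace n R (b - a)) i)) :
    Subsingleton (Abelian.Ext (twistProjSpace n R a) (twistProjSpace n R b) i) := by
  obtain ⟨e⟩ := nonempty_ext_twist_linearEquiv R n a b i
  exact e.toEquiv.subsingleton

end Groth.Agent.H31.ExtTwist
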