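import Groth.Agent.H31.QuotOnTensor2
import Groth.Agent.H31.DualLF2
import Groth.Agent.H31.CohExt1
import Groth.Agent.H30.QCohLoc

/-!
# Local Ext sheaves with supports of a module supported in the closed set
-/

set_option autoImplicit false
set_option linter.unusedSectionVars false
set_option linter.style.haveILetI false
open CategoryTheory Limits Opposite AlgebraicGeometry
universe u

namespace Groth.Agent.H31.ExtZCoh

section Site

open Groth.Agent.H31.DualLF Groth.Agent.H31.QuotOnTensor

variable {C : Type u} [SmallCategory C] {J : GrothendieckTopology C}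
  (O : Sheaf J CommRingCat.{u}) (U : C)

lemma isIso_cokernel_π_of_eq_zero {A : Type*} [Category A] [Abelian A] {X Y : A} (f : X ⟶ Y)
    (h : f = 0) : IsIso (cokernel.π f) := by
  subst h
  infer_instance

/-- if `F|_U = 0` then `F ⟶ F/F_U` is an isomorphism -/
lemma isIso_quotOnπ_app (F : ModSite.Mod O) (h : IsZero ((ModSite.restr O U).obj F)) :
    IsIso ((ModSite.quotOnπ O U).app F) := by
  have h1 : IsZero ((ModSite.extZero O U).obj ((ModSite.restr O U).obj F)) :=
    (ModSite.extZero O U).map_isZero h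
  exact isIso_cokernel_π_of_eq_zero _ (h1.eq_of_src _ _)

/-- an isomorphism `M' ≅ M` induces `ℋom(M, -) ≅ ℋom(M', -)` -/
noncomputable def sheafHomIsoOfIso {M M' : ModSite.Mod O} [ModSite.HasSheafHom M]
    [ModSite.HasSheafHom M'] (a : M' ≅ M) : ModSite.sheafHom M ≅ ModSite.sheafHom M' where
  hom := ExtSupp.sheafHomMap a.hom
  inv := ExtSupp.sheafHomMap a.inv
  hom_inv_id := by rw [← sheafHomMap_comp, a.inv_hom_id, sheafHomMap_id]
  inv_hom_id := by rw [← sheafHomMap_comp, a.hom_inv_id, sheafHomMap_id]

variable [ModSite.HasPushOver O U] [HasInjectiveResolutions (ModSite.Mod O)]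

/-- if `F|_U = 0` then `ℰxt^i_Z(F, -) ≅ ℰxt^i(F, -)` -/
noncomputable def extZShIso (F : ModSite.Mod O) [ModSite.HasSheafHom F]
    (h : IsZero ((ModSite.restr O U).obj F)) (i : ℕ) :
    ModSite.extZSh U F i ≅ ModSite.extSh F i :=
  haveI := isIso_quotOnπ_app O U F h
  haveI : ModSite.HasSheafHom ((ModSite.quotOn O U).obj F) := Groth.Agent.H45.hasSheafHom _ _
  Groth.Agent.H30.GrothSSExt.rightDerivedIsoOfIso
    (sectOnSheafHomIso O U F ≪≫ sheafHomIsoOfIso O (asIso ((ModSite.quotOnπ O U).app F))) i

end Site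


section Scheme

open Scheme.Modules

variable {X : Scheme.{u}} (U : X.Opens)

instance instHasPushOverSch : ModSite.HasPushOver X.sheaf U :=
  ModSite.hasPushOver_of_hasBinaryProducts X.sheaf U

/-- vanishing of the restriction to the open subscheme `U` gives vanishing on the localized site -/
lemma isZero_restr_of_isZero_restrict (F : X.Modules)
    (h : IsZero ((restrictFunctor U.ι).obj F)) : IsZero ((ModSite.restr X.sheaf U).obj F) := by
  let e := Scheme.Modules.overEquiv U
  have h1 : IsZero (e.functor.obj ((ModSite.restr X.sheaf U).obj F)) :=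
    IsZero.of_iso h ((Scheme.Modules.overFunctorEquiv U).app F)
  exact IsZero.of_iso (e.inverse.map_isZero h1) (e.unitIso.app _)

/-- `ℰxt^i_Y(F, G)` is coherent if `F`, `G` are coherent and `F` is supported in `Y` -/
theorem isCoh_extZSh_of_support [IsLocallyNoetherian X] (F G : X.Modules) (hF : Coh.IsCoh F)
    (hG : Coh.IsCoh G) (hsupp : ∀ x ∈ CohB1.support F, x ∉ (U : Set X))
    [ModSite.HasSheafHom (O := X.sheaf) F] [HasInjectiveResolutions (ModSite.Mod X.sheaf)]
    (i : ℕ) : Coh.IsCoh ((ModSite.extZSh (O := X.sheaf) U F i).obj G) := by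
  have h0 : IsZero ((restrictFunctor U.ι).obj F) := by
    refine (Groth.Agent.H30.QCohLoc.support_subset_compl_iff U.ι F).1 ?_
    intro x hx hxU
    rw [Scheme.Opens.opensRange_ι] at hxU
    exact hsupp x hx hxU
  have h1 := isZero_restr_of_isZero_restrict U F h0
  exact Groth.Agent.H31.CohExt.isCoh_iso ((extZShIso X.sheaf U F h1 i).symm.app G)
    (Groth.Agent.H31.CohExt.isCoh_extSh F G hF hG i)

end Scheme

end Groth.Agent.H31.ExtZCoh
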