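import Mathlib
import Groth.Prelude.Def_ModSite

/-!
# Explicit extension by zero for presheaves of modules

For a presheaf of rings `R` on `C` and `U : C`, the restriction functor
`resP R U : PresheafOfModules R ⥤ PresheafOfModules ((Over.forget U).op ⋙ R)` has the explicit left
adjoint `extP R U`, `(extP P)(W) = ⨁_{φ : W ⟶ U} P(W, φ)` (`adjP`).
-/

open CategoryTheory Limits Opposite DirectSum
open scoped Classical
universe u

namespace Groth.Agent.H31.ExtZero

variable {C : Type u} [SmallCategory C] (R : Cᵒᵖ ⥤ RingCat.{u}) (U : C)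

/-- The restricted presheaf of rings on `Over U`. -/
abbrev ringOver : (Over U)ᵒᵖ ⥤ RingCat.{u} := (Over.forget U).op ⋙ R

variable {R U}
variable (P : PresheafOfModules.{u} (ringOver R U))

/-- the summand `P(W, φ)` as an `R(W)`-module -/
abbrev summand (W : C) (φ : W ⟶ U) : ModuleCat.{u} (R.obj (op W)) := P.obj (op (Over.mk φ))

/-- The restriction map `P(W,φ) → P(W', φ')` for `g : W' ⟶ W` with `g ≫ φ = φ'`, semilinear. -/
noncomputable def resₛₗ {W W' : C} (g : W' ⟶ W) (φ : W ⟶ U) (φ' : W' ⟶ U) (h : g ≫ φ = φ') :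
    summand P W φ →ₛₗ[(R.map g.op).hom] summand P W' φ' :=
  P.restrictₛₗ (Over.homMk g h : Over.mk φ' ⟶ Over.mk φ).op


/-- sections of `j_! P` over `W`. -/
abbrev sec (W : C) : Type u := ⨁ φ : W ⟶ U, summand P W φ

/-- the inclusion of a summand -/
noncomputable abbrev inc (W : C) (φ : W ⟶ U) : summand P W φ →ₗ[R.obj (op W)] sec P W :=
  DirectSum.lof (R.obj (op W)) (W ⟶ U) (fun φ => summand P W φ) φ

/-- restriction on `j_! P` -/
noncomputable def extObjMap {W W' : Cᵒᵖ} (g : W ⟶ W') :
    ModuleCat.of (R.obj W) (sec P W.unop) ⟶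
      (ModuleCat.restrictScalars (R.map g).hom).obj (ModuleCat.of (R.obj W') (sec P W'.unop)) :=
  ModuleCat.ofHom (Y := (ModuleCat.restrictScalars (R.map g).hom).obj
      (ModuleCat.of (R.obj W') (sec P W'.unop)))
    (DirectSum.toModule (R.obj W) (W.unop ⟶ U)
      ((ModuleCat.restrictScalars (R.map g).hom).obj (ModuleCat.of (R.obj W') (sec P W'.unop)))
      (fun φ =>
    (P.map (Over.homMk g.unop rfl : Over.mk (g.unop ≫ φ) ⟶ Over.mk φ).op ≫
      (ModuleCat.restrictScalars (R.map g).hom).map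
        (ModuleCat.ofHom (inc P W'.unop (g.unop ≫ φ)))).hom))

lemma extObjMap_inc {W W' : Cᵒᵖ} (g : W ⟶ W') (φ : W.unop ⟶ U) (x : summand P W.unop φ) :
    extObjMap P g (inc P W.unop φ x) =
      inc P W'.unop (g.unop ≫ φ)
        (P.map (Over.homMk g.unop rfl : Over.mk (g.unop ≫ φ) ⟶ Over.mk φ).op x) := by
  exact DirectSum.toModule_lof (R.obj W) (M := fun φ => summand P W.unop φ) φ x


lemma inc_res_congr {W W' : C} (g : W' ⟶ W) (φ : W ⟶ U) (φ' : W' ⟶ U) (h : g ≫ φ = φ')
    (x : summand P W φ) :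
    inc P W' (g ≫ φ) (P.map (Over.homMk g rfl : Over.mk (g ≫ φ) ⟶ Over.mk φ).op x) =
      inc P W' φ' (P.map (Over.homMk g h : Over.mk φ' ⟶ Over.mk φ).op x) := by
  subst h
  rfl

lemma map_homMk_id {W : C} (φ : W ⟶ U) (x : summand P W φ) :
    P.map (Over.homMk (𝟙 W) (Category.id_comp φ) : Over.mk φ ⟶ Over.mk φ).op x = x := by
  have : (Over.homMk (𝟙 W) (Category.id_comp φ) : Over.mk φ ⟶ Over.mk φ) = 𝟙 _ := rfl
  rw [this]
  simp
  rfl

lemma map_homMk_comp {W W' W'' : C} (g : W' ⟶ W) (g' : W'' ⟶ W') (φ : W ⟶ U)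
    (x : summand P W φ) :
    P.map (Over.homMk (g' ≫ g) (Category.assoc _ _ _) : Over.mk (g' ≫ g ≫ φ) ⟶ Over.mk φ).op x =
      P.map (Over.homMk g' rfl : Over.mk (g' ≫ g ≫ φ) ⟶ Over.mk (g ≫ φ)).op
        (P.map (Over.homMk g rfl : Over.mk (g ≫ φ) ⟶ Over.mk φ).op x) := by
  rw [← PresheafOfModules.map_comp_apply]
  rfl

/-- The presheaf of modules `j_!^p P : W ↦ ⨁_{φ : W ⟶ U} P(W, φ)`. -/
noncomputable def extObj : PresheafOfModules.{u} R where
  obj W := ModuleCat.of (R.obj W) (sec P W.unop)
  map g := extObjMap P g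
  map_id W := by
    ext : 1
    refine DirectSum.linearMap_ext _ (fun φ => ?_)
    ext x
    show extObjMap P (𝟙 W) (inc P W.unop φ x) = inc P W.unop φ x
    rw [extObjMap_inc]
    exact (inc_res_congr P (𝟙 W.unop) φ φ (Category.id_comp φ) x).trans (by rw [map_homMk_id])
  map_comp {W W' W''} g g' := by
    ext : 1
    refine DirectSum.linearMap_ext _ (fun φ => ?_)
    ext x
    show extObjMap P (g ≫ g') (inc P W.unop φ x) =
      extObjMap P g' (extObjMap P g (inc P W.unop φ x))
    rw [extObjMap_inc, extObjMap_inc, extObjMap_inc]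
    exact (inc_res_congr P (g'.unop ≫ g.unop) φ (g'.unop ≫ g.unop ≫ φ)
      (Category.assoc _ _ _) x).trans (by rw [map_homMk_comp])


@[simp]
lemma extObj_map_inc {W W' : Cᵒᵖ} (g : W ⟶ W') (φ : W.unop ⟶ U) (x : summand P W.unop φ) :
    (extObj P).map g (inc P W.unop φ x) =
      inc P W'.unop (g.unop ≫ φ)
        (P.map (Over.homMk g.unop rfl : Over.mk (g.unop ≫ φ) ⟶ Over.mk φ).op x) :=
  extObjMap_inc P g φ x

variable {P} {Q : PresheafOfModules.{u} (ringOver R U)}

/-- components of a morphism, as linear maps on summands -/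
noncomputable def compₗ (α : P ⟶ Q) (W : C) (φ : W ⟶ U) :
    summand P W φ →ₗ[R.obj (op W)] summand Q W φ :=
  (α.app (op (Over.mk φ))).hom

@[simp] lemma compₗ_apply (α : P ⟶ Q) (W : C) (φ : W ⟶ U) (x : summand P W φ) :
    compₗ α W φ x = α.app (op (Over.mk φ)) x := rfl

/-- functoriality of `j_!^p` -/
noncomputable def extMap (α : P ⟶ Q) : extObj P ⟶ extObj Q where
  app W := ModuleCat.ofHom (DirectSum.lmap (fun φ : W.unop ⟶ U => compₗ α W.unop φ))
  naturality {W W'} g := by
    ext : 1
    refine DirectSum.linearMap_ext _ (fun φ => ?_)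
    ext x
    show (DirectSum.lmap (fun φ : W'.unop ⟶ U => compₗ α W'.unop φ))
        ((extObj P).map g (inc P W.unop φ x)) =
      (extObj Q).map g ((DirectSum.lmap (fun φ : W.unop ⟶ U => compₗ α W.unop φ))
        (inc P W.unop φ x))
    rw [extObj_map_inc]
    erw [DirectSum.lmap_lof, DirectSum.lmap_lof]
    rw [extObj_map_inc]
    congr 1
    exact PresheafOfModules.naturality_apply α _ x

lemma extMap_app_inc (α : P ⟶ Q) (W : Cᵒᵖ) (φ : W.unop ⟶ U) (x : summand P W.unop φ) :
    (extMap α).app W (inc P W.unop φ x) = inc Q W.unop φ (α.app (op (Over.mk φ)) x) :=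
  DirectSum.lmap_lof _ _ _


lemma extObj_hom_ext {T : PresheafOfModules.{u} R} {a b : extObj P ⟶ T}
    (h : ∀ (W : C) (φ : W ⟶ U) (x : summand P W φ),
      a.app (op W) (inc P W φ x) = b.app (op W) (inc P W φ x)) : a = b := by
  ext W : 2
  refine DirectSum.linearMap_ext _ (fun φ => ?_)
  ext x
  exact h W.unop φ x

variable (R U) in
/-- The explicit presheaf-level extension by zero functor. -/
noncomputable def extP : PresheafOfModules.{u} (ringOver R U) ⥤ PresheafOfModules.{u} R where
  obj P := extObj P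
  map α := extMap α
  map_id P := by
    apply extObj_hom_ext
    intro W φ x
    rw [extMap_app_inc]
    rfl
  map_comp α β := by
    apply extObj_hom_ext
    intro W φ x
    rw [extMap_app_inc]
    show _ = (extMap β).app (op W) ((extMap α).app (op W) _)
    rw [extMap_app_inc, extMap_app_inc]
    rfl

variable (R U) in
/-- The presheaf-level restriction functor. -/
noncomputable abbrev resP : PresheafOfModules.{u} R ⥤ PresheafOfModules.{u} (ringOver R U) :=
  PresheafOfModules.pushforward₀ (Over.forget U) R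


section Adj
variable (P) (T : PresheafOfModules.{u} R)

/-- `(j_!^p P ⟶ T) → (P ⟶ T|_U)`. -/
noncomputable def homEquivToFun (ψ : extObj P ⟶ T) : P ⟶ (resP R U).obj T where
  app Y := ModuleCat.ofHom (Y := ((resP R U).obj T).obj Y)
    ((ψ.app (op Y.unop.left)).hom ∘ₗ inc P Y.unop.left Y.unop.hom)
  naturality {Y Y'} f := by
    ext x
    have h1 := PresheafOfModules.naturality_apply ψ f.unop.left.op (inc P Y.unop.left Y.unop.hom x)
    rw [extObj_map_inc] at h1
    have h2 := inc_res_congr P f.unop.left Y.unop.hom Y'.unop.hom (Over.w f.unop) x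
    dsimp only [Quiver.Hom.unop_op] at h1
    rw [h2] at h1
    exact h1

/-- `(P ⟶ T|_U) → (j_!^p P ⟶ T)`. -/
noncomputable def homEquivInvFun (β : P ⟶ (resP R U).obj T) : extObj P ⟶ T where
  app W := ModuleCat.ofHom (DirectSum.toModule (R.obj W) (W.unop ⟶ U) (T.obj W)
    (fun φ => (β.app (op (Over.mk φ))).hom))
  naturality {W W'} g := by
    ext : 1
    refine DirectSum.linearMap_ext _ (fun φ => ?_)
    ext x
    show (DirectSum.toModule (R.obj W') (W'.unop ⟶ U) (T.obj W')
        (fun φ => (β.app (op (Over.mk φ))).hom)) ((extObj P).map g (inc P W.unop φ x)) =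
      T.map g ((DirectSum.toModule (R.obj W) (W.unop ⟶ U) (T.obj W)
        (fun φ => (β.app (op (Over.mk φ))).hom)) (inc P W.unop φ x))
    rw [extObj_map_inc]
    erw [DirectSum.toModule_lof, DirectSum.toModule_lof]
    exact PresheafOfModules.naturality_apply β
      (Over.homMk g.unop rfl : Over.mk (g.unop ≫ φ) ⟶ Over.mk φ).op x

lemma homEquivInvFun_app_inc (β : P ⟶ (resP R U).obj T) (W : C) (φ : W ⟶ U)
    (x : summand P W φ) :
    (homEquivInvFun P T β).app (op W) (inc P W φ x) = β.app (op (Over.mk φ)) x :=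
  DirectSum.toModule_lof _ _ _

lemma homEquivToFun_app (ψ : extObj P ⟶ T) (W : C) (φ : W ⟶ U) (x : summand P W φ) :
    (homEquivToFun P T ψ).app (op (Over.mk φ)) x = ψ.app (op W) (inc P W φ x) := rfl

/-- the presheaf-level adjunction bijection -/
noncomputable def homEquivP : (extObj P ⟶ T) ≃ (P ⟶ (resP R U).obj T) where
  toFun := homEquivToFun P T
  invFun := homEquivInvFun P T
  left_inv ψ := by
    apply extObj_hom_ext
    intro W φ x
    rw [homEquivInvFun_app_inc, homEquivToFun_app]
  right_inv β := by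
    ext Y x
    exact homEquivInvFun_app_inc P T β Y.unop.left Y.unop.hom x

end Adj


variable (R U) in
/-- The presheaf-level adjunction `j_!^p ⊣ (-)|_U`. -/
noncomputable def adjP : extP R U ⊣ resP R U :=
  Adjunction.mkOfHomEquiv
    { homEquiv := fun P T => homEquivP P T
      homEquiv_naturality_left_symm := by
        intro P' P T f g
        apply extObj_hom_ext
        intro W φ x
        show (homEquivInvFun P' T (f ≫ g)).app (op W) (inc P' W φ x) =
          (homEquivInvFun P T g).app (op W) ((extMap f).app (op W) (inc P' W φ x))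
        rw [homEquivInvFun_app_inc, extMap_app_inc, homEquivInvFun_app_inc]
        rfl
      homEquiv_naturality_right := by
        intro P T T' f g
        ext Y x
        rfl }

end Groth.Agent.H31.ExtZero
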