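import Groth.Agent.H31.ExtZeroHom

/-!
# Restriction to `C/U` commutes with the internal hom
-/

open CategoryTheory Limits Opposite MonoidalCategory
open scoped Classical
universe u

namespace Groth.Agent.H31.ExtZero

open Groth.Agent.H45

/-- An isomorphism from a natural bijection of represented functors (equivalence form of
`Yoneda.ext`). -/
def isoOfHomEquivLeft {A : Type*} [Category A] {X Y : A} (e : ∀ Z : A, (Z ⟶ X) ≃ (Z ⟶ Y))
    (n : ∀ {Z Z' : A} (f : Z' ⟶ Z) (g : Z ⟶ X), e Z' (f ≫ g) = f ≫ e Z g) : X ≅ Y :=
  Yoneda.ext X Y (fun {Z} f => e Z f) (fun {Z} f => (e Z).symm f) (by simp) (by simp)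
    (fun {Z Z'} f g => n f g)

/-- precomposition with an isomorphism -/
def precompEquiv {A : Type*} [Category A] {X Y : A} (i : X ≅ Y) (Z : A) :
    (Y ⟶ Z) ≃ (X ⟶ Z) where
  toFun f := i.hom ≫ f
  invFun g := i.inv ≫ g
  left_inv f := by simp
  right_inv g := by simp

lemma precompEquiv_apply {A : Type*} [Category A] {X Y : A} (i : X ≅ Y) (Z : A) (f : Y ⟶ Z) :
    precompEquiv i Z f = i.hom ≫ f := rfl

variable {C : Type u} [SmallCategory C] {J : GrothendieckTopology C} (O : Sheaf J CommRingCat.{u})
  (U : C)

/-- `j^* Hom(M, N) ≅ Hom(j^* M, j^* N)`. -/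
noncomputable def restrSheafHomIso (M N : ModSite.Mod O) [ModSite.HasSheafHom M]
    [ModSite.HasSheafHom ((ModSite.restr O U).obj M)] :
    (ModSite.restr O U).obj ((ModSite.sheafHom M).obj N) ≅
      (ModSite.sheafHom ((ModSite.restr O U).obj M)).obj ((ModSite.restr O U).obj N) :=
  isoOfHomEquivLeft
    (fun P =>
      ((ModSite.extZeroAdj O U).homEquiv P ((ModSite.sheafHom M).obj N)).symm.trans
      (((ModSite.sheafHomAdj M).homEquiv ((ModSite.extZero O U).obj P) N).symm.trans
      ((precompEquiv ((projF O U M).app P) N).trans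
      (((ModSite.extZeroAdj O U).homEquiv
          (((ModSite.tensorBi (O.over U)).flip.obj ((ModSite.restr O U).obj M)).obj P) N).trans
      ((ModSite.sheafHomAdj ((ModSite.restr O U).obj M)).homEquiv P
        ((ModSite.restr O U).obj N))))))
    (by
      intro P P' q f
      dsimp only [Equiv.trans_apply]
      rw [Adjunction.homEquiv_naturality_left_symm, Adjunction.homEquiv_naturality_left_symm,
        precompEquiv_apply, precompEquiv_apply, Iso.app_hom, Iso.app_hom]
      have nat := (projF O U M).hom.naturality q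
      dsimp only [Functor.comp_map] at nat
      rw [← Category.assoc, ← nat, Category.assoc, Adjunction.homEquiv_naturality_left,
        Adjunction.homEquiv_naturality_left])

end Groth.Agent.H31.ExtZero
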