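import Groth.Agent.H31.ExtZeroS

/-!
# Presheaf-level projection formula for the explicit extension by zero

`projIsoP Q N : j_!^p Q ⊗ N ≅ j_!^p (Q ⊗ N|_U)`, natural in both variables (`projNatQ`, `projNatN`).
-/

open CategoryTheory Limits Opposite DirectSum MonoidalCategory
open scoped Classical TensorProduct
universe u

namespace Groth.Agent.H31.ExtZero

variable {C : Type u} [SmallCategory C] (Rc : Cᵒᵖ ⥤ CommRingCat.{u}) (U : C)

/-- presheaves of modules on `C` -/
abbrev PModC := PresheafOfModules.{u} (Rc ⋙ forget₂ CommRingCat RingCat)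
/-- presheaves of modules on `C/U` -/
abbrev PModU := PresheafOfModules.{u} (((Over.forget U).op ⋙ Rc) ⋙ forget₂ CommRingCat RingCat)

/-- extension by zero, commutative version -/
noncomputable def extC : PModU Rc U ⥤ PModC Rc := extP (Rc ⋙ forget₂ _ _) U
/-- restriction, commutative version (monoidal) -/
noncomputable def resC : PModC Rc ⥤ PModU Rc U :=
  PresheafOfModules.pushforward₀OfCommRingCat (Over.forget U) Rc

variable {Rc U}
variable (Q : PModU Rc U) (N : PModC Rc)

/-- sectionwise projection formula -/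
noncomputable def projEquiv (W : C) :
    (((extC Rc U).obj Q ⊗ N : PModC Rc).obj (op W)) ≃ₗ[Rc.obj (op W)]
      (((extC Rc U).obj (Q ⊗ (resC Rc U).obj N : PModU Rc U)).obj (op W)) :=
  TensorProduct.directSumLeft (Rc.obj (op W)) (Rc.obj (op W))
    (fun φ : W ⟶ U => Q.obj (op (Over.mk φ))) (N.obj (op W))


/-- pure tensors in sections of `extC Q ⊗ N` -/
noncomputable def tm (W : C) (φ : W ⟶ U) (q : Q.obj (op (Over.mk φ))) (n : N.obj (op W)) :
    ((extC Rc U).obj Q ⊗ N : PModC Rc).obj (op W) :=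
  (inc (R := Rc ⋙ forget₂ _ _) Q W φ q) ⊗ₜ[Rc.obj (op W)] n

/-- generators of sections of `extC (Q ⊗ resC N)` -/
noncomputable def gn (W : C) (φ : W ⟶ U) (q : Q.obj (op (Over.mk φ))) (n : N.obj (op W)) :
    ((extC Rc U).obj (Q ⊗ (resC Rc U).obj N : PModU Rc U)).obj (op W) :=
  inc (R := Rc ⋙ forget₂ _ _) (Q ⊗ (resC Rc U).obj N : PModU Rc U) W φ
    (show ((Q ⊗ (resC Rc U).obj N : PModU Rc U).obj (op (Over.mk φ))) from
      q ⊗ₜ[((Over.forget U).op ⋙ Rc).obj (op (Over.mk φ))]
        (show ((resC Rc U).obj N).obj (op (Over.mk φ)) from n))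

lemma projEquiv_tm (W : C) (φ : W ⟶ U) (q : Q.obj (op (Over.mk φ))) (n : N.obj (op W)) :
    projEquiv Q N W (tm Q N W φ q n) = gn Q N W φ q n :=
  TensorProduct.directSumLeft_tmul_lof (R := Rc.obj (op W)) (S := Rc.obj (op W))
    (M₁ := fun φ : W ⟶ U => Q.obj (op (Over.mk φ))) (M₂' := N.obj (op W)) φ q n


lemma tm_induction {W : C} {motive : ((extC Rc U).obj Q ⊗ N : PModC Rc).obj (op W) → Prop}
    (zero : motive 0) (tm' : ∀ φ q n, motive (tm Q N W φ q n))
    (add : ∀ x y, motive x → motive y → motive (x + y)) (x) : motive x := by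
  refine TensorProduct.induction_on (motive := motive) x zero (fun m n => ?_) add
  refine DirectSum.induction_on (motive := fun m => motive (m ⊗ₜ[Rc.obj (op W)] n)) m ?_ ?_ ?_
  · convert zero using 1
    exact TensorProduct.zero_tmul _ _
  · intro φ q
    exact tm' φ q n
  · intro m m' hm hm'
    convert add _ _ hm hm' using 1
    exact TensorProduct.add_tmul _ _ _

lemma map_tm {W W' : C} (g : W' ⟶ W) (φ : W ⟶ U) (q : Q.obj (op (Over.mk φ))) (n : N.obj (op W)) :
    ((extC Rc U).obj Q ⊗ N : PModC Rc).map g.op (tm Q N W φ q n) =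
      tm Q N W' (g ≫ φ) (Q.map (Over.homMk g rfl : Over.mk (g ≫ φ) ⟶ Over.mk φ).op q)
        (N.map g.op n) := by
  dsimp only [tm]
  erw [PresheafOfModules.Monoidal.tensorObj_map_tmul]
  congr 1
  exact extObj_map_inc (R := Rc ⋙ forget₂ _ _) Q g.op φ q

lemma map_gn {W W' : C} (g : W' ⟶ W) (φ : W ⟶ U) (q : Q.obj (op (Over.mk φ))) (n : N.obj (op W)) :
    ((extC Rc U).obj (Q ⊗ (resC Rc U).obj N : PModU Rc U)).map g.op (gn Q N W φ q n) =
      gn Q N W' (g ≫ φ) (Q.map (Over.homMk g rfl : Over.mk (g ≫ φ) ⟶ Over.mk φ).op q)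
        (N.map g.op n) := by
  dsimp only [gn]
  erw [extObj_map_inc (R := Rc ⋙ forget₂ _ _) (Q ⊗ (resC Rc U).obj N : PModU Rc U) g.op φ]
  rfl


/-- The presheaf-level projection formula `j_!^p Q ⊗ N ≅ j_!^p (Q ⊗ N|_U)`. -/
noncomputable def projIsoP :
    ((extC Rc U).obj Q ⊗ N : PModC Rc) ≅ (extC Rc U).obj (Q ⊗ (resC Rc U).obj N : PModU Rc U) :=
  PresheafOfModules.isoMk (fun W => (projEquiv Q N W.unop).toModuleIso) (by
    intro W W' g
    ext x
    induction x using tm_induction with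
    | zero => simp only [map_zero]
    | tm' φ q n =>
      have h1 := map_tm Q N g.unop φ q n
      have h2 := map_gn Q N g.unop φ q n
      show projEquiv Q N W'.unop (((extC Rc U).obj Q ⊗ N : PModC Rc).map g (tm Q N W.unop φ q n)) =
        ((extC Rc U).obj (Q ⊗ (resC Rc U).obj N : PModU Rc U)).map g
          (projEquiv Q N W.unop (tm Q N W.unop φ q n))
      rw [projEquiv_tm]
      erw [h1, h2]
      rw [projEquiv_tm]
    | add x y hx hy => simp only [map_add, hx, hy])

lemma projIsoP_hom_app_tm (W : C) (φ : W ⟶ U) (q : Q.obj (op (Over.mk φ))) (n : N.obj (op W)) :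
    (projIsoP Q N).hom.app (op W) (tm Q N W φ q n) = gn Q N W φ q n :=
  projEquiv_tm Q N W φ q n


variable {Q N}

lemma whiskerRight_tm {Q' : PModU Rc U} (α : Q ⟶ Q') (W : C) (φ : W ⟶ U)
    (q : Q.obj (op (Over.mk φ))) (n : N.obj (op W)) :
    (((extC Rc U).map α ▷ N).app (op W)) (tm Q N W φ q n) =
      tm Q' N W φ (α.app (op (Over.mk φ)) q) n := by
  dsimp only [tm]
  erw [ModuleCat.MonoidalCategory.whiskerRight_apply]
  congr 1
  exact extMap_app_inc (R := Rc ⋙ forget₂ _ _) α (op W) φ q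

lemma map_whiskerRight_gn {Q' : PModU Rc U} (α : Q ⟶ Q') (W : C) (φ : W ⟶ U)
    (q : Q.obj (op (Over.mk φ))) (n : N.obj (op W)) :
    (((extC Rc U).map (α ▷ (resC Rc U).obj N)).app (op W)) (gn Q N W φ q n) =
      gn Q' N W φ (α.app (op (Over.mk φ)) q) n := by
  dsimp only [gn]
  erw [extMap_app_inc (R := Rc ⋙ forget₂ _ _) (α ▷ (resC Rc U).obj N) (op W) φ]
  rfl

lemma whiskerLeft_tm {N' : PModC Rc} (β : N ⟶ N') (W : C) (φ : W ⟶ U)
    (q : Q.obj (op (Over.mk φ))) (n : N.obj (op W)) :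
    ((((extC Rc U).obj Q) ◁ β).app (op W)) (tm Q N W φ q n) =
      tm Q N' W φ q (β.app (op W) n) := by
  dsimp only [tm]
  erw [ModuleCat.MonoidalCategory.whiskerLeft_apply]
  rfl

lemma map_whiskerLeft_gn {N' : PModC Rc} (β : N ⟶ N') (W : C) (φ : W ⟶ U)
    (q : Q.obj (op (Over.mk φ))) (n : N.obj (op W)) :
    (((extC Rc U).map (Q ◁ (resC Rc U).map β)).app (op W)) (gn Q N W φ q n) =
      gn Q N' W φ q (β.app (op W) n) := by
  dsimp only [gn]
  erw [extMap_app_inc (R := Rc ⋙ forget₂ _ _) (Q ◁ (resC Rc U).map β) (op W) φ]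
  rfl


lemma tensor_hom_ext {T : PModC Rc} {a b : ((extC Rc U).obj Q ⊗ N : PModC Rc) ⟶ T}
    (h : ∀ (W : C) (φ : W ⟶ U) (q : Q.obj (op (Over.mk φ))) (n : N.obj (op W)),
      a.app (op W) (tm Q N W φ q n) = b.app (op W) (tm Q N W φ q n)) : a = b := by
  ext W x
  induction x using tm_induction with
  | zero => simp only [map_zero]
  | tm' φ q n => exact h W.unop φ q n
  | add x y hx hy => simp only [map_add, hx, hy]

variable (Rc U) in
/-- The projection formula, natural in the module on `C/U`. -/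
noncomputable def projNatQ (N : PModC Rc) :
    extC Rc U ⋙ tensorRight N ≅ tensorRight ((resC Rc U).obj N) ⋙ extC Rc U :=
  NatIso.ofComponents (fun Q => projIsoP Q N) (by
    intro Q Q' α
    apply tensor_hom_ext
    intro W φ q n
    show (projIsoP Q' N).hom.app (op W) ((((extC Rc U).map α ▷ N).app (op W)) (tm Q N W φ q n)) =
      (((extC Rc U).map (α ▷ (resC Rc U).obj N)).app (op W))
        ((projIsoP Q N).hom.app (op W) (tm Q N W φ q n))
    rw [whiskerRight_tm, projIsoP_hom_app_tm, projIsoP_hom_app_tm, map_whiskerRight_gn])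

variable (Rc U) in
/-- The projection formula, natural in the module on `C`. -/
noncomputable def projNatN (Q : PModU Rc U) :
    tensorLeft ((extC Rc U).obj Q) ≅ resC Rc U ⋙ tensorLeft Q ⋙ extC Rc U :=
  NatIso.ofComponents (fun N => projIsoP Q N) (by
    intro N N' β
    apply tensor_hom_ext
    intro W φ q n
    show (projIsoP Q N').hom.app (op W) (((((extC Rc U).obj Q) ◁ β).app (op W)) (tm Q N W φ q n)) =
      (((extC Rc U).map (Q ◁ (resC Rc U).map β)).app (op W))
        ((projIsoP Q N).hom.app (op W) (tm Q N W φ q n))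
    rw [whiskerLeft_tm, projIsoP_hom_app_tm, projIsoP_hom_app_tm, map_whiskerLeft_gn])

end Groth.Agent.H31.ExtZero
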