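import Mathlib.CategoryTheory.FiberedCategory.Fibered
import Mathlib.CategoryTheory.FiberedCategory.Fiber

set_option autoImplicit false
universe v₁ v₂ u₁ u₂

namespace Groth.Agent.H31

open CategoryTheory CategoryTheory.Functor

variable {B : Type u₁} [Category.{v₁} B] {E : Type u₂} [Category.{v₂} E] (p : E ⥤ B)

/-- In a fibered category every morphism factors as a morphism in the fibre followed by a
Cartesian morphism over the image. -/
theorem exists_fiber_factorization [p.IsFibered] {a c : E} (φ : a ⟶ c) :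
    ∃ (a' : E) (χ : a' ⟶ c) (_ : p.IsCartesian (p.map φ) χ),
      ∀ (ψ : a ⟶ c), p.map ψ = p.map φ →
        ∃ (α : a ⟶ a') (_ : p.IsHomLift (𝟙 (p.obj a)) α), α ≫ χ = ψ := by
  obtain ⟨a', χ, hχ⟩ := IsPreFibered.exists_isCartesian p (rfl : p.obj c = p.obj c) (p.map φ)
  refine ⟨a', χ, hχ, ?_⟩
  intro ψ hψ
  have : p.IsHomLift (p.map φ) ψ := by
    rw [← hψ]; infer_instance
  exact ⟨IsCartesian.map p (p.map φ) χ ψ, inferInstance, IsCartesian.fac p (p.map φ) χ ψ⟩

end Groth.Agent.H31
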