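import Groth.Agent.H31.MonoRestr

namespace Groth.Agent.H31.FlasqueSieve

open CategoryTheory Abelian Limits Opposite
open Groth.Agent.H31.SieveExt Groth.Agent.H31.LocTriv Groth.Agent.H31.MonoRestr

universe u

variable {C : Type u} [SmallCategory C] {J : GrothendieckTopology C}

instance : (presheafToSheaf J (Type u)).PreservesMonomorphisms :=
  inferInstance

/-- Totally acyclic abelian sheaves are flasque with respect to sieves: every compatible family of
sections over a sieve on `V` extends to a section over `V`. -/
theorem exists_extension (F : Sheaf J AddCommGrpCat.{u}) (hF : CohCx.IsTotallyAcyclic F)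
    (V : C) (S : Sieve V) (x : ∀ ⦃W : C⦄ (g : W ⟶ V), S g → F.obj.obj (op W))
    (hx : ∀ ⦃W W' : C⦄ (g : W ⟶ V) (k : W' ⟶ W) (hg : S g),
      x (k ≫ g) (S.downward_closed hg k) = F.obj.map k.op (x g hg)) :
    ∃ a : F.obj.obj (op V), ∀ ⦃W : C⦄ (g : W ⟶ V) (hg : S g), F.obj.map g.op a = x g hg := by
  let Y : Sheaf J (Type u) := (presheafToSheaf J (Type u)).obj S.functor
  let X : Sheaf J (Type u) := (presheafToSheaf J (Type u)).obj (yoneda.obj V)
  let ι : Y ⟶ X := (presheafToSheaf J (Type u)).map S.functorInclusion
  have : Mono ι := inferInstance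
  -- the map `S.functor ⟶ F` attached to the family
  let s'' : S.functor ⟶ (setOf F).obj :=
    { app := fun W => ↾(fun p => x p.1 p.2)
      naturality := by
        intro W W' k
        ext p
        exact hx p.1 k.unop p.2 }
  let s' : Y ⟶ setOf F := ((sheafificationAdjunction J (Type u)).homEquiv S.functor (setOf F)).symm s''
  let s : Zs J Y.obj ⟶ F := (homEquivS Y F).symm s'
  obtain ⟨r, hr⟩ := restr_surjective F hF ι s
  let r' : X ⟶ setOf F := homEquivS X F r
  let r'' : yoneda.obj V ⟶ (setOf F).obj :=
    (sheafificationAdjunction J (Type u)).homEquiv (yoneda.obj V) (setOf F) r'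
  have h1 : ι ≫ r' = s' := by
    have := homEquivS_naturality_left ι r
    rw [hr] at this
    exact this.symm.trans (Equiv.apply_symm_apply _ _)
  have h2 : S.functorInclusion ≫ r'' = s'' := by
    have := (sheafificationAdjunction J (Type u)).homEquiv_naturality_left S.functorInclusion r'
    rw [h1] at this
    exact this.symm.trans (Equiv.apply_symm_apply _ _)
  refine ⟨yonedaEquiv r'', fun W g hg => ?_⟩
  have h3 := congrArg (fun t : S.functor ⟶ (setOf F).obj => t.app (op W) ⟨g, hg⟩) h2
  have h4 : r''.app (op W) g = F.obj.map g.op (yonedaEquiv r'') := by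
    have nat := NatTrans.naturality_apply r'' g.op (𝟙 V)
    have e : (yoneda.obj V).map g.op (𝟙 V) = g := Category.comp_id g
    rw [e] at nat
    exact nat
  exact h4.symm.trans h3

end Groth.Agent.H31.FlasqueSieve
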