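import Mathlib

/-!
# Right exact functors and bounded below acyclic complexes of "flat-like" objects

`acyclic_map_of_flatlike`: let `T : A ⥤ B` be a right exact additive functor between abelian
categories and `P` a class of objects of `A` containing the zero objects, closed under kernels of
epimorphisms, and such that `T` preserves the injectivity of `X₁ → X₂` in short exact sequences with
`P X₃`.  Then `T` sends bounded below acyclic chain complexes with terms in `P` to acyclic complexes.
-/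

open CategoryTheory Limits

namespace Groth.Agent.H31

universe v₁ v₂ u₁ u₂
variable {A : Type u₁} {B : Type u₂} [Category.{v₁} A] [Category.{v₂} B] [Abelian A] [Abelian B]

section
variable (K : ChainComplex A ℤ)

/-- the map `K_i → ker (d_j)` induced by `d_i`. -/
noncomputable def toKer (i j k : ℤ) : K.X i ⟶ kernel (K.d j k) :=
  kernel.lift _ (K.d i j) (K.d_comp_d i j k)

@[reassoc (attr := simp)]
lemma toKer_ι (i j k : ℤ) : toKer K i j k ≫ kernel.ι (K.d j k) = K.d i j := by
  simp [toKer]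

/-- the short complex `ker d_i → K_i → ker d_j`. -/
noncomputable def kerSC (i j k : ℤ) : ShortComplex A :=
  ShortComplex.mk (kernel.ι (K.d i j)) (toKer K i j k) (by
    rw [← cancel_mono (kernel.ι (K.d j k))]
    simp)

lemma kerSC_shortExact (i j k : ℤ) (hi : j + 1 = i) (hk : k + 1 = j) (hj : K.ExactAt j) :
    (kerSC K i j k).ShortExact := by
  have hm : Mono (kerSC K i j k).f := inferInstanceAs (Mono (kernel.ι (K.d i j)))
  have he : Epi (kerSC K i j k).g := by
    rw [K.exactAt_iff' i j k (by simp [← hi]) (by simp [← hk])] at hj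
    exact (ShortComplex.exact_iff_epi_kernel_lift _).1 hj
  refine ShortComplex.ShortExact.mk (ShortComplex.exact_of_f_is_kernel _ ?_)
  exact isKernelOfComp (kernel.ι (K.d j k)) (K.d i j) (kernelIsKernel (K.d i j)) _ (toKer_ι K i j k)

end

theorem acyclic_map_of_flatlike (T : A ⥤ B) [T.Additive] [PreservesFiniteColimits T]
    (P : A → Prop)
    (hP0 : ∀ X, IsZero X → P X)
    (hP1 : ∀ S : ShortComplex A, S.ShortExact → P S.X₂ → P S.X₃ → P S.X₁)
    (hP2 : ∀ S : ShortComplex A, S.ShortExact → P S.X₃ → Mono (T.map S.f))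
    (K : ChainComplex A ℤ) (hb : ∃ i₀ : ℤ, ∀ i, i < i₀ → IsZero (K.X i))
    (hK : ∀ i, P (K.X i)) (hac : K.Acyclic) :
    ((T.mapHomologicalComplex (ComplexShape.down ℤ)).obj K).Acyclic := by
  obtain ⟨i₀, hi₀⟩ := hb
  -- all kernels satisfy P
  have hZ : ∀ i j : ℤ, j + 1 = i → P (kernel (K.d i j)) := by
    have small : ∀ i, i < i₀ → ∀ j, j + 1 = i → P (kernel (K.d i j)) := by
      intro i hi j _
      exact hP0 _ (IsZero.of_mono (kernel.ι (K.d i j)) (hi₀ i hi))
    have big : ∀ i, i₀ - 1 ≤ i → ∀ j, j + 1 = i → P (kernel (K.d i j)) := by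
      intro i hi
      induction i, hi using Int.leInduction with
      | base => exact small _ (by omega)
      | succ i hi ih =>
        intro j hj
        obtain rfl : j = i := by omega
        exact hP1 (kerSC K (j + 1) j (j - 1)) (kerSC_shortExact K _ _ _ rfl (by omega) (hac j))
          (hK _) (ih (j - 1) (by omega))
    intro i j hij
    by_cases h : i < i₀
    · exact small i h j hij
    · exact big i (by omega) j hij
  intro i
  rw [HomologicalComplex.exactAt_iff' _ (i + 1) i (i - 1) (by simp) (by simp)]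
  -- the three short complexes
  have hS1 := kerSC_shortExact K (i + 1) i (i - 1) rfl (by omega) (hac i)
  have hS2 := kerSC_shortExact K i (i - 1) (i - 1 - 1) (by omega) (by omega) (hac (i - 1))
  have hS3 := kerSC_shortExact K (i - 1) (i - 1 - 1) (i - 1 - 1 - 1) (by omega) (by omega)
    (hac (i - 1 - 1))
  have hmono : Mono (T.map (kernel.ι (K.d (i - 1) (i - 1 - 1)))) :=
    hP2 _ hS3 (hZ (i - 1 - 1) (i - 1 - 1 - 1) (by omega))
  have hepi : Epi (T.map (toKer K (i + 1) i (i - 1))) := by
    have := hS1.epi_g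
    exact inferInstanceAs (Epi (T.map (kerSC K (i + 1) i (i - 1)).g))
  have hex : ((kerSC K i (i - 1) (i - 1 - 1)).map T).Exact :=
    ((Functor.preservesFiniteColimits_iff_forall_exact_map_and_epi T).1 inferInstance _ hS2).1
  let S'' : ShortComplex B := ShortComplex.mk (T.map (kernel.ι (K.d i (i - 1))))
    (T.map (K.d i (i - 1))) (by rw [← T.map_comp, kernel.condition, T.map_zero])
  let φ₁ : (((T.mapHomologicalComplex (ComplexShape.down ℤ)).obj K).sc' (i + 1) i (i - 1)) ⟶ S'' :=
    { τ₁ := T.map (toKer K (i + 1) i (i - 1))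
      τ₂ := 𝟙 (T.obj (K.X i))
      τ₃ := 𝟙 (T.obj (K.X (i - 1)))
      comm₁₂ := by
        show T.map (toKer K (i + 1) i (i - 1)) ≫ T.map (kernel.ι (K.d i (i - 1))) =
          T.map (K.d (i + 1) i) ≫ 𝟙 (T.obj (K.X i))
        rw [Category.comp_id, ← T.map_comp, toKer_ι]
      comm₂₃ := by
        show 𝟙 (T.obj (K.X i)) ≫ T.map (K.d i (i - 1)) =
          T.map (K.d i (i - 1)) ≫ 𝟙 (T.obj (K.X (i - 1)))
        rw [Category.comp_id, Category.id_comp] }
  let φ₂ : (kerSC K i (i - 1) (i - 1 - 1)).map T ⟶ S'' :=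
    { τ₁ := 𝟙 (T.obj (kernel (K.d i (i - 1))))
      τ₂ := 𝟙 (T.obj (K.X i))
      τ₃ := T.map (kernel.ι (K.d (i - 1) (i - 1 - 1)))
      comm₁₂ := by
        show 𝟙 (T.obj (kernel (K.d i (i - 1)))) ≫ T.map (kernel.ι (K.d i (i - 1))) =
          T.map (kernel.ι (K.d i (i - 1))) ≫ 𝟙 (T.obj (K.X i))
        rw [Category.comp_id, Category.id_comp]
      comm₂₃ := by
        show 𝟙 (T.obj (K.X i)) ≫ T.map (K.d i (i - 1)) =
          T.map (toKer K i (i - 1) (i - 1 - 1)) ≫ T.map (kernel.ι (K.d (i - 1) (i - 1 - 1)))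
        rw [Category.id_comp, ← T.map_comp, toKer_ι] }
  have e1 : Epi φ₁.τ₁ := hepi
  have e2 : IsIso φ₁.τ₂ := inferInstanceAs (IsIso (𝟙 _))
  have e3 : Mono φ₁.τ₃ := inferInstanceAs (Mono (𝟙 _))
  have f1 : Epi φ₂.τ₁ := inferInstanceAs (Epi (𝟙 _))
  have f2 : IsIso φ₂.τ₂ := inferInstanceAs (IsIso (𝟙 _))
  have f3 : Mono φ₂.τ₃ := hmono
  rw [ShortComplex.exact_iff_of_epi_of_isIso_of_mono φ₁,
    ← ShortComplex.exact_iff_of_epi_of_isIso_of_mono φ₂]
  exact hex

end Groth.Agent.H31
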