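import Groth.Agent.H31.ExtZeroUnit
import Groth.Agent.H31.FreeOn

namespace Groth.Agent.H31.FreeOnGen

open CategoryTheory Limits Opposite
open Groth.Agent.H45 Groth.Agent.H31.ExtZero

universe u
open scoped Classical

variable {C : Type u} [SmallCategory C] {J : GrothendieckTopology C} (O : Sheaf J CommRingCat.{u})
  (V : C)

/-- a map out of the unit module of `C/V` is determined by the image of `1` over the terminal object. -/
lemma unit_hom_apply (T' : ModSite.Mod (O.over V))
    (β : SheafOfModules.unit (ModSite.ringSh (O.over V)) ⟶ T') (W : C) (φ : W ⟶ V)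
    (z : (ModSite.ringSh (O.over V)).obj.obj (op (Over.mk φ))) :
    β.val.app (op (Over.mk φ)) z =
      z • T'.val.map (Over.homMk φ : Over.mk φ ⟶ Over.mk (𝟙 V)).op
        (β.val.app (op (Over.mk (𝟙 V))) (1 : (ModSite.ringSh (O.over V)).obj.obj (op (Over.mk (𝟙 V))))) := by
  have h1 : β.val.app (op (Over.mk φ)) (z • (1 : (ModSite.ringSh (O.over V)).obj.obj (op (Over.mk φ)))) =
      z • β.val.app (op (Over.mk φ)) (1 : (ModSite.ringSh (O.over V)).obj.obj (op (Over.mk φ))) :=
    map_smul (β.val.app (op (Over.mk φ))).hom z _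
  have h3 : z • (1 : (ModSite.ringSh (O.over V)).obj.obj (op (Over.mk φ))) = z := mul_one z
  rw [h3] at h1
  rw [h1]
  congr 1
  have nat := PresheafOfModules.naturality_apply β.val
    (Over.homMk φ : Over.mk φ ⟶ Over.mk (𝟙 V)).op
    (1 : (ModSite.ringSh (O.over V)).obj.obj (op (Over.mk (𝟙 V))))
  refine Eq.trans ?_ nat
  have h2 : (SheafOfModules.unit (ModSite.ringSh (O.over V))).val.map
      (Over.homMk φ : Over.mk φ ⟶ Over.mk (𝟙 V)).op
      (1 : (ModSite.ringSh (O.over V)).obj.obj (op (Over.mk (𝟙 V)))) =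
      (1 : (ModSite.ringSh (O.over V)).obj.obj (op (Over.mk φ))) :=
    map_one ((ModSite.ringSh (O.over V)).obj.map (Over.homMk φ : Over.mk φ ⟶ Over.mk (𝟙 V)).op).hom
  exact (congrArg (fun t => β.val.app (op (Over.mk φ)) t) h2).symm


/-- value of `ψ : freeOn V ⟶ T` on the generator `unit (inc φ z)`. -/
lemma hom_apply_gen (T : ModSite.Mod O) (ψ : ModSite.freeOn O V ⟶ T) (W : C) (φ : W ⟶ V)
    (z : (ModSite.ringSh (O.over V)).obj.obj (op (Over.mk φ))) :
    ψ.val.app (op W) (((extZeroIso V O).inv.app (SheafOfModules.unit _)).val.app (op W)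
      (((shfAdj O).unit.app ((extP (ModSite.ringSh O).obj V).obj
        (SheafOfModules.unit (ModSite.ringSh (O.over V))).val)).app (op W)
        (inc (R := (ModSite.ringSh O).obj) (U := V)
          (SheafOfModules.unit (ModSite.ringSh (O.over V))).val W φ z))) =
    z • ((ModSite.restr O V).obj T).val.map (Over.homMk φ : Over.mk φ ⟶ Over.mk (𝟙 V)).op
      (freeOnHomEquiv O V T ψ) := by
  have h := ExtZeroUnit.homEquiv_app O V (SheafOfModules.unit _) T
    ((extZeroIso V O).inv.app _ ≫ ψ) W φ z
  rw [Iso.hom_inv_id_app_assoc] at h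
  refine h.symm.trans ?_
  exact unit_hom_apply O V _ _ W φ z


/-- `hom_apply_gen` with the scalar in `O(W)`. -/
lemma hom_apply_gen' (T : ModSite.Mod O) (ψ : ModSite.freeOn O V ⟶ T) (W : C) (φ : W ⟶ V)
    (z : (ModSite.ringSh O).obj.obj (op W)) :
    ψ.val.app (op W) (((extZeroIso V O).inv.app (SheafOfModules.unit _)).val.app (op W)
      (((shfAdj O).unit.app ((extP (ModSite.ringSh O).obj V).obj
        (SheafOfModules.unit (ModSite.ringSh (O.over V))).val)).app (op W)
        (inc (R := (ModSite.ringSh O).obj) (U := V)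
          (SheafOfModules.unit (ModSite.ringSh (O.over V))).val W φ z))) =
    z • T.val.map φ.op (freeOnHomEquiv O V T ψ) :=
  hom_apply_gen O V T ψ W φ z

variable (U : C)

/-- local generation of `freeOn V`: `ψ|_U = 0` as soon as the corresponding section vanishes on all
`W ⟶ V` such that `W` maps to `U`. -/
lemma restr_map_eq_zero (T : ModSite.Mod O) (ψ : ModSite.freeOn O V ⟶ T)
    (h : ∀ (W : C) (g : W ⟶ V), Nonempty (W ⟶ U) →
      T.val.map g.op (freeOnHomEquiv O V T ψ) = 0) :
    (ModSite.restr O U).map ψ = 0 := by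
  apply SheafOfModules.hom_ext
  apply PresheafOfModules.hom_ext
  intro Y
  apply ModuleCat.hom_ext
  apply LinearMap.ext
  intro (y : (ModSite.freeOn O V).val.obj (op Y.unop.left))
  show ψ.val.app (op Y.unop.left) y = 0
  let P : PMod O := (extP (ModSite.ringSh O).obj V).obj
    (SheafOfModules.unit (ModSite.ringSh (O.over V))).val
  have key : ∀ (W' : C) (_ : W' ⟶ U) (p : P.obj (op W')),
      ψ.val.app (op W') (((extZeroIso V O).inv.app (SheafOfModules.unit _)).val.app (op W')
        (((shfAdj O).unit.app P).app (op W') p)) = 0 := by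
    intro W' f' p
    let Ψ : P.obj (op W') →+ T.val.obj (op W') :=
      (ψ.val.app (op W')).hom.toAddMonoidHom.comp
        ((((extZeroIso V O).inv.app (SheafOfModules.unit _)).val.app (op W')).hom.toAddMonoidHom.comp
          (((shfAdj O).unit.app P).app (op W')).hom.toAddMonoidHom)
    show Ψ p = 0
    refine DirectSum.induction_on (motive := fun p => Ψ p = 0) p (map_zero Ψ) (fun φ z => ?_)
      (fun a b ha hb => ?_)
    · let z' : (ModSite.ringSh O).obj.obj (op W') := z
      refine (hom_apply_gen' O V T ψ W' φ z').trans ?_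
      have this : (show T.val.obj (op W') from T.val.map φ.op (freeOnHomEquiv O V T ψ)) =
          (0 : T.val.obj (op W')) := h W' φ ⟨f'⟩
      exact (congrArg (fun t : T.val.obj (op W') => z' • t) this).trans (smul_zero z')
    · exact (map_add Ψ a b).trans ((congrArg₂ (· + ·) ha hb).trans (add_zero 0))
  obtain ⟨S, hS, hloc⟩ := locSurj_unit O P Y.unop.left
    (((extZeroIso V O).hom.app (SheafOfModules.unit _)).val.app (op Y.unop.left) y)
  refine sect_ext_of_sieve O T S hS _ 0 (fun W' g hg => ?_)
  refine Eq.trans ?_ (map_zero _).symm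
  obtain ⟨p, hp⟩ := hloc g hg
  have e : ((extZeroIso V O).hom.app (SheafOfModules.unit (ModSite.ringSh (O.over V))) ≫
      (extZeroIso V O).inv.app (SheafOfModules.unit _)) = 𝟙 _ :=
    (extZeroIso V O).hom_inv_id_app _
  have e' : ((extZeroIso V O).inv.app (SheafOfModules.unit _)).val.app (op W')
      (((extZeroIso V O).hom.app (SheafOfModules.unit (ModSite.ringSh (O.over V)))).val.app (op W')
        ((ModSite.freeOn O V).val.map g.op y)) = (ModSite.freeOn O V).val.map g.op y :=
    congrArg (fun t : ModSite.freeOn O V ⟶ ModSite.freeOn O V =>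
      t.val.app (op W') ((ModSite.freeOn O V).val.map g.op y)) e
  have nat1 := PresheafOfModules.naturality_apply ψ.val g.op y
  have nat2 := PresheafOfModules.naturality_apply
    ((extZeroIso V O).hom.app (SheafOfModules.unit (ModSite.ringSh (O.over V)))).val g.op y
  refine nat1.symm.trans ?_
  rw [← e']
  have hp' : ((shfAdj O).unit.app P).app (op W') p =
      ((extZeroIso V O).hom.app (SheafOfModules.unit (ModSite.ringSh (O.over V)))).val.app (op W')
        ((ModSite.freeOn O V).val.map g.op y) := hp.trans nat2.symm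
  rw [← hp']
  exact key W' (g ≫ Y.unop.hom) p


/-- converse of `restr_map_eq_zero`. -/
lemma map_eq_zero_of_restr (T : ModSite.Mod O) (ψ : ModSite.freeOn O V ⟶ T)
    (h : (ModSite.restr O U).map ψ = 0) (W : C) (g : W ⟶ V) (f : W ⟶ U) :
    T.val.map g.op (freeOnHomEquiv O V T ψ) = 0 := by
  have h1 : ψ.val.app (op V) (freeOnHomEquiv O V _ (𝟙 _)) = freeOnHomEquiv O V T ψ := by
    have := freeOnHomEquiv_naturality O V (𝟙 _) ψ
    rw [Category.id_comp] at this
    exact this.symm
  rw [← h1]
  refine (PresheafOfModules.naturality_apply ψ.val g.op _).symm.trans ?_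
  exact congrArg (fun t : (ModSite.restr O U).obj (ModSite.freeOn O V) ⟶ (ModSite.restr O U).obj T =>
    t.val.app (op (Over.mk f)) ((ModSite.freeOn O V).val.map g.op (freeOnHomEquiv O V _ (𝟙 _)))) h

variable [ModSite.HasPushOver O U]

/-- sections of `Γ_Z T` over `V`: those sections of `T` which vanish on every `W ⟶ V` such that
`W` maps to `U`. -/
lemma exists_sectOn_iff (T : ModSite.Mod O) (s : T.val.obj (op V)) :
    (∃ x : ((ModSite.sectOn O U).obj T).val.obj (op V),
        ((ModSite.sectOnι O U).app T).val.app (op V) x = s) ↔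
      ∀ (W : C) (g : W ⟶ V), Nonempty (W ⟶ U) → T.val.map g.op s = 0 := by
  constructor
  · rintro ⟨x, rfl⟩ W g ⟨f⟩
    let xh : ModSite.freeOn O V ⟶ (ModSite.sectOn O U).obj T := (freeOnHomEquiv O V _).symm x
    have h0 : (xh ≫ (ModSite.sectOnι O U).app T) ≫ (ModSite.restrPushOverAdj O U).unit.app T = 0 := by
      rw [Category.assoc]
      have : (ModSite.sectOnι O U).app T ≫ (ModSite.restrPushOverAdj O U).unit.app T = 0 :=
        kernel.condition _
      rw [this, comp_zero]
    have h0' := (QuotOnAdj.comp_unit_eq_zero_iff O U (xh ≫ (ModSite.sectOnι O U).app T)).1 h0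
    have h1 := map_eq_zero_of_restr O V U T _ h0' W g f
    have h2 : freeOnHomEquiv O V T (xh ≫ (ModSite.sectOnι O U).app T) =
        ((ModSite.sectOnι O U).app T).val.app (op V) x := by
      refine (freeOnHomEquiv_naturality O V xh ((ModSite.sectOnι O U).app T)).trans ?_
      exact congrArg (fun t => ((ModSite.sectOnι O U).app T).val.app (op V) t)
        (Equiv.apply_symm_apply _ x)
    rw [h2] at h1
    exact h1
  · intro h
    let sh : ModSite.freeOn O V ⟶ T := (freeOnHomEquiv O V T).symm s
    have h0 : (ModSite.restr O U).map sh = 0 := by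
      apply restr_map_eq_zero O V U T sh
      intro W g hW
      rw [Equiv.apply_symm_apply]
      exact h W g hW
    rw [← QuotOnAdj.comp_unit_eq_zero_iff] at h0
    let xh : ModSite.freeOn O V ⟶ (ModSite.sectOn O U).obj T := kernel.lift _ sh h0
    refine ⟨freeOnHomEquiv O V _ xh, ?_⟩
    have h1 : xh ≫ (ModSite.sectOnι O U).app T = sh := kernel.lift_ι _ _ _
    have h2 := freeOnHomEquiv_naturality O V xh ((ModSite.sectOnι O U).app T)
    refine h2.symm.trans ?_
    have h3 : freeOnHomEquiv O V T (xh ≫ (ModSite.sectOnι O U).app T) = freeOnHomEquiv O V T sh :=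
      congrArg (fun t => freeOnHomEquiv O V T t) h1
    exact h3.trans (Equiv.apply_symm_apply _ s)

end Groth.Agent.H31.FreeOnGen
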