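import Groth.Agent.H31.ExtZeroUnit
import Groth.Agent.H31.RestrExact
import Groth.Agent.H30.DerivedLES
import Groth.Agent.H30.DerivedComp
import Groth.Agent.H30.ExactDerived
import Groth.Prelude.Def_ModSite2

namespace Groth.Agent.H31.HZLES

open CategoryTheory Abelian Limits Opposite
open Groth.Agent.H30 Groth.Agent.H31.ExtZero

universe u

variable {C : Type u} [SmallCategory C] {J : GrothendieckTopology C}
  (O : Sheaf J CommRingCat.{u}) (U : C) [ModSite.HasPushOver O U]

lemma w : ModSite.sectOnι O U ≫ (ModSite.restrPushOverAdj O U).unit = 0 := by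
  ext F : 2
  exact kernel.condition ((ModSite.restrPushOverAdj O U).unit.app F)

variable (hU : ∀ V : C, Subsingleton (V ⟶ U))

include hU in
lemma epi_unit (Q : ModSite.Mod O) [Injective Q] :
    Epi ((ModSite.restrPushOverAdj O U).unit.app Q) := by
  have := ExtZeroUnit.isSplitEpi_unit_of_mono_counit (ModSite.extZeroAdj O U)
    (ModSite.restrPushOverAdj O U) Q (ExtZeroUnit.mono_counit hU _)
  infer_instance

include hU in
lemma shortExact (Q : ModSite.Mod O) (hQ : Injective Q) :
    (ShortComplex.mk ((ModSite.sectOnι O U).app Q) ((ModSite.restrPushOverAdj O U).unit.app Q)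
      (DerivedLES.w_app _ _ (w O U) Q)).ShortExact := by
  have := epi_unit O U hU Q
  refine ShortComplex.ShortExact.mk' ?_ ?_ ?_
  · exact ShortComplex.exact_of_f_is_kernel _
      (kernelIsKernel ((ModSite.restrPushOverAdj O U).unit.app Q))
  · exact (inferInstance : Mono (kernel.ι ((ModSite.restrPushOverAdj O U).unit.app Q)))
  · exact this


variable [(ModSite.pushOver O U).Additive] [HasInjectiveResolutions (ModSite.Mod O)]
  [HasInjectiveResolutions (ModSite.Mod (O.over U))]

/-- `ℋ^1_Z ≅ coker(M ⟶ j_* j^* M)` for subterminal `U`. -/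
noncomputable def HZshOneIso :
    ModSite.HZsh O U 1 ≅ cokernel (ModSite.restrPushOverAdj O U).unit :=
  haveI := RestrExact.preservesFiniteLimits_restr O U
  haveI : PreservesLimitsOfSize.{0, 0} (ModSite.pushOver O U) :=
    (ModSite.restrPushOverAdj O U).rightAdjoint_preservesLimits
  haveI : PreservesFiniteLimits (ModSite.pushOver O U) :=
    PreservesLimitsOfSize.preservesFiniteLimits.{0, 0} _
  haveI : PreservesFiniteLimits (ModSite.restr O U ⋙ ModSite.pushOver O U) := comp_preservesFiniteLimits _ _
  (DerivedLES.cokernelIso (ModSite.sectOnι O U) (ModSite.restrPushOverAdj O U).unit (w O U)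
    (shortExact O U hU) (fun X => ExactDerived.isZero_rightDerived_succ (𝟭 _) X 0)).symm

/-- `ℋ^{q+1}_Z ≅ R^q j_* ∘ j^*` for subterminal `U` and `q ≥ 1`. -/
noncomputable def HZshSuccIso (q : ℕ) :
    ModSite.HZsh O U (q + 1 + 1) ≅
      ModSite.restr O U ⋙ (ModSite.pushOver O U).rightDerived (q + 1) :=
  haveI := RestrExact.preservesFiniteLimits_restr O U
  haveI := RestrExact.preservesFiniteColimits_restr O U
  (DerivedLES.δIso (ModSite.sectOnι O U) (ModSite.restrPushOverAdj O U).unit (w O U)
    (shortExact O U hU) (q + 1) (fun X => ExactDerived.isZero_rightDerived_succ (𝟭 _) X q)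
    (fun X => ExactDerived.isZero_rightDerived_succ (𝟭 _) X (q + 1))).symm ≪≫
    DerivedComp.rightDerivedCompIso (ModSite.restr O U)
      (fun Q _ => Injective.injective_of_adjoint (ModSite.extZeroAdj O U) Q)
      (ModSite.pushOver O U) (q + 1)

end Groth.Agent.H31.HZLES
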