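import Groth.Agent.H31.FreeOnGen
import Groth.Agent.H31.FlasqueSieve
import Groth.Agent.H31.PushRD
import Groth.Agent.H31.RestrExact
import Groth.Agent.H31.SheafOfModulesToSheaf
import Groth.Agent.H31.ModAcyc

namespace Groth.Agent.H31.SectOnAcyc

open CategoryTheory Abelian Limits Opposite
open Groth.Agent.H45 Groth.Agent.H31.ExtZero Groth.Agent.H31.SieveExt

universe u

variable {C : Type u} [SmallCategory C] {J : GrothendieckTopology C}
  (O : Sheaf J CommRingCat.{u}) (U : C)

/-- the sieve on `V` of arrows whose source maps to `U`. -/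
def sieveU (V : C) : Sieve V where
  arrows W _ := Nonempty (W ⟶ U)
  downward_closed := by
    rintro W W' g ⟨f⟩ k
    exact ⟨k ≫ f⟩

variable {O}

/-- left exactness on sections. -/
lemma exists_of_g_eq_zero {S : ShortComplex (ModSite.Mod O)} (hS : S.ShortExact) (W : C)
    (z : S.X₂.val.obj (op W)) (hz : S.g.val.app (op W) z = 0) :
    ∃ a : S.X₁.val.obj (op W), S.f.val.app (op W) a = z := by
  let zh : ModSite.freeOn O W ⟶ S.X₂ := (freeOnHomEquiv O W _).symm z
  have h0 : zh ≫ S.g = 0 := by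
    apply (freeOnHomEquiv O W _).injective
    rw [freeOnHomEquiv_naturality, Equiv.apply_symm_apply, QuotOnExact.freeOnHomEquiv_zero]
    exact hz
  have := hS.mono_f
  let ah : ModSite.freeOn O W ⟶ S.X₁ := hS.exact.lift zh h0
  have h1 : ah ≫ S.f = zh := hS.exact.lift_f zh h0
  refine ⟨freeOnHomEquiv O W _ ah, ?_⟩
  have h2 := freeOnHomEquiv_naturality O W ah S.f
  refine h2.symm.trans ?_
  have h3 : freeOnHomEquiv O W S.X₂ (ah ≫ S.f) = freeOnHomEquiv O W S.X₂ zh :=
    congrArg (fun t => freeOnHomEquiv O W S.X₂ t) h1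
  exact h3.trans (Equiv.apply_symm_apply _ z)


variable [ModSite.HasPushOver O U]

instance mono_sectOnι (T : ModSite.Mod O) : Mono ((ModSite.sectOnι O U).app T) :=
  (inferInstance : Mono (kernel.ι ((ModSite.restrPushOverAdj O U).unit.app T)))

/-- `Γ_Z` is sectionwise surjective on a short exact sequence with totally acyclic kernel. -/
theorem sectOn_map_surjective {S : ShortComplex (ModSite.Mod O)} (hS : S.ShortExact)
    (h1 : CohCx.IsTotallyAcyclic (ModSite.toAb S.X₁)) (V : C)
    (y : ((ModSite.sectOn O U).obj S.X₃).val.obj (op V)) :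
    ∃ x : ((ModSite.sectOn O U).obj S.X₂).val.obj (op V),
      ((ModSite.sectOn O U).map S.g).val.app (op V) x = y := by
  have := hS.mono_f
  let c : S.X₃.val.obj (op V) := ((ModSite.sectOnι O U).app S.X₃).val.app (op V) y
  have hc := (FreeOnGen.exists_sectOn_iff O V U S.X₃ c).1 ⟨y, rfl⟩
  have hS' : (S.map (SheafOfModules.toSheaf (ModSite.ringSh O))).ShortExact := by
    have := (toSheaf_preservesLimits (ModSite.ringSh O)).preservesFiniteLimits
    have := (toSheaf_preservesColimits (ModSite.ringSh O)).preservesFiniteColimits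
    exact hS.map_of_exact _
  have hss := PushRD.sectSurj_of_totallyAcyclic hS' h1
  obtain ⟨b0, hb0⟩ := hss V c
  let b : S.X₂.val.obj (op V) := b0
  have hb : S.g.val.app (op V) b = c := hb0
  have hfam : ∀ ⦃W : C⦄ (g : W ⟶ V), sieveU U V g →
      ∃ a : S.X₁.val.obj (op W), S.f.val.app (op W) a = S.X₂.val.map g.op b := by
    intro W g hg
    apply exists_of_g_eq_zero hS W
    refine (PresheafOfModules.naturality_apply S.g.val g.op b).trans ?_
    rw [hb]
    exact hc W g hg
  let xf : ∀ ⦃W : C⦄ (g : W ⟶ V), sieveU U V g → (ModSite.toAb S.X₁).obj.obj (op W) :=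
    fun W g hg => (hfam g hg).choose
  have hxf : ∀ ⦃W : C⦄ (g : W ⟶ V) (hg : sieveU U V g),
      S.f.val.app (op W) (xf g hg) = S.X₂.val.map g.op b := fun W g hg => (hfam g hg).choose_spec
  have compat : ∀ ⦃W W' : C⦄ (g : W ⟶ V) (k : W' ⟶ W) (hg : sieveU U V g),
      xf (k ≫ g) ((sieveU U V).downward_closed hg k) =
        (ModSite.toAb S.X₁).obj.map k.op (xf g hg) := by
    intro W W' g k hg
    apply QuotOnExact.injective_of_mono S.f W'
    refine (hxf (k ≫ g) ((sieveU U V).downward_closed hg k)).trans ?_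
    have e1 : S.X₂.val.map (k ≫ g).op b = S.X₂.val.map k.op (S.X₂.val.map g.op b) := by
      rw [op_comp, PresheafOfModules.map_comp_apply]
    refine e1.trans ?_
    rw [← hxf g hg]
    exact (PresheafOfModules.naturality_apply S.f.val k.op (xf g hg)).symm
  obtain ⟨a', ha'⟩ := FlasqueSieve.exists_extension (ModSite.toAb S.X₁) h1 V (sieveU U V) xf compat
  let a : S.X₁.val.obj (op V) := a'
  have ha : ∀ ⦃W : C⦄ (g : W ⟶ V) (hg : sieveU U V g), S.X₁.val.map g.op a = xf g hg := ha'
  let b' : S.X₂.val.obj (op V) := b - S.f.val.app (op V) a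
  have hb' : ∀ (W : C) (g : W ⟶ V), Nonempty (W ⟶ U) → S.X₂.val.map g.op b' = 0 := by
    intro W g hg
    have e1 : S.X₂.val.map g.op b' =
        S.X₂.val.map g.op b - S.X₂.val.map g.op (S.f.val.app (op V) a) := map_sub _ _ _
    rw [e1, sub_eq_zero, ← hxf g hg, ← ha g hg]
    exact PresheafOfModules.naturality_apply S.f.val g.op a
  obtain ⟨x, hx⟩ := (FreeOnGen.exists_sectOn_iff O V U S.X₂ b').2 hb'
  refine ⟨x, ?_⟩
  apply QuotOnExact.injective_of_mono ((ModSite.sectOnι O U).app S.X₃) V
  have nat : (ModSite.sectOn O U).map S.g ≫ (ModSite.sectOnι O U).app S.X₃ =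
      (ModSite.sectOnι O U).app S.X₂ ≫ S.g := (ModSite.sectOnι O U).naturality S.g
  have e2 : ((ModSite.sectOnι O U).app S.X₃).val.app (op V)
      (((ModSite.sectOn O U).map S.g).val.app (op V) x) =
      S.g.val.app (op V) (((ModSite.sectOnι O U).app S.X₂).val.app (op V) x) :=
    congrArg (fun t : (ModSite.sectOn O U).obj S.X₂ ⟶ S.X₃ => t.val.app (op V) x) nat
  refine e2.trans ?_
  rw [hx]
  have e3 : S.g.val.app (op V) b' =
      S.g.val.app (op V) b - S.g.val.app (op V) (S.f.val.app (op V) a) := map_sub _ _ _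
  rw [e3, hb]
  have e4 : S.g.val.app (op V) (S.f.val.app (op V) a) = 0 :=
    congrArg (fun t : S.X₁ ⟶ S.X₃ => t.val.app (op V) a) S.zero
  rw [e4, sub_zero]


/-- `Γ_Z` sends a short exact sequence with totally acyclic kernel to an epimorphism. -/
theorem epi_sectOn_map {S : ShortComplex (ModSite.Mod O)} (hS : S.ShortExact)
    (h1 : CohCx.IsTotallyAcyclic (ModSite.toAb S.X₁)) : Epi ((ModSite.sectOn O U).map S.g) := by
  apply RestrExact.epi_of_locSurj
  intro V y
  refine ⟨⊤, J.top_mem V, fun W g _ => ?_⟩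
  obtain ⟨x, hx⟩ := sectOn_map_surjective U hS h1 W
    (res ((forg O).obj ((ModSite.sectOn O U).obj S.X₃)) g y)
  exact ⟨x, hx⟩

omit [ModSite.HasPushOver O U] in
/-- the cokernel of a monomorphism from a totally acyclic module into an injective module is totally
acyclic. -/
theorem totallyAcyclic_X₃ {S : ShortComplex (ModSite.Mod O)} (hS : S.ShortExact)
    (h1 : CohCx.IsTotallyAcyclic (ModSite.toAb S.X₁)) [Injective S.X₂] :
    CohCx.IsTotallyAcyclic (ModSite.toAb S.X₃) := by
  have hS' : (S.map (SheafOfModules.toSheaf (ModSite.ringSh O))).ShortExact := by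
    have := (toSheaf_preservesLimits (ModSite.ringSh O)).preservesFiniteLimits
    have := (toSheaf_preservesColimits (ModSite.ringSh O)).preservesFiniteColimits
    exact hS.map_of_exact _
  have h2 : CohCx.IsTotallyAcyclic (ModSite.toAb S.X₂) :=
    ModAcyc.totallyAcyclic_of_injective (ModSite.ringSh O) S.X₂
  intro K p
  refine subsingleton_of_forall_eq 0 fun x₃ => ?_
  have hz : Subsingleton (Ext (Zs J K.obj) (S.map (SheafOfModules.toSheaf (ModSite.ringSh O))).X₁
      (p + 2)) := h1 K (p + 1)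
  obtain ⟨x₂, hx₂⟩ := Ext.covariant_sequence_exact₃ (Zs J K.obj) hS' x₃ (n₁ := p + 2) rfl
    (Subsingleton.elim _ _)
  have hz2 : Subsingleton (Ext (Zs J K.obj) (S.map (SheafOfModules.toSheaf (ModSite.ringSh O))).X₂
      (p + 1)) := h2 K p
  rw [← hx₂, Subsingleton.elim x₂ 0, Ext.zero_comp]
  rfl


open Groth.Agent.H30 in
/-- `ℋ^q_Z(M) = 0` for `q > 0` when the underlying abelian sheaf of `M` is totally acyclic. -/
theorem isZero_HZsh_of_totallyAcyclic [HasInjectiveResolutions (ModSite.Mod O)]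
    (M : ModSite.Mod O) (hM : CohCx.IsTotallyAcyclic (ModSite.toAb M)) (q : ℕ) (hq : 1 ≤ q) :
    IsZero ((ModSite.HZsh O U q).obj M) := by
  let _ : HasDerivedCategory.{u + 1} (ModSite.Mod O) := HasDerivedCategory.standard _
  have := ModExt.enoughInjectives (ModSite.ringSh O)
  have : PreservesLimitsOfSize.{0, 0} (ModSite.sectOn O U) :=
    (QuotOnAdj.adj O U).rightAdjoint_preservesLimits
  have : PreservesFiniteLimits (ModSite.sectOn O U) :=
    PreservesLimitsOfSize.preservesFiniteLimits.{0, 0} _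
  have h := Adapted.acyclic_of_adapted (ModSite.sectOn O U)
    (fun G : ModSite.Mod O => CohCx.IsTotallyAcyclic (ModSite.toAb G))
    (fun S hS h1 h2 => ⟨@totallyAcyclic_X₃ _ _ _ _ S hS h1 h2, epi_sectOn_map U hS h1⟩) M hM
  exact h q (by omega)

end Groth.Agent.H31.SectOnAcyc
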