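import Groth.Agent.S6160
import Groth.Agent.H31.SectOnAcyc
import Groth.Agent.H31.AcycComp
import Groth.Agent.H31.PostDerived
import Groth.Agent.H30.GrothSSExt

set_option autoImplicit false
universe u
open CategoryTheory Limits Opposite

namespace Groth.Agent.H31.HZResScalars

open Groth.Agent.H30 Groth.Agent.H45

variable {C : Type u} [SmallCategory C] {J : GrothendieckTopology C}
  {O O' : Sheaf J CommRingCat.{u}} (φ : O ⟶ O') (U : C)

/-- restriction of scalars along `φ`. -/
noncomputable abbrev R : ModSite.Mod O' ⥤ ModSite.Mod O :=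
  SheafOfModules.restrictScalars ((sheafCompose J (forget₂ CommRingCat.{u} RingCat.{u})).map φ)

instance : PreservesFiniteLimits (R φ) :=
  haveI := (Groth.Agent.S6160.result
    ((sheafCompose J (forget₂ CommRingCat.{u} RingCat.{u})).map φ)).1
  PreservesLimitsOfSize.preservesFiniteLimits.{u, u} _

instance : PreservesFiniteColimits (R φ) :=
  haveI := (Groth.Agent.S6160.result
    ((sheafCompose J (forget₂ CommRingCat.{u} RingCat.{u})).map φ)).2.1
  PreservesColimitsOfSize.preservesFiniteColimits.{u, u} _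

variable {φ} in
/-- vanishing of the restriction to `C/U`, elementwise. -/
lemma restr_map_eq_zero_iff {F N : ModSite.Mod O} (ψ : F ⟶ N) :
    (ModSite.restr O U).map ψ = 0 ↔
      ∀ (W : C) (_ : W ⟶ U) (y : F.val.obj (op W)), ψ.val.app (op W) y = 0 := by
  constructor
  · intro h W f y
    exact congrArg (fun t : (ModSite.restr O U).obj F ⟶ (ModSite.restr O U).obj N =>
      t.val.app (op (Over.mk f)) y) h
  · intro h
    apply SheafOfModules.hom_ext
    apply PresheafOfModules.hom_ext
    intro Y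
    apply ModuleCat.hom_ext
    apply LinearMap.ext
    intro (y : F.val.obj (op Y.unop.left))
    show ψ.val.app (op Y.unop.left) y = 0
    exact h _ Y.unop.hom y

variable [ModSite.HasPushOver O U] [ModSite.HasPushOver O' U]

/-- the comparison `res(Γ'_Z T') ⟶ Γ_Z(res T')`. -/
noncomputable def aApp (T' : ModSite.Mod O') :
    (R φ).obj ((ModSite.sectOn O' U).obj T') ⟶ (ModSite.sectOn O U).obj ((R φ).obj T') :=
  kernel.lift _ ((R φ).map ((ModSite.sectOnι O' U).app T')) (by
    refine (QuotOnAdj.comp_unit_eq_zero_iff O U _).2 ((restr_map_eq_zero_iff U _).2 ?_)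
    intro W f y
    have h0 : (ModSite.sectOnι O' U).app T' ≫ (ModSite.restrPushOverAdj O' U).unit.app T' = 0 :=
      kernel.condition _
    exact (restr_map_eq_zero_iff U _).1 ((QuotOnAdj.comp_unit_eq_zero_iff O' U _).1 h0) W f y)

lemma aApp_ι (T' : ModSite.Mod O') :
    aApp φ U T' ≫ (ModSite.sectOnι O U).app ((R φ).obj T') =
      (R φ).map ((ModSite.sectOnι O' U).app T') :=
  kernel.lift_ι _ _ _

lemma aApp_naturality {T' T'' : ModSite.Mod O'} (g : T' ⟶ T'') :
    (R φ).map ((ModSite.sectOn O' U).map g) ≫ aApp φ U T'' =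
      aApp φ U T' ≫ (ModSite.sectOn O U).map ((R φ).map g) := by
  rw [← cancel_mono ((ModSite.sectOnι O U).app ((R φ).obj T''))]
  have n1 : (ModSite.sectOn O U).map ((R φ).map g) ≫ (ModSite.sectOnι O U).app ((R φ).obj T'') =
      (ModSite.sectOnι O U).app ((R φ).obj T') ≫ (R φ).map g :=
    (ModSite.sectOnι O U).naturality ((R φ).map g)
  have n2 : (ModSite.sectOn O' U).map g ≫ (ModSite.sectOnι O' U).app T'' =
      (ModSite.sectOnι O' U).app T' ≫ g := (ModSite.sectOnι O' U).naturality g
  rw [Category.assoc, aApp_ι, Category.assoc, n1, ← Category.assoc, aApp_ι, ← Functor.map_comp,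
    n2, Functor.map_comp]

instance mono_aApp (T' : ModSite.Mod O') : Mono (aApp φ U T') := by
  have : Mono ((R φ).map ((ModSite.sectOnι O' U).app T')) := inferInstance
  have : Mono (aApp φ U T' ≫ (ModSite.sectOnι O U).app ((R φ).obj T')) := by
    rw [aApp_ι]; infer_instance
  exact mono_of_mono (aApp φ U T') ((ModSite.sectOnι O U).app ((R φ).obj T'))

instance epi_aApp (T' : ModSite.Mod O') : Epi (aApp φ U T') := by
  apply RestrExact.epi_of_locSurj
  intro V y
  refine ⟨⊤, J.top_mem V, fun W g _ => ?_⟩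
  let y' : ((ModSite.sectOn O U).obj ((R φ).obj T')).val.obj (op W) :=
    ((ModSite.sectOn O U).obj ((R φ).obj T')).val.map g.op y
  let s : T'.val.obj (op W) := ((ModSite.sectOnι O U).app ((R φ).obj T')).val.app (op W) y'
  have hs : ∀ (W' : C) (k : W' ⟶ W), Nonempty (W' ⟶ U) → T'.val.map k.op s = 0 := by
    intro W' k hk
    exact (FreeOnGen.exists_sectOn_iff O W U ((R φ).obj T') s).1 ⟨y', rfl⟩ W' k hk
  obtain ⟨x, hx⟩ := (FreeOnGen.exists_sectOn_iff O' W U T' s).2 hs
  refine ⟨x, ?_⟩
  apply QuotOnExact.injective_of_mono ((ModSite.sectOnι O U).app ((R φ).obj T')) W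
  have e1 : ((ModSite.sectOnι O U).app ((R φ).obj T')).val.app (op W)
      ((aApp φ U T').val.app (op W) x) =
      ((R φ).map ((ModSite.sectOnι O' U).app T')).val.app (op W) x :=
    congrArg (fun t : (R φ).obj ((ModSite.sectOn O' U).obj T') ⟶ (R φ).obj T' =>
      t.val.app (op W) x) (aApp_ι φ U T')
  exact e1.trans hx

instance isIso_aApp (T' : ModSite.Mod O') : IsIso (aApp φ U T') := isIso_of_mono_of_epi _

/-- `Γ'_Z ⋙ res ≅ res ⋙ Γ_Z`. -/
noncomputable def baseIso : ModSite.sectOn O' U ⋙ R φ ≅ R φ ⋙ ModSite.sectOn O U :=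
  NatIso.ofComponents (fun T' => asIso (aApp φ U T')) (fun g => aApp_naturality φ U g)

variable [HasInjectiveResolutions (ModSite.Mod O)] [HasInjectiveResolutions (ModSite.Mod O')]

/-- `ℋ^q_Z` commutes with restriction of scalars. -/
noncomputable def HZshResIso (q : ℕ) :
    ModSite.HZsh O' U q ⋙ R φ ≅ R φ ⋙ ModSite.HZsh O U q :=
  haveI := ModExt.enoughInjectives (ModSite.ringSh O)
  haveI : PreservesLimitsOfSize.{0, 0} (ModSite.sectOn O U) :=
    (QuotOnAdj.adj O U).rightAdjoint_preservesLimits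
  haveI : PreservesFiniteLimits (ModSite.sectOn O U) :=
    PreservesLimitsOfSize.preservesFiniteLimits.{0, 0} _
  (PostDerived.rightDerivedPostIso (ModSite.sectOn O' U) (R φ) q).symm ≪≫
    GrothSSExt.rightDerivedIsoOfIso (baseIso φ U) q ≪≫
    AcycComp.rightDerivedCompIso (R φ) (ModSite.sectOn O U)
      (fun Q _ i hi => SectOnAcyc.isZero_HZsh_of_totallyAcyclic U ((R φ).obj Q)
        (ModAcyc.totallyAcyclic_of_injective (ModSite.ringSh O') Q) i hi) q

end Groth.Agent.H31.HZResScalars
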