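import Mathlib.CategoryTheory.Limits.Presheaf
import Mathlib.CategoryTheory.Functor.KanExtension.Adjunction

set_option autoImplicit false
open CategoryTheory CategoryTheory.Limits
universe u

namespace Groth.Agent.H31

/-- Left Kan extension along `u.op` sends representables to representables, naturally. -/
noncomputable def lanYonedaIso {C : Type u} [SmallCategory C] {C' : Type u} [SmallCategory C']
    (u : C ⥤ C') :
    u ⋙ yoneda ≅ yoneda ⋙ (u.op.lan : (Cᵒᵖ ⥤ Type u) ⥤ (C'ᵒᵖ ⥤ Type u)) :=
  (Functor.isoWhiskerLeft u (uliftYonedaIsoYoneda.{u}).symm) ≪≫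
      Presheaf.compULiftYonedaIsoULiftYonedaCompLan.{u} u ≪≫
      Functor.isoWhiskerRight (uliftYonedaIsoYoneda.{u}) u.op.lan

end Groth.Agent.H31
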