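import Mathlib
import Groth.Agent.H31.LanYoneda

set_option autoImplicit false
open CategoryTheory CategoryTheory.Limits
universe u

namespace Groth.Agent.H31

theorem lan_injective_of_faithful_repr {C : Type u} [SmallCategory C] {C' : Type u}
    [SmallCategory C'] (u : C ⥤ C') [u.Faithful] (X : C) (G : Cᵒᵖ ⥤ Type u)
    (PG : IndObjectPresentation G) (a b : yoneda.obj X ⟶ G)
    (hab : (u.op.lan : (Cᵒᵖ ⥤ Type u) ⥤ (C'ᵒᵖ ⥤ Type u)).map a =
      (u.op.lan : (Cᵒᵖ ⥤ Type u) ⥤ (C'ᵒᵖ ⥤ Type u)).map b) : a = b := by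
  let L : (Cᵒᵖ ⥤ Type u) ⥤ (C'ᵒᵖ ⥤ Type u) := u.op.lan
  let e := Groth.Agent.H31.lanYonedaIso u
  -- write a and b through the presentation
  have hc := isColimitOfPreserves ((evaluation _ _).obj (Opposite.op X)) PG.isColimit
  obtain ⟨j, a', ha'⟩ := Types.jointly_surjective_of_isColimit hc (yonedaEquiv a)
  obtain ⟨j', b', hb'⟩ := Types.jointly_surjective_of_isColimit hc (yonedaEquiv b)
  have ha : a = yoneda.map a' ≫ PG.ι.app j := by
    apply yonedaEquiv.injective
    rw [yonedaEquiv_comp, yonedaEquiv_yoneda_map]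
    exact ha'.symm
  have hb : b = yoneda.map b' ≫ PG.ι.app j' := by
    apply yonedaEquiv.injective
    rw [yonedaEquiv_comp, yonedaEquiv_yoneda_map]
    exact hb'.symm
  -- the colimit after applying L and evaluating at u X
  have hpres : PreservesColimitsOfSize.{u, u} L :=
    (u.op.lanAdjunction (Type u)).leftAdjoint_preservesColimits
  have hcL := isColimitOfPreserves ((evaluation _ _).obj (Opposite.op (u.obj X)))
    (isColimitOfPreserves L PG.isColimit)
  let ξ : (L.obj (yoneda.obj X)).obj (Opposite.op (u.obj X)) := yonedaEquiv (e.hom.app X)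
  have hξ : ∀ {Y : C} (m : X ⟶ Y), ((L.map (yoneda.map m)).app (Opposite.op (u.obj X))) ξ =
      yonedaEquiv (yoneda.map (u.map m) ≫ e.hom.app Y) := by
    intro Y m
    have := e.hom.naturality m
    simp only [Functor.comp_map] at this
    rw [this, yonedaEquiv_comp]
  let xa := ((L.map (yoneda.map a')).app (Opposite.op (u.obj X))) ξ
  let xb := ((L.map (yoneda.map b')).app (Opposite.op (u.obj X))) ξ
  have heq : (((evaluation _ _).obj (Opposite.op (u.obj X))).mapCocone
      (L.mapCocone (Cocone.mk G PG.ι))).ι.app j xa =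
      (((evaluation _ _).obj (Opposite.op (u.obj X))).mapCocone
      (L.mapCocone (Cocone.mk G PG.ι))).ι.app j' xb := by
    show ((L.map (PG.ι.app j)).app _) (((L.map (yoneda.map a')).app _) ξ) =
      ((L.map (PG.ι.app j')).app _) (((L.map (yoneda.map b')).app _) ξ)
    have e1 : ((L.map (PG.ι.app j)).app (Opposite.op (u.obj X)))
        (((L.map (yoneda.map a')).app (Opposite.op (u.obj X))) ξ) =
        ((L.map a).app (Opposite.op (u.obj X))) ξ := by
      rw [ha, L.map_comp]; rfl
    have e2 : ((L.map (PG.ι.app j')).app (Opposite.op (u.obj X)))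
        (((L.map (yoneda.map b')).app (Opposite.op (u.obj X))) ξ) =
        ((L.map b).app (Opposite.op (u.obj X))) ξ := by
      rw [hb, L.map_comp]; rfl
    rw [e1, e2]
    show ((u.op.lan.map a).app _) ξ = ((u.op.lan.map b).app _) ξ
    rw [hab]
  obtain ⟨k, f, g, hfg⟩ := (Types.FilteredColimit.isColimit_eq_iff _ hcL).mp heq
  have hfg' : ((L.map (yoneda.map (a' ≫ PG.F.map f))).app (Opposite.op (u.obj X))) ξ =
      ((L.map (yoneda.map (b' ≫ PG.F.map g))).app (Opposite.op (u.obj X))) ξ := by
    rw [yoneda.map_comp, yoneda.map_comp, L.map_comp, L.map_comp]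
    exact hfg
  rw [hξ, hξ] at hfg'
  have h1 := yonedaEquiv.injective hfg'
  rw [cancel_mono] at h1
  have h2 : a' ≫ PG.F.map f = b' ≫ PG.F.map g := u.map_injective (yoneda.map_injective h1)
  have wj : PG.ι.app j = yoneda.map (PG.F.map f) ≫ PG.ι.app k := by
    have := PG.ι.naturality f
    simp only [Functor.comp_map, Functor.const_obj_map] at this
    exact this.symm
  have wj' : PG.ι.app j' = yoneda.map (PG.F.map g) ≫ PG.ι.app k := by
    have := PG.ι.naturality g
    simp only [Functor.comp_map, Functor.const_obj_map] at this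
    exact this.symm
  rw [ha, hb, wj, wj', ← Category.assoc, ← Category.assoc, ← yoneda.map_comp, ← yoneda.map_comp, h2]


/-- If `u` is faithful then left Kan extension along `u.op` is injective on morphisms between
ind-objects. -/
theorem lan_injective_of_faithful {C : Type u} [SmallCategory C] {C' : Type u}
    [SmallCategory C'] (u : C ⥤ C') [u.Faithful] (F G : Cᵒᵖ ⥤ Type u)
    (hF : IsIndObject F) (hG : IsIndObject G) :
    Function.Injective (fun φ : F ⟶ G =>
      (u.op.lan : (Cᵒᵖ ⥤ Type u) ⥤ (C'ᵒᵖ ⥤ Type u)).map φ) := by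
  obtain ⟨⟨PF⟩⟩ := hF
  obtain ⟨⟨PG⟩⟩ := hG
  intro φ ψ hφψ
  apply PF.isColimit.hom_ext
  intro i
  apply lan_injective_of_faithful_repr u (PF.F.obj i) G PG
  show u.op.lan.map (PF.ι.app i ≫ φ) = u.op.lan.map (PF.ι.app i ≫ ψ)
  rw [Functor.map_comp, Functor.map_comp]
  exact congrArg (fun t => u.op.lan.map (PF.ι.app i) ≫ t) hφψ

end Groth.Agent.H31
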