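import Groth.Agent.H31.PushHU
import Groth.Agent.H30.GrothSSExt

namespace Groth.Agent.H31.LeraySS

open CategoryTheory Abelian Limits Opposite
open Groth.Agent.H31.SieveExt Groth.Agent.H31.LocTriv Groth.Agent.H31.PushAdj

universe u

section sect

variable {D : Type u} [SmallCategory D] (K : GrothendieckTopology D)

/-- `Hom(ℤ_V, G) ≃ G(V)`. -/
noncomputable def sectEquiv (V : D) (G : Sheaf K AddCommGrpCat.{u}) :
    (ZX K V ⟶ G) ≃ (G.obj ⋙ forget AddCommGrpCat.{u}).obj (op V) :=
  (homEquiv K (yoneda.obj V) G).trans yonedaEquiv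

lemma sectEquiv_naturality (V : D) {G G' : Sheaf K AddCommGrpCat.{u}} (g : G ⟶ G')
    (x : ZX K V ⟶ G) :
    sectEquiv K V G' (x ≫ g) = g.hom.app (op V) (sectEquiv K V G x) := by
  dsimp only [sectEquiv, Equiv.trans_apply]
  rw [homEquiv_naturality, yonedaEquiv_comp]
  rfl

end sect

variable {C D : Type u} [SmallCategory C] [SmallCategory D]
  {J : GrothendieckTopology C} {K : GrothendieckTopology D} {u : D ⥤ C} [u.IsContinuous K J]

variable (J K u) in
/-- `Hom(ℤ_V, u_* F) ≃ Hom(ℤ_{uV}, F)`. -/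
noncomputable def sigma (V : D) (F : Sheaf J AddCommGrpCat.{u}) :
    (ZX K V ⟶ (CohSite.push J K u).obj F) ≃ (ZX J (u.obj V) ⟶ F) :=
  (sectEquiv K V _).trans (sectEquiv J (u.obj V) F).symm

lemma sigma_naturality (V : D) {F F' : Sheaf J AddCommGrpCat.{u}} (g : F ⟶ F')
    (x : ZX K V ⟶ (CohSite.push J K u).obj F) :
    sigma J K u V F' (x ≫ (CohSite.push J K u).map g) = sigma J K u V F x ≫ g := by
  apply (sectEquiv J (u.obj V) F').injective
  rw [sectEquiv_naturality]
  dsimp only [sigma, Equiv.trans_apply]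
  refine ((sectEquiv J (u.obj V) F').apply_symm_apply _).trans ?_
  refine Eq.trans ?_ (congrArg (fun t => g.hom.app (op (u.obj V)) t)
    ((sectEquiv J (u.obj V) F).apply_symm_apply _).symm)
  exact sectEquiv_naturality K V ((CohSite.push J K u).map g) x

variable (J K u) in
/-- the universal map `ℤ_V ⟶ u_* ℤ_{uV}`. -/
noncomputable def cV (V : D) : ZX K V ⟶ (CohSite.push J K u).obj (ZX J (u.obj V)) :=
  (sigma J K u V _).symm (𝟙 _)

lemma sigma_symm_eq (V : D) (F : Sheaf J AddCommGrpCat.{u}) (y : ZX J (u.obj V) ⟶ F) :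
    (sigma J K u V F).symm y = cV J K u V ≫ (CohSite.push J K u).map y := by
  apply (sigma J K u V F).injective
  rw [Equiv.apply_symm_apply, sigma_naturality, cV, Equiv.apply_symm_apply, Category.id_comp]

variable (J K u) in
/-- `Hom(ℤ_{uV}, F) ≃+ Hom(ℤ_V, u_* F)`. -/
noncomputable def sigmaAdd (V : D) (F : Sheaf J AddCommGrpCat.{u}) :
    (ZX J (u.obj V) ⟶ F) ≃+ (ZX K V ⟶ (CohSite.push J K u).obj F) :=
  { (sigma J K u V F).symm with
    map_add' := fun y y' => by
      show (sigma J K u V F).symm (y + y') = (sigma J K u V F).symm y + (sigma J K u V F).symm y'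
      rw [sigma_symm_eq, sigma_symm_eq, sigma_symm_eq, Functor.map_add, Preadditive.comp_add] }

lemma sigmaAdd_apply (V : D) (F : Sheaf J AddCommGrpCat.{u}) (y : ZX J (u.obj V) ⟶ F) :
    sigmaAdd J K u V F y = cV J K u V ≫ (CohSite.push J K u).map y := sigma_symm_eq V F y

variable (J K u) in
/-- `Γ(V, u_* -) ≅ Γ(uV, -)` as functors to abelian groups. -/
noncomputable def tau (V : D) :
    CohSite.push J K u ⋙ preadditiveCoyoneda.obj (op (ZX K V)) ≅
      preadditiveCoyoneda.obj (op (ZX J (u.obj V))) :=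
  (NatIso.ofComponents (fun F => (sigmaAdd J K u V F).toAddCommGrpIso) (by
    intro F F' g
    ext y
    show sigmaAdd J K u V F' (y ≫ g) = sigmaAdd J K u V F y ≫ (CohSite.push J K u).map g
    rw [sigmaAdd_apply, sigmaAdd_apply, Functor.map_comp, Category.assoc])).symm

open Groth.Agent.H30 in
theorem leray [PreservesFiniteLimits (u.sheafPullback (Type u) K J)]
    (M : Sheaf J AddCommGrpCat.{u}) (V : D) :
    ∃ (E : E₂CohomologicalSpectralSequence AddCommGrpCat.{u})
      (a : SpSeq.Abutment E (fun n : ℤ =>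
        if 0 ≤ n then AddCommGrpCat.of (CohSite.HU M n.toNat (u.obj V)) else AddCommGrpCat.of PUnit.{u + 1})),
      (∀ n, a.IsFinite n) ∧ SpSeq.IsBounded E ∧
      ∀ p q : ℤ, Nonempty ((E.page 2 le_rfl).X (p, q) ≅
        (if 0 ≤ p ∧ 0 ≤ q then AddCommGrpCat.of (CohSite.HU ((CohSite.Rpush J K u q.toNat).obj M) p.toNat V)
         else AddCommGrpCat.of PUnit.{u + 1})) := by
  let _ : HasDerivedCategory.{u + 1} (Sheaf J AddCommGrpCat.{u}) := HasDerivedCategory.standard _
  let _ : HasDerivedCategory.{u + 1} (Sheaf K AddCommGrpCat.{u}) := HasDerivedCategory.standard _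
  let _ : HasDerivedCategory.{u + 1} AddCommGrpCat.{u} := HasDerivedCategory.standard _
  have hT : ∀ Q : Sheaf J AddCommGrpCat.{u}, Injective Q → ∀ q : ℕ, 0 < q →
      IsZero (((preadditiveCoyoneda.obj (op (ZX K V))).rightDerived q).obj
        ((CohSite.push J K u).obj Q)) := by
    intro Q hQ q hq
    obtain ⟨e⟩ := ExtDerived.nonempty_iso_rightDerived (ZX K V) q ((CohSite.push J K u).obj Q)
    refine IsZero.of_iso ?_ e.symm
    obtain ⟨q', rfl⟩ : ∃ q', q = q' + 1 := ⟨q - 1, by omega⟩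
    have : Subsingleton (Ext (ZX K V) ((CohSite.push J K u).obj Q) (q' + 1)) :=
      PushHU.acyclic_of_totallyAcyclic _
        (PushAcyc.isTotallyAcyclic_push _ (PushHU.totallyAcyclic_of_injective Q)) _ q'
    exact AddCommGrpCat.isZero_of_subsingleton _
  exact GrothSSExt.grothendieck_spectralSequence' (CohSite.push J K u)
    (preadditiveCoyoneda.obj (op (ZX K V))) hT M
    (fun n => AddCommGrpCat.of (CohSite.HU M n (u.obj V)))
    (fun p q => AddCommGrpCat.of (CohSite.HU ((CohSite.Rpush J K u q).obj M) p V))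
    (AddCommGrpCat.of PUnit.{u + 1}) (AddCommGrpCat.isZero_of_subsingleton _)
    (fun n => ⟨(GrothSSExt.rightDerivedIsoOfIso (tau J K u V) n).app M ≪≫
      (ExtDerived.nonempty_iso_rightDerived _ n M).some.symm⟩)
    (fun p q => ⟨(ExtDerived.nonempty_iso_rightDerived _ p _).some.symm⟩)

end Groth.Agent.H31.LeraySS
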