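import Groth.Agent.H31.LeraySS
import Groth.Agent.H31.PushRD

namespace Groth.Agent.H31.LeraySS

open CategoryTheory Abelian Limits Opposite ZeroObject
open Groth.Agent.H31.SieveExt Groth.Agent.H31.LocTriv Groth.Agent.H31.PushAdj

universe u

variable {C D B : Type u} [SmallCategory C] [SmallCategory D] [SmallCategory B]
  (J : GrothendieckTopology C) (K : GrothendieckTopology D) (L : GrothendieckTopology B)
  (u : D ⥤ C) [u.IsContinuous K J] (w : B ⥤ D) [w.IsContinuous L K] [(w ⋙ u).IsContinuous L J]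

/-- `w_* u_* ≅ (u w)_*`. -/
noncomputable def pushComp :
    CohSite.push J K u ⋙ CohSite.push K L w ≅ CohSite.push J L (w ⋙ u) :=
  NatIso.ofComponents (fun F => Iso.refl _) (by
    intro F F' g
    exact (Category.comp_id _).trans (Category.id_comp _).symm)

open Groth.Agent.H30 in
theorem relLeray [PreservesFiniteLimits (u.sheafPullback (Type u) K J)]
    (M : Sheaf J AddCommGrpCat.{u}) :
    ∃ (E : E₂CohomologicalSpectralSequence (Sheaf L AddCommGrpCat.{u}))
      (a : SpSeq.Abutment E (fun n : ℤ =>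
        if 0 ≤ n then (CohSite.Rpush J L (w ⋙ u) n.toNat).obj M else 0)),
      (∀ n, a.IsFinite n) ∧ SpSeq.IsBounded E ∧
      ∀ p q : ℤ, Nonempty ((E.page 2 le_rfl).X (p, q) ≅
        (if 0 ≤ p ∧ 0 ≤ q then (CohSite.Rpush K L w p.toNat).obj ((CohSite.Rpush J K u q.toNat).obj M) else 0)) := by
  let _ : HasDerivedCategory.{u + 1} (Sheaf J AddCommGrpCat.{u}) := HasDerivedCategory.standard _
  let _ : HasDerivedCategory.{u + 1} (Sheaf K AddCommGrpCat.{u}) := HasDerivedCategory.standard _
  let _ : HasDerivedCategory.{u + 1} (Sheaf L AddCommGrpCat.{u}) := HasDerivedCategory.standard _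
  have hT : ∀ Q : Sheaf J AddCommGrpCat.{u}, Injective Q → ∀ q : ℕ, 0 < q →
      IsZero (((CohSite.push K L w).rightDerived q).obj ((CohSite.push J K u).obj Q)) := by
    intro Q hQ q hq
    obtain ⟨q', rfl⟩ : ∃ q', q = q' + 1 := ⟨q - 1, by omega⟩
    exact PushRD.isZero_Rpush_of_totallyAcyclic _
      (PushAcyc.isTotallyAcyclic_push _ (PushHU.totallyAcyclic_of_injective Q)) q'
  exact GrothSSExt.grothendieck_spectralSequence' (CohSite.push J K u) (CohSite.push K L w) hT M
    (fun n => (CohSite.Rpush J L (w ⋙ u) n).obj M)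
    (fun p q => (CohSite.Rpush K L w p).obj ((CohSite.Rpush J K u q).obj M))
    0 (isZero_zero _)
    (fun n => ⟨(GrothSSExt.rightDerivedIsoOfIso (pushComp J K L u w) n).app M⟩)
    (fun p q => ⟨Iso.refl _⟩)

end Groth.Agent.H31.LeraySS
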