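import Mathlib.CategoryTheory.Limits.Shapes.Equalizers
import Mathlib.CategoryTheory.Limits.Shapes.BinaryProducts
import Mathlib.CategoryTheory.Limits.Shapes.Products
import Mathlib.CategoryTheory.Limits.HasLimits

set_option autoImplicit false
open CategoryTheory CategoryTheory.Limits Opposite
universe w v₁ v₂ u₁ u₂

namespace Groth.Agent.H31.LimitEqualizer

variable {I : Type u₁} [Category.{v₁} I] {C : Type u₂} [Category.{v₂} C] {A : Type w} (i : A → I)
  [∀ α β, HasBinaryProduct (i α) (i β)]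
  (hcov : ∀ j : I, ∃ α, Nonempty (j ⟶ i α))
  (F : Iᵒᵖ ⥤ C)
  [HasProduct (fun α => F.obj (op (i α)))]
  [HasProduct (fun p : A × A => F.obj (op (i p.1 ⨯ i p.2)))]

/-- first map -/
noncomputable abbrev mapA : (∏ᶜ (fun α => F.obj (op (i α)))) ⟶
    ∏ᶜ (fun p : A × A => F.obj (op (i p.1 ⨯ i p.2))) :=
  Pi.lift (fun p : A × A =>
    Pi.π (fun α => F.obj (op (i α))) p.1 ≫ F.map (prod.fst : i p.1 ⨯ i p.2 ⟶ i p.1).op)

/-- second map -/
noncomputable abbrev mapB : (∏ᶜ (fun α => F.obj (op (i α)))) ⟶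
    ∏ᶜ (fun p : A × A => F.obj (op (i p.1 ⨯ i p.2))) :=
  Pi.lift (fun p : A × A =>
    Pi.π (fun α => F.obj (op (i α))) p.2 ≫ F.map (prod.snd : i p.1 ⨯ i p.2 ⟶ i p.2).op)

variable {i F}

theorem indep {T : C} (t : T ⟶ ∏ᶜ (fun α => F.obj (op (i α))))
    (ht : t ≫ mapA i F = t ≫ mapB i F) {j : I} {α β : A} (f : j ⟶ i α) (g : j ⟶ i β) :
    t ≫ Pi.π (fun α => F.obj (op (i α))) α ≫ F.map f.op =
      t ≫ Pi.π (fun α => F.obj (op (i α))) β ≫ F.map g.op := by
  have h1 : t ≫ Pi.π (fun α => F.obj (op (i α))) α ≫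
      F.map (prod.fst : i α ⨯ i β ⟶ i α).op =
      t ≫ Pi.π (fun α => F.obj (op (i α))) β ≫ F.map (prod.snd : i α ⨯ i β ⟶ i β).op := by
    have := congrArg (· ≫ Pi.π (fun p : A × A => F.obj (op (i p.1 ⨯ i p.2))) (α, β)) ht
    simpa using this
  have hf : F.map f.op = F.map (prod.fst : i α ⨯ i β ⟶ i α).op ≫ F.map (prod.lift f g).op := by
    rw [← F.map_comp, ← op_comp, prod.lift_fst]
  have hg : F.map g.op = F.map (prod.snd : i α ⨯ i β ⟶ i β).op ≫ F.map (prod.lift f g).op := by
    rw [← F.map_comp, ← op_comp, prod.lift_snd]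
  rw [hf, hg]
  simp only [← Category.assoc]
  congr 1
  simpa using h1

/-- The cone over `F` defined by a map to the product equalizing the two maps. -/
noncomputable abbrev coneOf {T : C} (t : T ⟶ ∏ᶜ (fun α => F.obj (op (i α))))
    (ht : t ≫ mapA i F = t ≫ mapB i F) : Cone F where
  pt := T
  π :=
    { app := fun j => t ≫ Pi.π (fun α => F.obj (op (i α))) (hcov j.unop).choose ≫
        F.map ((hcov j.unop).choose_spec.some).op
      naturality := by
        intro j j' h
        simp only [Functor.const_obj_obj, Functor.const_obj_map, Category.id_comp,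
          Category.assoc]
        rw [← F.map_comp]
        have : ((hcov j.unop).choose_spec.some).op ≫ h =
            (h.unop ≫ (hcov j.unop).choose_spec.some).op := by
          simp
        rw [this]
        exact indep t ht _ _ }

theorem coneOf_π_app {T : C} (t : T ⟶ ∏ᶜ (fun α => F.obj (op (i α))))
    (ht : t ≫ mapA i F = t ≫ mapB i F) {j : I} {α : A} (f : j ⟶ i α) :
    (coneOf hcov t ht).π.app (op j) = t ≫ Pi.π (fun α => F.obj (op (i α))) α ≫ F.map f.op :=
  indep t ht _ _

theorem coneOf_π_app_i {T : C} (t : T ⟶ ∏ᶜ (fun α => F.obj (op (i α))))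
    (ht : t ≫ mapA i F = t ≫ mapB i F) (α : A) :
    (coneOf hcov t ht).π.app (op (i α)) = t ≫ Pi.π (fun α => F.obj (op (i α))) α := by
  rw [coneOf_π_app hcov t ht (𝟙 (i α)), op_id, F.map_id, Category.comp_id]

/-- A cone over `F` gives a map to the product equalizing the two maps. -/
theorem cone_lift_eq (s : Cone F) :
    Pi.lift (fun α => s.π.app (op (i α))) ≫ mapA i F =
      Pi.lift (fun α => s.π.app (op (i α))) ≫ mapB i F := by
  apply Pi.hom_ext
  intro p
  simp only [Category.assoc, Pi.lift_π, Pi.lift_π_assoc]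
  rw [s.w, s.w]

variable [HasEqualizers C]

/-- The equalizer cone is a limit cone. -/
noncomputable def isLimitConeOf :
    IsLimit (coneOf hcov (equalizer.ι (mapA i F) (mapB i F)) (equalizer.condition _ _)) where
  lift s := equalizer.lift (Pi.lift (fun α => s.π.app (op (i α)))) (cone_lift_eq s)
  fac := by
    intro s j
    obtain ⟨α, ⟨f⟩⟩ := hcov j.unop
    have : j = op j.unop := rfl
    rw [this, coneOf_π_app hcov _ _ f]
    simp only [equalizer.lift_ι_assoc, Pi.lift_π_assoc]
    exact s.w f.op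
  uniq := by
    intro s m hm
    apply equalizer.hom_ext
    apply Pi.hom_ext
    intro α
    simp only [Category.assoc, equalizer.lift_ι, Pi.lift_π]
    rw [← hm (op (i α)), coneOf_π_app_i]

end Groth.Agent.H31.LimitEqualizer
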