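import Mathlib.RingTheory.Ideal.Over
import Mathlib.RingTheory.Localization.AtPrime.Basic

set_option autoImplicit false
universe u v

namespace Groth.Agent.H31

/-- If every prime of `S` whose contraction to `R` lies in `p` is contained in `q` (a prime over `p`),
then `S_p` is the localization of `S` at `q`. -/
theorem isLocalization_atPrime_of_forall_le {R : Type u} {S : Type v} [CommRing R] [CommRing S]
    [Algebra R S] (p : Ideal R) [p.IsPrime] (q : Ideal S) [q.IsPrime] [q.LiesOver p]
    (h : ∀ q' : Ideal S, q'.IsPrime → q'.under R ≤ p → q' ≤ q) :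
    IsLocalization.AtPrime (Localization (Algebra.algebraMapSubmonoid S p.primeCompl)) q := by
  let T := Localization (Algebra.algebraMapSubmonoid S p.primeCompl)
  refine IsLocalization.of_le (M := Algebra.algebraMapSubmonoid S p.primeCompl)
    (S := T) q.primeCompl ?_ ?_
  · rintro x ⟨r, hr, rfl⟩
    intro hx
    apply hr
    have : r ∈ q.under R := hx
    rw [← Ideal.over_def q p] at this
    exact this
  · intro s hs
    by_contra hnu
    obtain ⟨m, hm, hsm⟩ := exists_max_ideal_of_mem_nonunits (mem_nonunits_iff.2 hnu)
    have hmp : m.IsPrime := hm.isPrime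
    let q'' : Ideal S := m.comap (algebraMap S T)
    have hq'' : q''.IsPrime := Ideal.comap_isPrime _ _
    have hle : q''.under R ≤ p := by
      intro r hr
      by_contra hrp
      have hmem : algebraMap R S r ∈ Algebra.algebraMapSubmonoid S p.primeCompl := ⟨r, hrp, rfl⟩
      have hu : IsUnit (algebraMap S T (algebraMap R S r)) :=
        IsLocalization.map_units T ⟨_, hmem⟩
      have : algebraMap S T (algebraMap R S r) ∈ m := hr
      exact hm.ne_top (Ideal.eq_top_of_isUnit_mem _ this hu)
    exact hs (h q'' hq'' hle hsm)

end Groth.Agent.H31
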