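import Mathlib.RingTheory.Spectrum.Prime.Topology
import Mathlib.RingTheory.Localization.Defs
import Mathlib.Topology.NoetherianSpace
import Mathlib.Algebra.Ring.Prod
import Mathlib.RingTheory.Ideal.MinimalPrime.Basic

set_option autoImplicit false
universe u v

namespace Groth.Agent.H31

open PrimeSpectrum

/-- If the image of `Spec S⁻¹R → Spec R` is closed then every element of `S` becomes invertible
modulo the kernel: there is `r` with `r * s - 1` in the kernel. -/
theorem exists_mul_sub_one_mem_ker_of_isClosed_range {R : Type u} [CommRing R] (S : Submonoid R)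
    (A : Type v) [CommRing A] [Algebra R A] [IsLocalization S A]
    (hcl : IsClosed (Set.range (PrimeSpectrum.comap (algebraMap R A)))) (s : R) (hs : s ∈ S) :
    ∃ r : R, algebraMap R A r * algebraMap R A s = 1 := by
  have hrange : Set.range (PrimeSpectrum.comap (algebraMap R A)) =
      zeroLocus (RingHom.ker (algebraMap R A)) := by
    rw [← closure_range_comap, hcl.closure_eq]
  have htop : Ideal.span {s} ⊔ RingHom.ker (algebraMap R A) = ⊤ := by
    by_contra hne
    obtain ⟨m, hm, hle⟩ := Ideal.exists_le_maximal _ hne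
    have hmem : (⟨m, hm.isPrime⟩ : PrimeSpectrum R) ∈ zeroLocus (RingHom.ker (algebraMap R A)) := by
      rw [mem_zeroLocus]
      exact fun x hx => hle (Ideal.mem_sup_right hx)
    rw [← hrange, localization_comap_range A S] at hmem
    have hsm : s ∈ m := hle (Ideal.mem_sup_left (Ideal.subset_span rfl))
    exact Set.disjoint_left.1 hmem hs hsm
  have h1 : (1 : R) ∈ Ideal.span {s} ⊔ RingHom.ker (algebraMap R A) := by rw [htop]; trivial
  obtain ⟨a, ha, b, hb, hab⟩ := Submodule.mem_sup.1 h1
  obtain ⟨r, rfl⟩ := Ideal.mem_span_singleton'.1 ha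
  refine ⟨r, ?_⟩
  have := congrArg (algebraMap R A) hab
  rw [map_add, map_mul, map_one, (RingHom.mem_ker).1 hb, add_zero] at this
  exact this

theorem algebraMap_surjective_of_isClosed_range {R : Type u} [CommRing R] (S : Submonoid R)
    (A : Type v) [CommRing A] [Algebra R A] [IsLocalization S A]
    (hcl : IsClosed (Set.range (PrimeSpectrum.comap (algebraMap R A)))) :
    Function.Surjective (algebraMap R A) := by
  intro z
  obtain ⟨a, s, rfl⟩ := IsLocalization.exists_mk'_eq S z
  obtain ⟨r, hr⟩ := exists_mul_sub_one_mem_ker_of_isClosed_range S A hcl s s.2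
  refine ⟨a * r, ?_⟩
  rw [eq_comm, IsLocalization.mk'_eq_iff_eq_mul, map_mul, mul_assoc, hr, mul_one]


/-- If the range of `Spec S⁻¹R → Spec R` is clopen then `R ≅ S⁻¹R × R'`. -/
theorem exists_ringEquiv_prod_of_isClopen_range {R : Type u} [CommRing R] (S : Submonoid R)
    (A : Type v) [CommRing A] [Algebra R A] [IsLocalization S A]
    (hcl : IsClosed (Set.range (PrimeSpectrum.comap (algebraMap R A))))
    (hop : IsOpen (Set.range (PrimeSpectrum.comap (algebraMap R A)))) :
    ∃ (R' : Type u) (_ : CommRing R') (e : R ≃+* A × R'), ∀ x : R, (e x).1 = algebraMap R A x := by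
  obtain ⟨e, he, hZ⟩ := PrimeSpectrum.isClopen_iff.1 (⟨hcl, hop⟩ : IsClopen _)
  have hsurj := algebraMap_surjective_of_isClosed_range S A hcl
  -- (a) the image of `e` in `A` is `1`
  have ha : algebraMap R A e = 1 := by
    have hidem : algebraMap R A e * algebraMap R A e = algebraMap R A e := by
      rw [← map_mul, he.eq]
    have hunit : IsUnit (algebraMap R A e) := by
      by_contra hnu
      obtain ⟨m, hm, hem⟩ := exists_max_ideal_of_mem_nonunits (mem_nonunits_iff.2 hnu)
      have hmem : PrimeSpectrum.comap (algebraMap R A) ⟨m, hm.isPrime⟩ ∈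
          Set.range (PrimeSpectrum.comap (algebraMap R A)) := ⟨_, rfl⟩
      rw [hZ] at hmem
      exact hmem hem
    obtain ⟨u, hu⟩ := hunit
    rw [← hu] at hidem ⊢
    have := congrArg (fun z => (↑u⁻¹ : A) * z) hidem
    simp only [Units.inv_mul_cancel_left, Units.inv_mul] at this
    exact this
  -- (b) `e` kills the kernel
  have hb : ∀ x : R, algebraMap R A x = 0 → e * x = 0 := by
    intro x hx
    obtain ⟨s, hs⟩ := (IsLocalization.map_eq_zero_iff S A x).1 hx
    have hsub : zeroLocus {(s : R)} ⊆ zeroLocus {e} := by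
      intro P hP
      rw [mem_zeroLocus, Set.singleton_subset_iff] at hP ⊢
      by_contra heP
      have hPZ : P ∈ Set.range (PrimeSpectrum.comap (algebraMap R A)) := by
        rw [hZ]; exact heP
      rw [localization_comap_range A S] at hPZ
      exact Set.disjoint_left.1 hPZ s.2 hP
    rw [zeroLocus_subset_zeroLocus_singleton_iff] at hsub
    obtain ⟨n, hn⟩ := hsub
    obtain ⟨c, hc⟩ := Ideal.mem_span_singleton'.1 hn
    have h0 : e ^ n * x = 0 := by rw [← hc, mul_assoc, hs, mul_zero]
    cases n with
    | zero => rw [pow_zero, one_mul] at h0; rw [h0, mul_zero]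
    | succ k => rwa [he.pow_succ_eq] at h0
  refine ⟨R ⧸ Ideal.span {e}, inferInstance, ?_⟩
  let φ : R →+* A × (R ⧸ Ideal.span {e}) := (algebraMap R A).prod (Ideal.Quotient.mk _)
  have hinj : Function.Injective φ := by
    rw [injective_iff_map_eq_zero]
    intro x hx
    have h1 : algebraMap R A x = 0 := congrArg Prod.fst hx
    have h2 : Ideal.Quotient.mk (Ideal.span {e}) x = 0 := congrArg Prod.snd hx
    rw [Ideal.Quotient.eq_zero_iff_mem] at h2
    obtain ⟨c, rfl⟩ := Ideal.mem_span_singleton'.1 h2
    have h3 := hb _ h1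
    rw [mul_comm, mul_assoc, he.eq] at h3
    exact h3
  have hsurjφ : Function.Surjective φ := by
    rintro ⟨a', b'⟩
    obtain ⟨a, rfl⟩ := hsurj a'
    obtain ⟨b, rfl⟩ := Ideal.Quotient.mk_surjective b'
    refine ⟨e * a + (1 - e) * b, ?_⟩
    have h1 : algebraMap R A (e * a + (1 - e) * b) = algebraMap R A a := by
      rw [map_add, map_mul, map_mul, map_sub, ha, map_one, sub_self, zero_mul, add_zero, one_mul]
    have h2 : Ideal.Quotient.mk (Ideal.span {e}) (e * a + (1 - e) * b) =
        Ideal.Quotient.mk (Ideal.span {e}) b := by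
      rw [Ideal.Quotient.eq]
      have : e * a + (1 - e) * b - b = (a - b) * e := by ring
      rw [this]
      exact Ideal.mem_span_singleton'.2 ⟨_, rfl⟩
    exact Prod.ext h1 h2
  exact ⟨RingEquiv.ofBijective φ ⟨hinj, hsurjφ⟩, fun x => rfl⟩

theorem localization_range_eq_basicOpen_of_fg {R : Type u} [CommRing R] (S : Submonoid R)
    (A : Type v) [CommRing A] [Algebra R A] [IsLocalization S A] (hS : S.FG) :
    ∃ t : R, Set.range (PrimeSpectrum.comap (algebraMap R A)) = basicOpen t := by
  obtain ⟨T, hT⟩ := hS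
  refine ⟨∏ x ∈ T, x, ?_⟩
  rw [localization_comap_range A S]
  ext p
  simp only [Set.mem_ofPred_eq, SetLike.mem_coe, mem_basicOpen]
  constructor
  · intro hd ht
    have htS : (∏ x ∈ T, x) ∈ S := by
      rw [← hT]
      exact Submonoid.prod_mem _ (fun x hx => Submonoid.subset_closure hx)
    exact Set.disjoint_left.1 hd htS ht
  · intro ht
    rw [Set.disjoint_left]
    intro s hs hsp
    have hle : S ≤ p.asIdeal.primeCompl := by
      rw [← hT, Submonoid.closure_le]
      intro x hx hxp
      exact ht (Ideal.mem_of_dvd _ (Finset.dvd_prod_of_mem _ hx) hxp)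
    have : s ∉ p.asIdeal := hle hs
    exact this hsp


theorem localization_range_eq_basicOpen_of_noetherianSpace {R : Type u} [CommRing R]
    (S : Submonoid R) (A : Type v) [CommRing A] [Algebra R A] [IsLocalization S A]
    (hcl : IsClosed (Set.range (PrimeSpectrum.comap (algebraMap R A))))
    [TopologicalSpace.NoetherianSpace (PrimeSpectrum R)] :
    ∃ t : R, Set.range (PrimeSpectrum.comap (algebraMap R A)) = basicOpen t := by
  classical
  have hfin : (minimalPrimes R).Finite := by
    rw [← vanishingIdeal_irreducibleComponents]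
    exact TopologicalSpace.NoetherianSpace.finite_irreducibleComponents.image _
  let F : Finset (Ideal R) := hfin.toFinset
  let c : Ideal R → R := fun P => if h : ∃ s, s ∈ S ∧ s ∈ P then h.choose else 1
  have hcS : ∀ P, c P ∈ S := by
    intro P
    by_cases h : ∃ s, s ∈ S ∧ s ∈ P
    · simp only [c, dif_pos h]; exact h.choose_spec.1
    · simp only [c, dif_neg h]; exact S.one_mem
  have hcP : ∀ P, (∃ s, s ∈ S ∧ s ∈ P) → c P ∈ P := by
    intro P h
    simp only [c, dif_pos h]; exact h.choose_spec.2
  refine ⟨∏ P ∈ F, c P, ?_⟩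
  have hrange := localization_comap_range A S
  ext p
  constructor
  · intro hp
    rw [hrange] at hp
    have hd : Disjoint (S : Set R) p.asIdeal := hp
    show (∏ P ∈ F, c P) ∉ p.asIdeal
    intro ht
    exact Set.disjoint_left.1 hd (Submonoid.prod_mem _ (fun P _ => hcS P)) ht
  · intro ht
    have ht' : (∏ P ∈ F, c P) ∉ p.asIdeal := ht
    rw [hrange]
    show Disjoint (S : Set R) p.asIdeal
    rw [Set.disjoint_left]
    intro s hs hsp
    obtain ⟨P, hPmin, hPp⟩ := Ideal.exists_minimalPrimes_le (I := ⊥) (J := p.asIdeal) bot_le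
    have hPF : P ∈ F := hfin.mem_toFinset.2 hPmin
    by_cases h : ∃ s, s ∈ S ∧ s ∈ P
    · exact ht' (Ideal.mem_of_dvd _ (Finset.dvd_prod_of_mem _ hPF) (hPp (hcP P h)))
    · have hPprime : P.IsPrime := hPmin.1.1
      have hPZ : (⟨P, hPprime⟩ : PrimeSpectrum R) ∈
          Set.range (PrimeSpectrum.comap (algebraMap R A)) := by
        rw [hrange]
        show Disjoint (S : Set R) P
        rw [Set.disjoint_left]
        intro s hs hsP
        exact h ⟨s, hs, hsP⟩
      have hspec : (⟨P, hPprime⟩ : PrimeSpectrum R) ⤳ p :=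
        (le_iff_specializes _ _).1 hPp
      have hpZ := hspec.mem_closed hcl hPZ
      rw [hrange] at hpZ
      exact Set.disjoint_left.1 hpZ hs hsp

theorem exists_ringEquiv_prod_of_isClosed_range {R : Type u} [CommRing R] (S : Submonoid R)
    (A : Type v) [CommRing A] [Algebra R A] [IsLocalization S A]
    (hcl : IsClosed (Set.range (PrimeSpectrum.comap (algebraMap R A))))
    (h : TopologicalSpace.NoetherianSpace (PrimeSpectrum R) ∨ S.FG) :
    ∃ (R' : Type u) (_ : CommRing R') (e : R ≃+* A × R'), ∀ x : R, (e x).1 = algebraMap R A x := by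
  apply exists_ringEquiv_prod_of_isClopen_range S A hcl
  rcases h with h | h
  · obtain ⟨t, ht⟩ := localization_range_eq_basicOpen_of_noetherianSpace S A hcl
    rw [ht]
    exact (basicOpen t).2
  · obtain ⟨t, ht⟩ := localization_range_eq_basicOpen_of_fg S A h
    rw [ht]
    exact (basicOpen t).2

end Groth.Agent.H31
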