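import Groth.Prelude.Def_ModSite
import Groth.Agent.H45.SheafTensor.FlatExact
import Groth.Agent.H31.FlatAcyclic

/-!
# Flat modules on a ringed site: small additions to helper45's library
-/

open CategoryTheory Limits Opposite MonoidalCategory
universe u

namespace Groth.Agent.H31

open Groth.Agent.H45

variable {C : Type u} [SmallCategory C] {J : GrothendieckTopology C}

/-- A zero module is flat. -/
theorem isFlat_of_isZero (O : Sheaf J CommRingCat.{u}) (X : ModSite.Mod O) (hX : IsZero X) :
    ModSite.IsFlat X := by
  apply isFlat_of_forall_mono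
  intro E hE
  have : IsZero (((ModSite.tensorBi O).flip.obj X).obj E.X₁) :=
    Functor.map_isZero ((ModSite.tensorBi O).obj E.X₁) hX
  exact this.mono _

/-- Tensoring a bounded below acyclic complex of flat modules with any module stays acyclic. -/
theorem acyclic_tensor_of_isFlat (O : Sheaf J CommRingCat.{u}) (M : ChainComplex (ModSite.Mod O) ℤ)
    (F : ModSite.Mod O)
    (hb : ∃ i₀ : ℤ, ∀ i, i < i₀ → IsZero (M.X i)) (hM : ∀ i, ModSite.IsFlat (M.X i))
    (hac : M.Acyclic) :
    ((((ModSite.tensorBi O).flip.obj F).mapHomologicalComplex (ComplexShape.down ℤ)).obj M).Acyclic := by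
  have : PreservesFiniteColimits ((ModSite.tensorBi O).flip.obj F) :=
    PreservesColimitsOfSize.preservesFiniteColimits _
  exact acyclic_map_of_flatlike ((ModSite.tensorBi O).flip.obj F) ModSite.IsFlat
    (isFlat_of_isZero O)
    (fun S hS h2 h3 => isFlat_of_shortExact_of_isFlat_mid_right S hS h2 h3)
    (fun S hS h3 => mono_tensor_map_of_isFlat S hS h3 F) M hb hM hac

end Groth.Agent.H31
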