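import Groth.Prelude.Def_EGA4b
import Mathlib.RingTheory.Spectrum.Prime.RingHom
import Mathlib.Algebra.Algebra.Pi

set_option autoImplicit false
universe u v

namespace Groth.Agent.H31

theorem isDomain_isIntegrallyClosed_of_ringEquiv {A : Type u} {B : Type v} [CommRing A] [CommRing B]
    (e : A ≃+* B) (h : IsDomain A ∧ IsIntegrallyClosed A) : IsDomain B ∧ IsIntegrallyClosed B := by
  obtain ⟨h1, h2⟩ := h
  exact ⟨e.symm.toMulEquiv.isDomain A, IsIntegrallyClosed.of_equiv e⟩

section Pi

variable {ι : Type u} [DecidableEq ι] (A : ι → Type v) [∀ i, CommRing (A i)]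

/-- The localization of a product at the pullback of a prime of a factor is the localization of the
factor. -/
theorem pi_isLocalization_atPrime (i : ι) (q : Ideal (A i)) [q.IsPrime] :
    @IsLocalization.AtPrime (∀ j, A j) _ (Localization.AtPrime q) _
      (((algebraMap (A i) (Localization.AtPrime q)).comp (Pi.evalRingHom A i)).toAlgebra)
      (q.comap (Pi.evalRingHom A i)) _ := by
  let _ : Algebra (∀ j, A j) (Localization.AtPrime q) :=
    ((algebraMap (A i) (Localization.AtPrime q)).comp (Pi.evalRingHom A i)).toAlgebra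
  have halg : ∀ x : (∀ j, A j), algebraMap (∀ j, A j) (Localization.AtPrime q) x =
      algebraMap (A i) (Localization.AtPrime q) (x i) := fun x => rfl
  refine ⟨?_, ?_, ?_⟩
  · rintro ⟨x, hx⟩
    rw [halg]
    apply IsLocalization.map_units (Localization.AtPrime q) (⟨x i, hx⟩ : q.primeCompl)
  · intro z
    obtain ⟨b, t, rfl⟩ := IsLocalization.exists_mk'_eq q.primeCompl z
    refine ⟨⟨Pi.single i b, ⟨Pi.single i (t : A i), ?_⟩⟩, ?_⟩
    · show Pi.single i (t : A i) ∉ q.comap (Pi.evalRingHom A i)
      rw [Ideal.mem_comap, Pi.evalRingHom_apply, Pi.single_eq_same]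
      exact t.2
    · rw [halg, halg]
      simp only [Pi.single_eq_same]
      exact IsLocalization.mk'_spec _ b t
  · intro x y hxy
    rw [halg, halg] at hxy
    obtain ⟨c, hc⟩ := (IsLocalization.eq_iff_exists q.primeCompl _).1 hxy
    refine ⟨⟨Pi.single i (c : A i), ?_⟩, ?_⟩
    · show Pi.single i (c : A i) ∉ q.comap (Pi.evalRingHom A i)
      rw [Ideal.mem_comap, Pi.evalRingHom_apply, Pi.single_eq_same]
      exact c.2
    · ext j
      by_cases hj : j = i
      · subst hj
        simpa using hc
      · simp [Pi.single_eq_of_ne hj]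

end Pi

end Groth.Agent.H31
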