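import Mathlib.CategoryTheory.Subterminal
import Mathlib.CategoryTheory.Comma.Over.Basic
import Mathlib.CategoryTheory.Limits.Preserves.Shapes.Products

set_option autoImplicit false
universe w v u

namespace Groth.Agent.H31

open CategoryTheory CategoryTheory.Limits

/-- For a subterminal object `U`, the forgetful functor from the slice over `U` preserves products
indexed by a nonempty type, as soon as the ambient category has them. -/
theorem overForget_preservesProducts_of_isSubterminal {E : Type u} [Category.{v} E] {U : E}
    (hU : IsSubterminal U) (I : Type w) [Nonempty I] [HasLimitsOfShape (Discrete I) E] :
    PreservesLimitsOfShape (Discrete I) (Over.forget U) := by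
  have : ∀ (f : I → Over U), PreservesLimit (Discrete.functor f) (Over.forget U) := by
    intro f
    obtain ⟨i₀⟩ := ‹Nonempty I›
    -- the product of the underlying objects, with its structure map through `i₀`
    let g : I → E := fun i => (f i).left
    let P : Over U := Over.mk (Pi.π g i₀ ≫ (f i₀).hom)
    let c : Fan f := Fan.mk P (fun i => Over.homMk (Pi.π g i) (hU _ _))
    have hc : IsLimit c := by
      refine Fan.IsLimit.mk c (fun s => Over.homMk (Pi.lift (fun i => (s.proj i).left)) (hU _ _))
        ?_ ?_
      · intro s i
        ext
        simp [c, g]
      · intro s m hm
        ext
        apply Pi.hom_ext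
        intro i
        have := congrArg CommaMorphism.left (hm i)
        simpa [c, g] using this
    refine preservesLimit_of_preserves_limit_cone hc ?_
    -- the image cone is the product cone
    exact (isLimitMapConeFanMkEquiv (Over.forget U) f _).symm (productIsProduct g)
  exact preservesLimitsOfShape_of_discrete _

end Groth.Agent.H31
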