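import Mathlib

/-!
# Two categorical lemmas used to prove that a natural transformation is an isomorphism
-/

set_option autoImplicit false

namespace Groth.Agent.H31.ProjLoc

open CategoryTheory Limits

universe v₁ v₂ v₃ u₁ u₂ u₃

section Loc

variable {C : Type u₁} [Category.{v₁} C] {D : Type u₂} [Category.{v₂} D]
  {E : Type u₃} [Category.{v₃} E]

/-- if `F₁ h`, `F₂ h` are isomorphisms then `τ` is an isomorphism at the source of `h` iff it
is one at the target -/
lemma isIso_app_iff_of_map_isIso {F₁ F₂ : C ⥤ E} (τ : F₁ ⟶ F₂) {A B : C} (h : A ⟶ B)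
    [IsIso (F₁.map h)] [IsIso (F₂.map h)] : IsIso (τ.app A) ↔ IsIso (τ.app B) := by
  have nat := τ.naturality h
  constructor
  · intro hA
    have : τ.app B = inv (F₁.map h) ≫ τ.app A ≫ F₂.map h := by
      rw [← nat, IsIso.inv_hom_id_assoc]
    rw [this]
    infer_instance
  · intro hB
    have : τ.app A = F₁.map h ≫ τ.app B ≫ inv (F₂.map h) := by
      rw [← Category.assoc, nat, Category.assoc, IsIso.hom_inv_id, Category.comp_id]
    rw [this]
    infer_instance

variable {L : C ⥤ D} {R : D ⥤ C} (adj : L ⊣ R) [IsIso adj.counit]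

include adj in
/-- for a reflective localization, the unit becomes an isomorphism after applying `L` -/
lemma isIso_map_unit (N : C) : IsIso (L.map (adj.unit.app N)) := by
  have h := adj.left_triangle_components N
  have : IsIso (L.map (adj.unit.app N) ≫ adj.counit.app (L.obj N)) := by
    rw [h]
    exact IsIso.id _
  exact IsIso.of_isIso_comp_right (L.map (adj.unit.app N)) (adj.counit.app (L.obj N))

include adj in
/-- **Localization principle.** Let `L ⊣ R` with `R` fully faithful, and let `τ : F₁ ⟶ F₂` be a
natural transformation between functors inverting the morphisms inverted by `L`. If `L N ≅ L N'`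
then `τ` is an isomorphism at `N` iff it is one at `N'`. -/
theorem isIso_app_iff_of_iso {F₁ F₂ : C ⥤ E} (τ : F₁ ⟶ F₂)
    (h₁ : ∀ {A B : C} (h : A ⟶ B), IsIso (L.map h) → IsIso (F₁.map h))
    (h₂ : ∀ {A B : C} (h : A ⟶ B), IsIso (L.map h) → IsIso (F₂.map h))
    {N N' : C} (e : L.obj N ≅ L.obj N') : IsIso (τ.app N) ↔ IsIso (τ.app N') := by
  let ψ : N ⟶ R.obj (L.obj N') := adj.unit.app N ≫ R.map e.hom
  have hψ : IsIso (L.map ψ) := by
    have := isIso_map_unit adj N
    rw [L.map_comp]
    infer_instance
  have hu : IsIso (L.map (adj.unit.app N')) := isIso_map_unit adj N'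
  have a1 := h₁ ψ hψ
  have a2 := h₂ ψ hψ
  have b1 := h₁ _ hu
  have b2 := h₂ _ hu
  have k1 := isIso_app_iff_of_map_isIso τ ψ
  have k2 := isIso_app_iff_of_map_isIso τ (A := N') (B := R.obj (L.obj N')) (adj.unit.app N')
  exact k1.trans k2.symm

end Loc

section Additive

variable {C : Type u₁} [Category.{v₁} C] {D : Type u₂} [Category.{v₂} D]

/-- a natural transformation between functors preserving a coproduct is an isomorphism on the
coproduct if it is one on each summand -/
theorem isIso_app_sigma {ι : Type*} {F G : C ⥤ D} (τ : F ⟶ G) (X : ι → C) [HasCoproduct X]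
    [HasCoproduct fun i => F.obj (X i)] [HasCoproduct fun i => G.obj (X i)]
    [PreservesColimit (Discrete.functor X) F] [PreservesColimit (Discrete.functor X) G]
    (h : ∀ i, IsIso (τ.app (X i))) : IsIso (τ.app (∐ X)) := by
  have nat : sigmaComparison F X ≫ τ.app (∐ X) =
      Limits.Sigma.map (fun i => τ.app (X i)) ≫ sigmaComparison G X := by
    refine Sigma.hom_ext _ _ (fun i => ?_)
    rw [ι_comp_sigmaComparison_assoc, Limits.Sigma.ι_map_assoc, ι_comp_sigmaComparison]
    exact τ.naturality _
  have : IsIso (Limits.Sigma.map (fun i => τ.app (X i))) :=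
    ⟨Limits.Sigma.map (fun i => inv (τ.app (X i))),
      Sigma.hom_ext _ _ (fun i => by simp), Sigma.hom_ext _ _ (fun i => by simp)⟩
  have : τ.app (∐ X) = inv (sigmaComparison F X) ≫
      Limits.Sigma.map (fun i => τ.app (X i)) ≫ sigmaComparison G X := by
    rw [← nat, IsIso.inv_hom_id_assoc]
  rw [this]
  infer_instance

end Additive

end Groth.Agent.H31.ProjLoc
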