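import Groth.Agent.H31.PushAdj
import Groth.Agent.H31.CechFunctor
import Groth.Agent.H31.CechConverse

namespace Groth.Agent.H31.PushAcyc

open CategoryTheory Abelian Limits Opposite AlgebraicTopology Simplicial
open Groth.Agent.H31.SieveExt Groth.Agent.H31.LocTriv Groth.Agent.H31.PushAdj

universe u

variable {C D : Type u} [SmallCategory C] [SmallCategory D]
  {J : GrothendieckTopology C} {K : GrothendieckTopology D} {u : D ⥤ C} [u.IsContinuous K J]
  {T' T : Sheaf K (Type u)} (f : T' ⟶ T)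

variable (J u) in
/-- `u^*` applied to the augmented Čech nerve. -/
noncomputable abbrev GN : SimplicialObject.Augmented (Sheaf J (Type u)) :=
  ((SimplicialObject.Augmented.whiskering _ _).obj (Gam J K u)).obj (Arrow.mk f).augmentedCechNerve

variable (J u) in
/-- `ℤ[u^* Čech nerve]`. -/
noncomputable abbrev WG : SimplicialObject.Augmented (Sheaf J AddCommGrpCat.{u}) :=
  ((SimplicialObject.Augmented.whiskering _ _).obj
    (Sheaf.composeAndSheafify J AddCommGrpCat.free.{u})).obj (GN J u f)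

variable (J u) in
/-- the chain complex `ℤ[u^* Čech nerve]`. -/
noncomputable abbrev PG : ChainComplex (Sheaf J AddCommGrpCat.{u}) ℕ :=
  AlternatingFaceMapComplex.obj (WG J u f).left

lemma quasiIso_WG [Epi f] [PreservesFiniteLimits (Gam J K u)] :
    QuasiIso (AlternatingFaceMapComplex.ε.app (WG J u f)) := by
  have : Epi ((Gam J K u).map f) := by
    have := (adjS J K u).isLeftAdjoint
    infer_instance
  rw [CechRes.quasiIso_ε_iff_of_iso (((SimplicialObject.Augmented.whiskering _ _).obj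
    (Sheaf.composeAndSheafify J AddCommGrpCat.free.{u})).mapIso
      (CechExtra.augmentedCechNerveIso (Arrow.mk f) (Gam J K u)))]
  exact CechRes.quasiIso_free_cechNerve ((Gam J K u).map f)

lemma comp_altsum {𝒜 : Type*} [Category 𝒜] [Preadditive 𝒜] {A B Z : 𝒜} {m : ℕ} (d : A ⟶ B)
    (g : Fin m → (A ⟶ B)) (hd : d = ∑ i : Fin m, (-1 : ℤ) ^ (i : ℕ) • g i) (y : B ⟶ Z) :
    d ≫ y = ∑ i : Fin m, (-1 : ℤ) ^ (i : ℕ) • (g i ≫ y) := by
  subst hd
  rw [Preadditive.sum_comp]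
  refine Finset.sum_congr rfl fun i _ => ?_
  rw [Preadditive.zsmul_comp]

lemma theta_d (G : Sheaf J AddCommGrpCat.{u}) (n : ℕ)
    (y : Zs K ((Arrow.mk f).cechNerve.obj (op ⦋n⦌)).obj ⟶ (CohSite.push J K u).obj G) :
    thetaAdd ((Arrow.mk f).cechNerve.obj (op ⦋n + 1⦌)) G
      (((CechAcyc.PP f).d (n + 1) n : Zs K ((Arrow.mk f).cechNerve.obj (op ⦋n + 1⦌)).obj ⟶
        Zs K ((Arrow.mk f).cechNerve.obj (op ⦋n⦌)).obj) ≫ y) =
      ((PG J u f).d (n + 1) n : Zs J ((Gam J K u).obj ((Arrow.mk f).cechNerve.obj (op ⦋n + 1⦌))).obj ⟶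
        Zs J ((Gam J K u).obj ((Arrow.mk f).cechNerve.obj (op ⦋n⦌))).obj) ≫
        thetaAdd ((Arrow.mk f).cechNerve.obj (op ⦋n⦌)) G y := by
  have h1 := comp_altsum (A := Zs K ((Arrow.mk f).cechNerve.obj (op ⦋n + 1⦌)).obj)
    (B := Zs K ((Arrow.mk f).cechNerve.obj (op ⦋n⦌)).obj) ((CechAcyc.PP f).d (n + 1) n)
    (fun i : Fin (n + 2) => ZsMap ((Arrow.mk f).cechNerve.δ i))
    (AlternatingFaceMapComplex.obj_d_eq _ _) y
  have h2 := comp_altsum (A := Zs J ((Gam J K u).obj ((Arrow.mk f).cechNerve.obj (op ⦋n + 1⦌))).obj)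
    (B := Zs J ((Gam J K u).obj ((Arrow.mk f).cechNerve.obj (op ⦋n⦌))).obj) ((PG J u f).d (n + 1) n)
    (fun i : Fin (n + 2) => ZsMap ((Gam J K u).map ((Arrow.mk f).cechNerve.δ i)))
    (AlternatingFaceMapComplex.obj_d_eq _ _) (thetaAdd ((Arrow.mk f).cechNerve.obj (op ⦋n⦌)) G y)
  refine (congrArg (thetaAdd ((Arrow.mk f).cechNerve.obj (op ⦋n + 1⦌)) G) h1).trans ?_
  refine Eq.trans ?_ h2.symm
  rw [map_sum]
  refine Finset.sum_congr rfl fun i _ => ?_
  rw [map_zsmul, thetaAdd_naturality_left]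

theorem isTotallyAcyclic_push [PreservesFiniteLimits (Gam J K u)] (F : Sheaf J AddCommGrpCat.{u})
    (hF : CohCx.IsTotallyAcyclic F) :
    CohCx.IsTotallyAcyclic ((CohSite.push J K u).obj F) := by
  apply CechAcyc.isTotallyAcyclic_of_cech
  intro T' T f hf q
  rw [← HomologicalComplex.exactAt_iff_isZero_homology,
    HomologicalComplex.exactAt_iff' _ q (q + 1) (q + 2) (by simp) (by simp),
    ShortComplex.ab_exact_iff]
  intro x hx
  let x0 : Zs K ((Arrow.mk f).cechNerve.obj (op ⦋q + 1⦌)).obj ⟶ (CohSite.push J K u).obj F := x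
  have hx' : ((CechAcyc.PP f).d (q + 2) (q + 1) : Zs K ((Arrow.mk f).cechNerve.obj (op ⦋q + 1 + 1⦌)).obj ⟶
        Zs K ((Arrow.mk f).cechNerve.obj (op ⦋q + 1⦌)).obj) ≫ x0 = 0 :=
    (CechAcyc.d_apply _ f (q + 1) x).symm.trans hx
  have hq := quasiIso_WG (J := J) (u := u) f
  have hP : ∀ n, ResShift.Acyc F ((PG J u f).X n) := fun n j => hF _ j
  have hM : ResShift.Acyc F (WG J u f).right := fun j => hF _ j
  have hc : (PG J u f).d (q + 2) (q + 1) ≫
      (thetaAdd ((Arrow.mk f).cechNerve.obj (op ⦋q + 1⦌)) F x0 : (PG J u f).X (q + 1) ⟶ F) = 0 := by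
    refine (theta_d f F (q + 1) x0).symm.trans ?_
    exact (congrArg (thetaAdd ((Arrow.mk f).cechNerve.obj (op ⦋q + 1 + 1⦌)) F) hx').trans
      (map_zero _)
  obtain ⟨ψ, hψ⟩ := ResShift.exists_factor (AlternatingFaceMapComplex.ε.app (WG J u f)) hP hM q
    (thetaAdd ((Arrow.mk f).cechNerve.obj (op ⦋q + 1⦌)) F x0) hc
  let ψ0 : Zs J ((Gam J K u).obj ((Arrow.mk f).cechNerve.obj (op ⦋q⦌))).obj ⟶ F := ψ
  refine ⟨(thetaAdd ((Arrow.mk f).cechNerve.obj (op ⦋q⦌)) F).symm ψ0, ?_⟩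
  refine (CechAcyc.d_apply _ f q _).trans ?_
  apply (thetaAdd ((Arrow.mk f).cechNerve.obj (op ⦋q + 1⦌)) F).injective
  refine (theta_d f F q _).trans ?_
  rw [AddEquiv.apply_symm_apply]
  exact hψ

end Groth.Agent.H31.PushAcyc
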