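import Groth.Agent.H31.LocTriv
import Groth.Prelude.Def_CohCx

namespace Groth.Agent.H31.PushAdj

open CategoryTheory Abelian Limits Opposite
open Groth.Agent.H31.SieveExt Groth.Agent.H31.LocTriv

universe u

variable {C D : Type u} [SmallCategory C] [SmallCategory D]
  (J : GrothendieckTopology C) (K : GrothendieckTopology D) (u : D ⥤ C) [u.IsContinuous K J]

/-- pushforward of sheaves of sets. -/
noncomputable abbrev pushS : Sheaf J (Type u) ⥤ Sheaf K (Type u) :=
  u.sheafPushforwardContinuous (Type u) K J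

/-- pullback of sheaves of sets. -/
noncomputable abbrev Gam : Sheaf K (Type u) ⥤ Sheaf J (Type u) :=
  u.sheafPullback (Type u) K J

/-- the adjunction on sheaves of sets. -/
noncomputable abbrev adjS : Gam J K u ⊣ pushS J K u :=
  u.sheafAdjunctionContinuous (Type u) K J

variable {J K u}

/-- `Hom(ℤ[T], u_* G) ≃ Hom(ℤ[u^* T], G)`. -/
noncomputable def theta (T : Sheaf K (Type u)) (G : Sheaf J AddCommGrpCat.{u}) :
    (Zs K T.obj ⟶ (CohSite.push J K u).obj G) ≃ (Zs J ((Gam J K u).obj T).obj ⟶ G) where
  toFun x := (homEquivS ((Gam J K u).obj T) G).symm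
    (((adjS J K u).homEquiv T (setOf G)).symm (homEquivS T ((CohSite.push J K u).obj G) x))
  invFun y := (homEquivS T ((CohSite.push J K u).obj G)).symm
    (((adjS J K u).homEquiv T (setOf G)) (homEquivS ((Gam J K u).obj T) G y))
  left_inv x := by
    simp only [Equiv.apply_symm_apply]
    erw [Equiv.apply_symm_apply]
  right_inv y := by
    simp only [Equiv.apply_symm_apply]
    erw [Equiv.apply_symm_apply]
    simp

lemma homEquivS_theta (T : Sheaf K (Type u)) (G : Sheaf J AddCommGrpCat.{u})
    (x : Zs K T.obj ⟶ (CohSite.push J K u).obj G) :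
    homEquivS ((Gam J K u).obj T) G (theta T G x) =
      ((adjS J K u).homEquiv T (setOf G)).symm (homEquivS T ((CohSite.push J K u).obj G) x) :=
  Equiv.apply_symm_apply _ _

lemma theta_naturality_right (T : Sheaf K (Type u)) {G G' : Sheaf J AddCommGrpCat.{u}} (g : G ⟶ G')
    (x : Zs K T.obj ⟶ (CohSite.push J K u).obj G) :
    theta T G' (x ≫ (CohSite.push J K u).map g) = theta T G x ≫ g := by
  apply (homEquivS ((Gam J K u).obj T) G').injective
  rw [homEquivS_naturality_right, homEquivS_theta, homEquivS_theta, homEquivS_naturality_right]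
  exact (adjS J K u).homEquiv_naturality_right_symm (homEquivS T ((CohSite.push J K u).obj G) x)
    ((sheafCompose J (forget AddCommGrpCat)).map g)

lemma theta_naturality_left {T' T : Sheaf K (Type u)} (τ : T' ⟶ T) (G : Sheaf J AddCommGrpCat.{u})
    (x : Zs K T.obj ⟶ (CohSite.push J K u).obj G) :
    theta T' G (ZsMap τ ≫ x) = ZsMap ((Gam J K u).map τ) ≫ theta T G x := by
  apply (homEquivS ((Gam J K u).obj T') G).injective
  rw [homEquivS_naturality_left, homEquivS_theta, homEquivS_theta, homEquivS_naturality_left]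
  exact (adjS J K u).homEquiv_naturality_left_symm (Y := setOf G) τ
    (show T ⟶ (pushS J K u).obj (setOf G) from homEquivS T ((CohSite.push J K u).obj G) x)

/-- the unit-like map `ℤ[T] ⟶ u_* ℤ[u^* T]`. -/
noncomputable def cT (T : Sheaf K (Type u)) :
    Zs K T.obj ⟶ (CohSite.push J K u).obj (Zs J ((Gam J K u).obj T).obj) :=
  (theta T _).symm (𝟙 _)

lemma theta_symm_eq (T : Sheaf K (Type u)) (G : Sheaf J AddCommGrpCat.{u})
    (y : Zs J ((Gam J K u).obj T).obj ⟶ G) :
    (theta T G).symm y = cT T ≫ (CohSite.push J K u).map y := by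
  apply (theta T G).injective
  rw [Equiv.apply_symm_apply, theta_naturality_right, cT, Equiv.apply_symm_apply, Category.id_comp]

lemma theta_symm_add (T : Sheaf K (Type u)) (G : Sheaf J AddCommGrpCat.{u})
    (y y' : Zs J ((Gam J K u).obj T).obj ⟶ G) :
    (theta T G).symm (y + y') = (theta T G).symm y + (theta T G).symm y' := by
  rw [theta_symm_eq, theta_symm_eq, theta_symm_eq, Functor.map_add, Preadditive.comp_add]

/-- `theta` as an additive equivalence. -/
noncomputable def thetaAdd (T : Sheaf K (Type u)) (G : Sheaf J AddCommGrpCat.{u}) :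
    (Zs K T.obj ⟶ (CohSite.push J K u).obj G) ≃+ (Zs J ((Gam J K u).obj T).obj ⟶ G) :=
  { theta T G with
    map_add' := fun x x' => by
      apply (theta T G).symm.injective
      rw [theta_symm_add]
      simp }

lemma thetaAdd_apply (T : Sheaf K (Type u)) (G : Sheaf J AddCommGrpCat.{u})
    (x : Zs K T.obj ⟶ (CohSite.push J K u).obj G) : thetaAdd T G x = theta T G x := rfl

lemma thetaAdd_naturality_left {T' T : Sheaf K (Type u)} (τ : T' ⟶ T)
    (G : Sheaf J AddCommGrpCat.{u}) (x : Zs K T.obj ⟶ (CohSite.push J K u).obj G) :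
    thetaAdd T' G (ZsMap τ ≫ x) = ZsMap ((Gam J K u).map τ) ≫ thetaAdd T G x :=
  theta_naturality_left τ G x

lemma thetaAdd_naturality_right (T : Sheaf K (Type u)) {G G' : Sheaf J AddCommGrpCat.{u}}
    (g : G ⟶ G') (x : Zs K T.obj ⟶ (CohSite.push J K u).obj G) :
    thetaAdd T G' (x ≫ (CohSite.push J K u).map g) = thetaAdd T G x ≫ g :=
  theta_naturality_right T g x

end Groth.Agent.H31.PushAdj
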