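import Groth.Prelude.Def_ExtSupp
import Groth.Agent.H31.ExtZeroS

namespace Groth.Agent.H31.QuotOnAdj

open CategoryTheory Limits Opposite

universe u

variable {C : Type u} [SmallCategory C] {J : GrothendieckTopology C}
  (O : Sheaf J CommRingCat.{u}) (U : C)

/-- `c_F ≫ ψ = 0` iff `ψ|_U = 0`. -/
lemma counit_comp_eq_zero_iff {F N : ModSite.Mod O} (ψ : F ⟶ N) :
    (ModSite.extZeroAdj O U).counit.app F ≫ ψ = 0 ↔ (ModSite.restr O U).map ψ = 0 :=
  (ExtSupp.mem_homZ_iff U ψ).symm

variable [ModSite.HasPushOver O U]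

/-- `ψ ≫ η_N = 0` iff `ψ|_U = 0`. -/
lemma comp_unit_eq_zero_iff {F N : ModSite.Mod O} (ψ : F ⟶ N) :
    ψ ≫ (ModSite.restrPushOverAdj O U).unit.app N = 0 ↔ (ModSite.restr O U).map ψ = 0 := by
  let adj := ModSite.restrPushOverAdj O U
  have key : (adj.homEquiv _ _).symm (ψ ≫ adj.unit.app N) = (ModSite.restr O U).map ψ := by
    rw [adj.homEquiv_counit, Functor.map_comp, Category.assoc, adj.left_triangle_components,
      Category.comp_id]
  have key0 : (adj.homEquiv F ((ModSite.restr O U).obj N)).symm 0 = 0 := by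
    rw [adj.homEquiv_counit, Functor.map_zero, zero_comp]
  constructor
  · intro h
    rw [← key, h, key0]
  · intro h
    apply (adj.homEquiv _ _).symm.injective
    rw [key, key0, h]

lemma counit_comp_eq_zero_iff_comp_unit {F N : ModSite.Mod O} (ψ : F ⟶ N) :
    (ModSite.extZeroAdj O U).counit.app F ≫ ψ = 0 ↔
      ψ ≫ (ModSite.restrPushOverAdj O U).unit.app N = 0 :=
  (counit_comp_eq_zero_iff O U ψ).trans (comp_unit_eq_zero_iff O U ψ).symm

/-- the hom-set bijection of `quotOn ⊣ sectOn`. -/
noncomputable def homEquiv (M N : ModSite.Mod O) :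
    ((ModSite.quotOn O U).obj M ⟶ N) ≃ (M ⟶ (ModSite.sectOn O U).obj N) where
  toFun f := kernel.lift _ ((ModSite.quotOnπ O U).app M ≫ f) (by
    apply (counit_comp_eq_zero_iff_comp_unit O U _).1
    have h0 : (ModSite.extZeroAdj O U).counit.app M ≫ (ModSite.quotOnπ O U).app M = 0 :=
      cokernel.condition _
    rw [← Category.assoc, h0, zero_comp])
  invFun g := cokernel.desc _ (g ≫ (ModSite.sectOnι O U).app N) (by
    apply (counit_comp_eq_zero_iff_comp_unit O U _).2
    have h0 : (ModSite.sectOnι O U).app N ≫ (ModSite.restrPushOverAdj O U).unit.app N = 0 :=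
      kernel.condition _
    rw [Category.assoc, h0, comp_zero])
  left_inv f := by
    apply coequalizer.hom_ext
    refine (cokernel.π_desc _ _ _).trans ?_
    exact kernel.lift_ι _ _ _
  right_inv g := by
    apply equalizer.hom_ext
    refine (kernel.lift_ι _ _ _).trans ?_
    exact cokernel.π_desc _ _ _

lemma homEquiv_ι (M N : ModSite.Mod O) (f : (ModSite.quotOn O U).obj M ⟶ N) :
    homEquiv O U M N f ≫ (ModSite.sectOnι O U).app N = (ModSite.quotOnπ O U).app M ≫ f :=
  kernel.lift_ι _ _ _

lemma π_homEquiv_symm (M N : ModSite.Mod O) (g : M ⟶ (ModSite.sectOn O U).obj N) :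
    (ModSite.quotOnπ O U).app M ≫ (homEquiv O U M N).symm g = g ≫ (ModSite.sectOnι O U).app N :=
  cokernel.π_desc _ _ _

instance (N : ModSite.Mod O) : Mono ((ModSite.sectOnι O U).app N) := by
  change Mono (kernel.ι _)
  infer_instance

instance (M : ModSite.Mod O) : Epi ((ModSite.quotOnπ O U).app M) := by
  change Epi (cokernel.π _)
  infer_instance

/-- `quotOn ⊣ sectOn`. -/
noncomputable def adj : ModSite.quotOn O U ⊣ ModSite.sectOn O U :=
  Adjunction.mkOfHomEquiv
    { homEquiv := homEquiv O U
      homEquiv_naturality_left_symm := by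
        intro M' M N f g
        rw [← cancel_epi ((ModSite.quotOnπ O U).app M')]
        rw [π_homEquiv_symm]
        have h1 : f ≫ (ModSite.quotOnπ O U).app M =
            (ModSite.quotOnπ O U).app M' ≫ (ModSite.quotOn O U).map f :=
          (ModSite.quotOnπ O U).naturality f
        have h2 := π_homEquiv_symm O U M N g
        calc (f ≫ g) ≫ (ModSite.sectOnι O U).app N
            = f ≫ (g ≫ (ModSite.sectOnι O U).app N) := Category.assoc _ _ _
          _ = f ≫ ((ModSite.quotOnπ O U).app M ≫ (homEquiv O U M N).symm g) := by rw [h2]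
          _ = (f ≫ (ModSite.quotOnπ O U).app M) ≫ (homEquiv O U M N).symm g :=
              (Category.assoc _ _ _).symm
          _ = ((ModSite.quotOnπ O U).app M' ≫ (ModSite.quotOn O U).map f) ≫
                (homEquiv O U M N).symm g := by rw [h1]
          _ = _ := Category.assoc _ _ _
      homEquiv_naturality_right := by
        intro M N N' f g
        rw [← cancel_mono ((ModSite.sectOnι O U).app N')]
        rw [homEquiv_ι]
        have h1 : (ModSite.sectOn O U).map g ≫ (ModSite.sectOnι O U).app N' =
            (ModSite.sectOnι O U).app N ≫ g :=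
          (ModSite.sectOnι O U).naturality g
        have h2 := homEquiv_ι O U M N f
        calc (ModSite.quotOnπ O U).app M ≫ f ≫ g
            = ((ModSite.quotOnπ O U).app M ≫ f) ≫ g := (Category.assoc _ _ _).symm
          _ = (homEquiv O U M N f ≫ (ModSite.sectOnι O U).app N) ≫ g := by rw [h2]
          _ = homEquiv O U M N f ≫ ((ModSite.sectOnι O U).app N ≫ g) := Category.assoc _ _ _
          _ = homEquiv O U M N f ≫ ((ModSite.sectOn O U).map g ≫ (ModSite.sectOnι O U).app N') := by
              rw [h1]
          _ = _ := (Category.assoc _ _ _).symm }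

end Groth.Agent.H31.QuotOnAdj
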