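import Groth.Agent.H31.QuotOnTensor2
import Groth.Agent.H31.ExtZeroUnit
import Groth.Agent.H31.PostDerived
import Groth.Agent.H31.RestrExact
import Groth.Agent.H30.DerivedComp
import Groth.Agent.H30.GrothSSExt

namespace Groth.Agent.H31.QuotOnRestr

open CategoryTheory Abelian Limits Opposite
open Groth.Agent.H30 Groth.Agent.H45 Groth.Agent.H31.ExtZero Groth.Agent.H31.QuotOnTensor

universe u
open scoped Classical

variable {C : Type u} [SmallCategory C] {J : GrothendieckTopology C}
  (O : Sheaf J CommRingCat.{u}) [HasBinaryProducts C] (U X : C)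

/-- If `N'` on `C/X` is null on `U × X → X`, then `j_{X!} N'` is null on `U`. -/
lemma isNullOn_extZero (N' : ModSite.Mod (O.over X))
    (hN : ModSite.IsNullOn (O.over X) (Over.mk (prod.snd : U ⨯ X ⟶ X)) N') :
    ModSite.IsNullOn O U ((ModSite.extZero O X).obj N') := by
  rw [ExtSupp.isNullOn_iff]
  intro W f x
  apply ExtZeroUnit.extZeroIso_hom_injective N' W
  refine Eq.trans ?_ (map_zero _).symm
  let P : PMod O := (extP (ModSite.ringSh O).obj X).obj
    ((SheafOfModules.forget (ModSite.ringSh (O.over X))).obj N')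
  obtain ⟨S, hS, h⟩ := locSurj_unit O P W (((extZeroIso X O).hom.app N').val.app (op W) x)
  refine sect_ext_of_sieve O _ S hS _ 0 (fun W' g hg => ?_)
  obtain ⟨p, hp⟩ := h g hg
  have hp0 : p = 0 := by
    apply DFinsupp.ext
    intro φ
    exact (ExtSupp.isNullOn_iff (O.over X) _ N').1 hN
      (Over.homMk (prod.lift (g ≫ f) φ) (prod.lift_snd _ _) : Over.mk φ ⟶ Over.mk (prod.snd : U ⨯ X ⟶ X)) _
  rw [hp0, map_zero] at hp
  exact hp.symm.trans (map_zero _).symm


/-- restricting first to `C/X` and then to `(U × X → X)` kills morphisms which vanish over `U`. -/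
lemma restr_restr_eq_zero {A N : ModSite.Mod O} (ψ : A ⟶ N) (h : (ModSite.restr O U).map ψ = 0) :
    (ModSite.restr (O.over X) (Over.mk (prod.snd : U ⨯ X ⟶ X))).map ((ModSite.restr O X).map ψ) = 0 := by
  apply SheafOfModules.hom_ext
  apply PresheafOfModules.hom_ext
  intro Y
  exact congrArg (fun t : (ModSite.restr O U).obj A ⟶ (ModSite.restr O U).obj N =>
    t.val.app (op (Over.mk (Y.unop.hom.left ≫ prod.fst)))) h

/-- `j_{X!} j'_! H` is generated by sections over objects mapping to `U`. -/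
lemma genOver_extZero_extZero
    (H : ModSite.Mod ((O.over X).over (Over.mk (prod.snd : U ⨯ X ⟶ X)))) :
    GenOver O U ((ModSite.extZero O X).obj
      ((ModSite.extZero (O.over X) (Over.mk (prod.snd : U ⨯ X ⟶ X))).obj H)) := by
  unfold GenOver
  apply Preadditive.epi_of_cancel_zero
  intro N ψ h
  rw [QuotOnAdj.counit_comp_eq_zero_iff] at h
  have h' := restr_restr_eq_zero O U X ψ h
  apply ((ModSite.extZeroAdj O X).homEquiv _ _).injective
  apply ((ModSite.extZeroAdj (O.over X) (Over.mk (prod.snd : U ⨯ X ⟶ X))).homEquiv _ _).injective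
  have e1 : (ModSite.extZeroAdj (O.over X) (Over.mk (prod.snd : U ⨯ X ⟶ X))).homEquiv _ _
      ((ModSite.extZeroAdj O X).homEquiv _ _ ψ) = 0 := by
    rw [Adjunction.homEquiv_unit, Adjunction.homEquiv_unit, Functor.map_comp, h', comp_zero,
      comp_zero]
  have e2 : (ModSite.extZeroAdj (O.over X) (Over.mk (prod.snd : U ⨯ X ⟶ X))).homEquiv H _
      ((ModSite.extZeroAdj O X).homEquiv _ N 0) = 0 := by
    rw [Adjunction.homEquiv_unit, Adjunction.homEquiv_unit, Functor.map_zero, comp_zero,
      Functor.map_zero, comp_zero]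
  exact e1.trans e2.symm


variable [ModSite.HasPushOver (O.over X) (Over.mk (prod.snd : U ⨯ X ⟶ X))]

instance preservesColimits_extZero : PreservesColimitsOfSize.{0, 0} (ModSite.extZero O X) :=
  (ModSite.extZeroAdj O X).leftAdjoint_preservesColimits

/-- `j_{X!}(G / G_{U'}) ≅ (j_{X!} G)/(j_{X!} G)_U`. -/
noncomputable def thetaApp (G : ModSite.Mod (O.over X)) :
    (ModSite.extZero O X).obj
        ((ModSite.quotOn (O.over X) (Over.mk (prod.snd : U ⨯ X ⟶ X))).obj G) ≅
      (ModSite.quotOn O U).obj ((ModSite.extZero O X).obj G) :=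
  PreservesCokernel.iso (ModSite.extZero O X)
      ((ModSite.extZeroAdj (O.over X) (Over.mk (prod.snd : U ⨯ X ⟶ X))).counit.app G) ≪≫
    cokernelIso ((ModSite.extZero O X).map
        ((ModSite.extZeroAdj (O.over X) (Over.mk (prod.snd : U ⨯ X ⟶ X))).counit.app G))
      (genOver_extZero_extZero O U X _)
      ((isNullOn_extZero O U X _ (ExtSupp.isNullOn_quotOn (O.over X) _ G)).of_iso
        ((ModSite.restr O U).mapIso (PreservesCokernel.iso (ModSite.extZero O X)
          ((ModSite.extZeroAdj (O.over X)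
            (Over.mk (prod.snd : U ⨯ X ⟶ X))).counit.app G)).symm))

lemma thetaApp_π (G : ModSite.Mod (O.over X)) :
    (ModSite.extZero O X).map
        ((ModSite.quotOnπ (O.over X) (Over.mk (prod.snd : U ⨯ X ⟶ X))).app G) ≫
      (thetaApp O U X G).hom = (ModSite.quotOnπ O U).app ((ModSite.extZero O X).obj G) := by
  have h1 : (ModSite.extZero O X).map
        ((ModSite.quotOnπ (O.over X) (Over.mk (prod.snd : U ⨯ X ⟶ X))).app G) ≫
      (PreservesCokernel.iso (ModSite.extZero O X)
        ((ModSite.extZeroAdj (O.over X) (Over.mk (prod.snd : U ⨯ X ⟶ X))).counit.app G)).hom =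
      cokernel.π ((ModSite.extZero O X).map
        ((ModSite.extZeroAdj (O.over X) (Over.mk (prod.snd : U ⨯ X ⟶ X))).counit.app G)) := by
    rw [← Iso.eq_comp_inv, PreservesCokernel.iso_inv]
    exact (π_comp_cokernelComparison _ _).symm
  unfold thetaApp
  rw [Iso.trans_hom, ← Category.assoc, h1]
  exact cokernelIso_π _ _ _


instance epi_extZero_π (G : ModSite.Mod (O.over X)) :
    Epi ((ModSite.extZero O X).map
      ((ModSite.quotOnπ (O.over X) (Over.mk (prod.snd : U ⨯ X ⟶ X))).app G)) := by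
  have : Epi ((ModSite.quotOnπ (O.over X) (Over.mk (prod.snd : U ⨯ X ⟶ X))).app G) :=
    inferInstance
  infer_instance

/-- `Q_{U'} ⋙ j_{X!} ≅ j_{X!} ⋙ Q_U`. -/
noncomputable def theta :
    ModSite.quotOn (O.over X) (Over.mk (prod.snd : U ⨯ X ⟶ X)) ⋙ ModSite.extZero O X ≅
      ModSite.extZero O X ⋙ ModSite.quotOn O U :=
  NatIso.ofComponents (fun G => thetaApp O U X G) (by
    intro G' G g
    rw [← cancel_epi ((ModSite.extZero O X).map
      ((ModSite.quotOnπ (O.over X) (Over.mk (prod.snd : U ⨯ X ⟶ X))).app G'))]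
    have nat : g ≫ (ModSite.quotOnπ (O.over X) (Over.mk (prod.snd : U ⨯ X ⟶ X))).app G =
        (ModSite.quotOnπ (O.over X) (Over.mk (prod.snd : U ⨯ X ⟶ X))).app G' ≫
          (ModSite.quotOn (O.over X) (Over.mk (prod.snd : U ⨯ X ⟶ X))).map g :=
      (ModSite.quotOnπ (O.over X) (Over.mk (prod.snd : U ⨯ X ⟶ X))).naturality g
    have nat2 : (ModSite.extZero O X).map g ≫
        (ModSite.quotOnπ O U).app ((ModSite.extZero O X).obj G) =
        (ModSite.quotOnπ O U).app ((ModSite.extZero O X).obj G') ≫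
          (ModSite.quotOn O U).map ((ModSite.extZero O X).map g) :=
      (ModSite.quotOnπ O U).naturality ((ModSite.extZero O X).map g)
    have e1 : (ModSite.extZero O X).map
          ((ModSite.quotOnπ (O.over X) (Over.mk (prod.snd : U ⨯ X ⟶ X))).app G') ≫
        (ModSite.quotOn (O.over X) (Over.mk (prod.snd : U ⨯ X ⟶ X)) ⋙ ModSite.extZero O X).map g =
        (ModSite.extZero O X).map g ≫ (ModSite.extZero O X).map
          ((ModSite.quotOnπ (O.over X) (Over.mk (prod.snd : U ⨯ X ⟶ X))).app G) := by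
      rw [Functor.comp_map, ← Functor.map_comp, ← Functor.map_comp, nat]
    rw [← Category.assoc, e1, Category.assoc, thetaApp_π, ← Category.assoc, thetaApp_π]
    exact nat2)

variable [HasInjectiveResolutions (ModSite.Mod O)]
  [HasInjectiveResolutions (ModSite.Mod (O.over X))]

/-- `Γ_Z(-)|_X ≅ Γ_{Z/X}((-)|_X)`. -/
noncomputable def sectOnRestrIso :
    ModSite.sectOn O U ⋙ ModSite.restr O X ≅
      ModSite.restr O X ⋙ ModSite.sectOn (O.over X) (Over.mk (prod.snd : U ⨯ X ⟶ X)) :=
  (((ModSite.extZeroAdj O X).comp (QuotOnAdj.adj O U)).ofNatIsoLeft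
    (theta O U X).symm).rightAdjointUniq
      ((QuotOnAdj.adj (O.over X) (Over.mk (prod.snd : U ⨯ X ⟶ X))).comp (ModSite.extZeroAdj O X))

/-- `ℋ^q_Z(-)|_X ≅ ℋ^q_{Z/X}((-)|_X)`. -/
noncomputable def HZshRestrIso (q : ℕ) :
    ModSite.HZsh O U q ⋙ ModSite.restr O X ≅
      ModSite.restr O X ⋙ ModSite.HZsh (O.over X) (Over.mk (prod.snd : U ⨯ X ⟶ X)) q :=
  haveI := RestrExact.preservesFiniteLimits_restr O X
  haveI := RestrExact.preservesFiniteColimits_restr O X
  (PostDerived.rightDerivedPostIso (ModSite.sectOn O U) (ModSite.restr O X) q).symm ≪≫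
    GrothSSExt.rightDerivedIsoOfIso (sectOnRestrIso O U X) q ≪≫
    DerivedComp.rightDerivedCompIso (ModSite.restr O X)
      (fun Q _ => Injective.injective_of_adjoint (ModSite.extZeroAdj O X) Q)
      (ModSite.sectOn (O.over X) (Over.mk (prod.snd : U ⨯ X ⟶ X))) q

end Groth.Agent.H31.QuotOnRestr
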