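import Groth.Agent.H31.QuotOnExact
import Groth.Agent.H31.LocalGlobalExt

namespace Groth.Agent.H31.QuotOnSS

open CategoryTheory Abelian Limits Opposite
open Groth.Agent.H30

universe u

variable {C : Type u} [SmallCategory C] {J : GrothendieckTopology C}
  {O : Sheaf J CommRingCat.{u}}

/-- `Γ_Z ⋙ Hom(M, -) ≅ Hom(M/M_U, -)`. -/
noncomputable def tauSect (U : C) [ModSite.HasPushOver O U] (M : ModSite.Mod O) :
    ModSite.sectOn O U ⋙ preadditiveCoyoneda.obj (op M) ≅
      preadditiveCoyoneda.obj (op ((ModSite.quotOn O U).obj M)) :=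
  haveI : (ModSite.quotOn O U).Additive := (QuotOnAdj.adj O U).left_adjoint_additive
  ConstPush.adjHomIso (QuotOnAdj.adj O U) M

theorem ss_ext_HZsh [HasExt.{u} (ModSite.Mod O)]
    (U : C) [ModSite.HasPushOver O U] (M N : ModSite.Mod O)
    [HasInjectiveResolutions (ModSite.Mod O)] :
    ∃ (E : E₂CohomologicalSpectralSequence AddCommGrpCat.{u})
      (a : SpSeq.Abutment E (fun n : ℤ =>
        if 0 ≤ n then AddCommGrpCat.of (ExtSupp.ExtZ U M N n.toNat) else AddCommGrpCat.of PUnit.{u + 1})),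
      (∀ n, a.IsFinite n) ∧ SpSeq.IsBounded E ∧
      ∀ p q : ℤ, Nonempty ((E.page 2 le_rfl).X (p, q) ≅
        (if 0 ≤ p ∧ 0 ≤ q then AddCommGrpCat.of (Abelian.Ext.{u} M ((ModSite.HZsh O U q.toNat).obj N) p.toNat)
         else AddCommGrpCat.of PUnit.{u + 1})) := by
  let _ : HasDerivedCategory.{u + 1} (ModSite.Mod O) := HasDerivedCategory.standard _
  let _ : HasDerivedCategory.{u + 1} AddCommGrpCat.{u} := HasDerivedCategory.standard _
  have := ModExt.enoughInjectives (ModSite.ringSh O)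
  have hT : ∀ Q : ModSite.Mod O, Injective Q → ∀ q : ℕ, 0 < q →
      IsZero (((preadditiveCoyoneda.obj (op M)).rightDerived q).obj
        ((ModSite.sectOn O U).obj Q)) := by
    intro Q hQ q hq
    have := QuotOnExact.injective_sectOn (U := U) Q
    obtain ⟨q', rfl⟩ : ∃ q', q = q' + 1 := ⟨q - 1, by omega⟩
    exact Functor.isZero_rightDerived_obj_injective_succ _ q' _
  exact GrothSSExt.grothendieck_spectralSequence' (ModSite.sectOn O U)
    (preadditiveCoyoneda.obj (op M)) hT N
    (fun n => AddCommGrpCat.of (ExtSupp.ExtZ U M N n))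
    (fun p q => AddCommGrpCat.of (Abelian.Ext.{u} M ((ModSite.HZsh O U q).obj N) p))
    (AddCommGrpCat.of PUnit.{u + 1}) (AddCommGrpCat.isZero_of_subsingleton _)
    (fun n => ⟨(GrothSSExt.rightDerivedIsoOfIso (tauSect U M) n).app N ≪≫
      (ExtDerived.nonempty_iso_rightDerived ((ModSite.quotOn O U).obj M) n N).some.symm⟩)
    (fun p q => ⟨(ExtDerived.nonempty_iso_rightDerived M p _).some.symm⟩)

end Groth.Agent.H31.QuotOnSS
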