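import Groth.Agent.H31.QuotOnSS
import Groth.Agent.H31.ExtZeroFaithful
import Groth.Agent.H31.RestrTensor
import Groth.Agent.H30.ExtRD

namespace Groth.Agent.H31.QuotOnTensor

open CategoryTheory Abelian Limits Opposite
open Groth.Agent.H30 Groth.Agent.H45 Groth.Agent.H31.ExtZero

universe u

variable {C : Type u} [SmallCategory C] {J : GrothendieckTopology C}
  (O : Sheaf J CommRingCat.{u}) (U : C)

/-- `F` is generated by its sections over objects mapping to `U`. -/
def GenOver (F : ModSite.Mod O) : Prop := Epi ((ModSite.extZeroAdj O U).counit.app F)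

lemma genOver_extZero (G : ModSite.Mod (O.over U)) :
    GenOver O U ((ModSite.extZero O U).obj G) := by
  have h := (ModSite.extZeroAdj O U).left_triangle_components G
  have : IsSplitEpi ((ModSite.extZeroAdj O U).counit.app ((ModSite.extZero O U).obj G)) :=
    ⟨⟨⟨_, h⟩⟩⟩
  exact (inferInstance : Epi ((ModSite.extZeroAdj O U).counit.app ((ModSite.extZero O U).obj G)))

variable {O U}

lemma GenOver.of_iso {F F' : ModSite.Mod O} (e : F ≅ F') (h : GenOver O U F) :
    GenOver O U F' := by
  have nat : (ModSite.extZero O U).map ((ModSite.restr O U).map e.hom) ≫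
      (ModSite.extZeroAdj O U).counit.app F' = (ModSite.extZeroAdj O U).counit.app F ≫ e.hom :=
    (ModSite.extZeroAdj O U).counit.naturality e.hom
  have h' : Epi ((ModSite.extZeroAdj O U).counit.app F) := h
  have : Epi ((ModSite.extZero O U).map ((ModSite.restr O U).map e.hom) ≫
      (ModSite.extZeroAdj O U).counit.app F') := by
    rw [nat]
    infer_instance
  exact epi_of_epi ((ModSite.extZero O U).map ((ModSite.restr O U).map e.hom)) _

/-- Key lemma: if `A` is generated over `U` and `coker f` is null on `U`, then `f` and the counit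
`B_U ⟶ B` kill the same morphisms out of `B`. -/
lemma comp_eq_zero_iff {A B N : ModSite.Mod O} (f : A ⟶ B) (hA : GenOver O U A)
    (hf : IsZero ((ModSite.restr O U).obj (cokernel f))) (ψ : B ⟶ N) :
    f ≫ ψ = 0 ↔ (ModSite.extZeroAdj O U).counit.app B ≫ ψ = 0 := by
  constructor
  · intro h
    rw [QuotOnAdj.counit_comp_eq_zero_iff]
    have : ψ = cokernel.π f ≫ cokernel.desc f ψ h := (cokernel.π_desc f ψ h).symm
    rw [this, Functor.map_comp]
    rw [hf.eq_of_tgt ((ModSite.restr O U).map (cokernel.π f)) 0, zero_comp]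
  · intro h
    have hA' : Epi ((ModSite.extZeroAdj O U).counit.app A) := hA
    rw [← cancel_epi ((ModSite.extZeroAdj O U).counit.app A), comp_zero]
    have nat : (ModSite.extZero O U).map ((ModSite.restr O U).map f) ≫
        (ModSite.extZeroAdj O U).counit.app B = (ModSite.extZeroAdj O U).counit.app A ≫ f :=
      (ModSite.extZeroAdj O U).counit.naturality f
    rw [← Category.assoc, ← nat, Category.assoc, h, comp_zero]

/-- Under the hypotheses of the key lemma, `coker f ≅ B/B_U`. -/
noncomputable def cokernelIso {A B : ModSite.Mod O} (f : A ⟶ B) (hA : GenOver O U A)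
    (hf : IsZero ((ModSite.restr O U).obj (cokernel f))) :
    cokernel f ≅ (ModSite.quotOn O U).obj B where
  hom := cokernel.desc f ((ModSite.quotOnπ O U).app B)
    ((comp_eq_zero_iff f hA hf _).2 (cokernel.condition _))
  inv := cokernel.desc ((ModSite.extZeroAdj O U).counit.app B) (cokernel.π f)
    ((comp_eq_zero_iff f hA hf _).1 (cokernel.condition f))
  hom_inv_id := by
    apply coequalizer.hom_ext
    have h1 : cokernel.π f ≫ cokernel.desc f ((ModSite.quotOnπ O U).app B)
        ((comp_eq_zero_iff f hA hf _).2 (cokernel.condition _)) = (ModSite.quotOnπ O U).app B :=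
      cokernel.π_desc _ _ _
    have h2 : (ModSite.quotOnπ O U).app B ≫
        cokernel.desc ((ModSite.extZeroAdj O U).counit.app B) (cokernel.π f)
          ((comp_eq_zero_iff f hA hf _).1 (cokernel.condition f)) = cokernel.π f :=
      cokernel.π_desc _ _ _
    change cokernel.π f ≫ _ ≫ _ = cokernel.π f ≫ 𝟙 _
    rw [← Category.assoc, h1, h2, Category.comp_id]
  inv_hom_id := by
    apply coequalizer.hom_ext
    have h1 : cokernel.π f ≫ cokernel.desc f ((ModSite.quotOnπ O U).app B)
        ((comp_eq_zero_iff f hA hf _).2 (cokernel.condition _)) = (ModSite.quotOnπ O U).app B :=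
      cokernel.π_desc _ _ _
    have h2 : (ModSite.quotOnπ O U).app B ≫
        cokernel.desc ((ModSite.extZeroAdj O U).counit.app B) (cokernel.π f)
          ((comp_eq_zero_iff f hA hf _).1 (cokernel.condition f)) = cokernel.π f :=
      cokernel.π_desc _ _ _
    change (ModSite.quotOnπ O U).app B ≫ _ ≫ _ = (ModSite.quotOnπ O U).app B ≫ 𝟙 _
    rw [← Category.assoc, h2, h1, Category.comp_id]

variable (O U) in
/-- `(P/P_U) ⊗ M ≅ (P ⊗ M)/(P ⊗ M)_U`. -/
noncomputable def quotOnTensorIso [ModSite.HasPushOver O U] (P M : ModSite.Mod O) :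
    ((ModSite.tensorBi O).flip.obj M).obj ((ModSite.quotOn O U).obj P) ≅
      (ModSite.quotOn O U).obj (((ModSite.tensorBi O).flip.obj M).obj P) :=
  PreservesCokernel.iso ((ModSite.tensorBi O).flip.obj M)
      ((ModSite.extZeroAdj O U).counit.app P) ≪≫
    cokernelIso (((ModSite.tensorBi O).flip.obj M).map ((ModSite.extZeroAdj O U).counit.app P))
      ((genOver_extZero O U _).of_iso ((projF O U M).app ((ModSite.restr O U).obj P)))
      (by
        have hz : IsZero ((ModSite.restr O U).obj ((ModSite.quotOn O U).obj P)) :=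
          ExtSupp.isNullOn_quotOn O U P
        have h1 : IsZero (((ModSite.tensorBi (O.over U)).flip.obj ((ModSite.restr O U).obj M)).obj
            ((ModSite.restr O U).obj ((ModSite.quotOn O U).obj P))) :=
          Functor.map_isZero _ hz
        have h2 : IsZero ((ModSite.restr O U).obj
            (((ModSite.tensorBi O).flip.obj M).obj ((ModSite.quotOn O U).obj P))) :=
          h1.of_iso (restrTensorIso O U ((ModSite.quotOn O U).obj P) M)
        exact h2.of_iso ((ModSite.restr O U).mapIso
          (PreservesCokernel.iso ((ModSite.tensorBi O).flip.obj M)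
            ((ModSite.extZeroAdj O U).counit.app P)).symm))

section

variable (O U)
variable [ModSite.HasPushOver O U] (M : ModSite.Mod O)

/-- `(O/O_U) ⊗ M ≅ M/M_U`. -/
noncomputable def quotOnUnitTensorIso :
    ((ModSite.tensorBi O).flip.obj M).obj ((ModSite.quotOn O U).obj (ModSite.unit O)) ≅
      (ModSite.quotOn O U).obj M :=
  quotOnTensorIso O U (ModSite.unit O) M ≪≫ (ModSite.quotOn O U).mapIso (unitTensorIso O M)

variable [ModSite.HasSheafHom M]

/-- `Γ(Γ_Z ℋom(M, -)) ≅ Hom(M/M_U, -)`. -/
noncomputable def gammaZHomIso :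
    ExtSupp.gammaZHom U M ≅ preadditiveCoyoneda.obj (op ((ModSite.quotOn O U).obj M)) :=
  Functor.isoWhiskerLeft (ModSite.sheafHom M) (QuotOnSS.tauSect U (ModSite.unit O)) ≪≫
    ConstPush.adjHomIso (ModSite.sheafHomAdj M) ((ModSite.quotOn O U).obj (ModSite.unit O)) ≪≫
    preadditiveCoyoneda.mapIso (quotOnUnitTensorIso O U M).symm.op

/-- `ExtZR U M q ≅ Ext^q(M/M_U, -)` as functors. -/
noncomputable def extZRIso [HasExt.{u} (ModSite.Mod O)] [HasInjectiveResolutions (ModSite.Mod O)]
    (q : ℕ) :
    ExtSupp.ExtZR U M q ≅ Abelian.extFunctorObj ((ModSite.quotOn O U).obj M) q :=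
  GrothSSExt.rightDerivedIsoOfIso (gammaZHomIso O U M) q ≪≫
    ExtRD.rightDerivedIsoExt ((ModSite.quotOn O U).obj M) q

end

end Groth.Agent.H31.QuotOnTensor
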