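import Groth.Agent.H31.QuotOnTensor
import Groth.Agent.H31.SheafHomAcyc
import Groth.Agent.H45.SheafTensor.SheafHom

namespace Groth.Agent.H31.QuotOnTensor

open CategoryTheory Abelian Limits Opposite MonoidalCategory
open Groth.Agent.H30 Groth.Agent.H45 Groth.Agent.H31.ExtZero

universe u

variable {C : Type u} [SmallCategory C] {J : GrothendieckTopology C}
  (O : Sheaf J CommRingCat.{u}) (U : C)

/-- symmetry of the tensor product of sheaves of modules (objectwise). -/
noncomputable def tensorSymm (F G : ModSite.Mod O) :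
    ((ModSite.tensorBi O).obj F).obj G ≅ ((ModSite.tensorBi O).obj G).obj F :=
  (shf O).mapIso (β_ ((forg O).obj F) ((forg O).obj G))

variable {O U}

lemma cokernelIso_π {A B : ModSite.Mod O} (f : A ⟶ B) (hA : GenOver O U A)
    (hf : IsZero ((ModSite.restr O U).obj (cokernel f))) :
    cokernel.π f ≫ (cokernelIso f hA hf).hom = (ModSite.quotOnπ O U).app B :=
  cokernel.π_desc _ _ _

variable (O U)
variable [ModSite.HasPushOver O U]

lemma quotOnTensorIso_π (P M : ModSite.Mod O) :
    ((ModSite.tensorBi O).flip.obj M).map ((ModSite.quotOnπ O U).app P) ≫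
      (quotOnTensorIso O U P M).hom =
    (ModSite.quotOnπ O U).app (((ModSite.tensorBi O).flip.obj M).obj P) := by
  have h1 : ((ModSite.tensorBi O).flip.obj M).map ((ModSite.quotOnπ O U).app P) ≫
      (PreservesCokernel.iso ((ModSite.tensorBi O).flip.obj M)
        ((ModSite.extZeroAdj O U).counit.app P)).hom =
      cokernel.π (((ModSite.tensorBi O).flip.obj M).map ((ModSite.extZeroAdj O U).counit.app P)) := by
    rw [← Iso.eq_comp_inv, PreservesCokernel.iso_inv]
    exact (π_comp_cokernelComparison _ _).symm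
  unfold quotOnTensorIso
  rw [Iso.trans_hom, ← Category.assoc, h1]
  exact cokernelIso_π _ _ _

/-- `P ⊗ (M/M_U) ≅ (P ⊗ M)/(P ⊗ M)_U`. -/
noncomputable def quotOnTensorIso' (P M : ModSite.Mod O) :
    ((ModSite.tensorBi O).obj P).obj ((ModSite.quotOn O U).obj M) ≅
      (ModSite.quotOn O U).obj (((ModSite.tensorBi O).obj P).obj M) :=
  PreservesCokernel.iso ((ModSite.tensorBi O).obj P)
      ((ModSite.extZeroAdj O U).counit.app M) ≪≫
    cokernelIso (((ModSite.tensorBi O).obj P).map ((ModSite.extZeroAdj O U).counit.app M))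
      ((genOver_extZero O U _).of_iso ((projF O U P).app ((ModSite.restr O U).obj M) ≪≫
        (tensorSymm O _ _)))
      (by
        have hz : IsZero ((ModSite.restr O U).obj ((ModSite.quotOn O U).obj M)) :=
          ExtSupp.isNullOn_quotOn O U M
        have h1 : IsZero (((ModSite.tensorBi (O.over U)).obj ((ModSite.restr O U).obj P)).obj
            ((ModSite.restr O U).obj ((ModSite.quotOn O U).obj M))) :=
          Functor.map_isZero _ hz
        have h2 : IsZero ((ModSite.restr O U).obj
            (((ModSite.tensorBi O).obj P).obj ((ModSite.quotOn O U).obj M))) :=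
          h1.of_iso (restrTensorIso O U P ((ModSite.quotOn O U).obj M))
        exact h2.of_iso ((ModSite.restr O U).mapIso
          (PreservesCokernel.iso ((ModSite.tensorBi O).obj P)
            ((ModSite.extZeroAdj O U).counit.app M)).symm))

lemma quotOnTensorIso'_π (P M : ModSite.Mod O) :
    ((ModSite.tensorBi O).obj P).map ((ModSite.quotOnπ O U).app M) ≫
      (quotOnTensorIso' O U P M).hom =
    (ModSite.quotOnπ O U).app (((ModSite.tensorBi O).obj P).obj M) := by
  have h1 : ((ModSite.tensorBi O).obj P).map ((ModSite.quotOnπ O U).app M) ≫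
      (PreservesCokernel.iso ((ModSite.tensorBi O).obj P)
        ((ModSite.extZeroAdj O U).counit.app M)).hom =
      cokernel.π (((ModSite.tensorBi O).obj P).map ((ModSite.extZeroAdj O U).counit.app M)) := by
    rw [← Iso.eq_comp_inv, PreservesCokernel.iso_inv]
    exact (π_comp_cokernelComparison _ _).symm
  unfold quotOnTensorIso'
  rw [Iso.trans_hom, ← Category.assoc, h1]
  exact cokernelIso_π _ _ _

/-- the components of `θ : (P/P_U) ⊗ M ≅ P ⊗ (M/M_U)`. -/
noncomputable def thetaApp (M P : ModSite.Mod O) :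
    ((ModSite.tensorBi O).flip.obj M).obj ((ModSite.quotOn O U).obj P) ≅
      ((ModSite.tensorBi O).flip.obj ((ModSite.quotOn O U).obj M)).obj P :=
  quotOnTensorIso O U P M ≪≫ (quotOnTensorIso' O U P M).symm

lemma thetaApp_π (M P : ModSite.Mod O) :
    ((ModSite.tensorBi O).flip.obj M).map ((ModSite.quotOnπ O U).app P) ≫
      (thetaApp O U M P).hom =
    ((ModSite.tensorBi O).obj P).map ((ModSite.quotOnπ O U).app M) := by
  unfold thetaApp
  rw [Iso.trans_hom, Iso.symm_hom, ← Category.assoc, quotOnTensorIso_π, Iso.comp_inv_eq]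
  exact (quotOnTensorIso'_π O U P M).symm

instance epi_tensor_π (M P : ModSite.Mod O) :
    Epi (((ModSite.tensorBi O).flip.obj M).map ((ModSite.quotOnπ O U).app P)) := by
  have : Epi ((ModSite.quotOnπ O U).app P) := inferInstance
  infer_instance

/-- `quotOn ⋙ (- ⊗ M) ≅ (- ⊗ M/M_U)`. -/
noncomputable def theta (M : ModSite.Mod O) :
    ModSite.quotOn O U ⋙ (ModSite.tensorBi O).flip.obj M ≅
      (ModSite.tensorBi O).flip.obj ((ModSite.quotOn O U).obj M) :=
  NatIso.ofComponents (fun P => thetaApp O U M P) (by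
    intro P' P g
    rw [← cancel_epi (((ModSite.tensorBi O).flip.obj M).map ((ModSite.quotOnπ O U).app P'))]
    have nat : g ≫ (ModSite.quotOnπ O U).app P =
        (ModSite.quotOnπ O U).app P' ≫ (ModSite.quotOn O U).map g :=
      (ModSite.quotOnπ O U).naturality g
    have e1 : ((ModSite.tensorBi O).flip.obj M).map ((ModSite.quotOnπ O U).app P') ≫
        (ModSite.quotOn O U ⋙ (ModSite.tensorBi O).flip.obj M).map g =
        ((ModSite.tensorBi O).flip.obj M).map g ≫
          ((ModSite.tensorBi O).flip.obj M).map ((ModSite.quotOnπ O U).app P) := by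
      rw [Functor.comp_map, ← Functor.map_comp, ← Functor.map_comp, nat]
    rw [← Category.assoc, e1, Category.assoc, thetaApp_π, ← Category.assoc, thetaApp_π]
    exact (((ModSite.tensorBi O).map g).naturality ((ModSite.quotOnπ O U).app M)).symm)

/-- `Γ_Z ∘ ℋom(M, -) ≅ ℋom(M/M_U, -)`. -/
noncomputable def sectOnSheafHomIso (M : ModSite.Mod O) [ModSite.HasSheafHom M]
    [ModSite.HasSheafHom ((ModSite.quotOn O U).obj M)] :
    ModSite.sheafHom M ⋙ ModSite.sectOn O U ≅
      ModSite.sheafHom ((ModSite.quotOn O U).obj M) :=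
  (((QuotOnAdj.adj O U).comp (ModSite.sheafHomAdj M)).ofNatIsoLeft
    (theta O U M)).rightAdjointUniq (ModSite.sheafHomAdj ((ModSite.quotOn O U).obj M))

open Groth.Agent.H31.SieveExt Groth.Agent.H31.LocTriv in
theorem ss_HC_extZSh [HasExt.{u} (ModSite.Mod O)] (M N : ModSite.Mod O) [ModSite.HasSheafHom M]
    [HasInjectiveResolutions (ModSite.Mod O)] :
    ∃ (E : E₂CohomologicalSpectralSequence AddCommGrpCat.{u})
      (a : SpSeq.Abutment E (fun n : ℤ =>
        if 0 ≤ n then AddCommGrpCat.of (ExtSupp.ExtZ U M N n.toNat) else AddCommGrpCat.of PUnit.{u + 1})),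
      (∀ n, a.IsFinite n) ∧ SpSeq.IsBounded E ∧
      ∀ p q : ℤ, Nonempty ((E.page 2 le_rfl).X (p, q) ≅
        (if 0 ≤ p ∧ 0 ≤ q then AddCommGrpCat.of (ModSite.HC O ((ModSite.extZSh U M q.toNat).obj N) p.toNat)
         else AddCommGrpCat.of PUnit.{u + 1})) := by
  let _ : HasDerivedCategory.{u + 1} (ModSite.Mod O) := HasDerivedCategory.standard _
  let _ : HasDerivedCategory.{u + 1} AddCommGrpCat.{u} := HasDerivedCategory.standard _
  have := ModExt.enoughInjectives (ModSite.ringSh O)
  have : ModSite.HasSheafHom ((ModSite.quotOn O U).obj M) := Groth.Agent.H45.hasSheafHom O _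
  have hT : ∀ Q : ModSite.Mod O, Injective Q → ∀ q : ℕ, 0 < q →
      IsZero (((preadditiveCoyoneda.obj (op (ModSite.unit O))).rightDerived q).obj
        ((ModSite.sheafHom M ⋙ ModSite.sectOn O U).obj Q)) := by
    intro Q hQ q hq
    obtain ⟨e⟩ := LocalGlobalExt.nonempty_iso_rightDerived_unit O
      ((ModSite.sheafHom M ⋙ ModSite.sectOn O U).obj Q) q
    refine IsZero.of_iso ?_ e
    obtain ⟨q', rfl⟩ : ∃ q', q = q' + 1 := ⟨q - 1, by omega⟩
    have h1 : Subsingleton (Ext (Zs J (ModH.T0 J).obj)
        (ModSite.toAb ((ModSite.sheafHom ((ModSite.quotOn O U).obj M)).obj Q)) (q' + 1)) :=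
      SheafHomAcyc.isTotallyAcyclic_sheafHom O ((ModSite.quotOn O U).obj M) Q (ModH.T0 J) q'
    have h2 : Subsingleton (ModSite.HC O ((ModSite.sheafHom ((ModSite.quotOn O U).obj M)).obj Q)
        (q' + 1)) :=
      (ModH.extAddEquivOfIso (ModH.ZsT0Iso J) _ (q' + 1)).symm.toEquiv.subsingleton
    have h3 : Subsingleton (ModSite.HC O ((ModSite.sheafHom M ⋙ ModSite.sectOn O U).obj Q)
        (q' + 1)) := by
      let i := (SheafOfModules.toSheaf (ModSite.ringSh O)).mapIso
        ((sectOnSheafHomIso O U M).app Q)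
      exact @Equiv.subsingleton _ _
        ((((Abelian.extFunctorObj _ (q' + 1)).mapIso i).addCommGroupIsoToAddEquiv).toEquiv) h2
    exact AddCommGrpCat.isZero_of_subsingleton _
  exact GrothSSExt.grothendieck_spectralSequence' (ModSite.sheafHom M ⋙ ModSite.sectOn O U)
    (preadditiveCoyoneda.obj (op (ModSite.unit O))) hT N
    (fun n => AddCommGrpCat.of (ExtSupp.ExtZ U M N n))
    (fun p q => AddCommGrpCat.of (ModSite.HC O ((ModSite.extZSh U M q).obj N) p))
    (AddCommGrpCat.of PUnit.{u + 1}) (AddCommGrpCat.isZero_of_subsingleton _)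
    (fun n => ⟨(GrothSSExt.rightDerivedIsoOfIso (gammaZHomIso O U M) n).app N ≪≫
      (ExtDerived.nonempty_iso_rightDerived ((ModSite.quotOn O U).obj M) n N).some.symm⟩)
    (fun p q => LocalGlobalExt.nonempty_iso_rightDerived_unit O _ p)

end Groth.Agent.H31.QuotOnTensor
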