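import Groth.Agent.H31.QuotOnTensor2

namespace Groth.Agent.H31.QuotOnTensor

open CategoryTheory Abelian Limits Opposite MonoidalCategory
open Groth.Agent.H30 Groth.Agent.H45 Groth.Agent.H31.ExtZero

universe u

variable {C : Type u} [SmallCategory C] {J : GrothendieckTopology C}
  (O : Sheaf J CommRingCat.{u}) (U : C) [ModSite.HasPushOver O U]

/-- `quotOn ⋙ (- ⊗ M) ≅ (- ⊗ M) ⋙ quotOn`. -/
noncomputable def thetaQ (M : ModSite.Mod O) :
    ModSite.quotOn O U ⋙ (ModSite.tensorBi O).flip.obj M ≅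
      (ModSite.tensorBi O).flip.obj M ⋙ ModSite.quotOn O U :=
  NatIso.ofComponents (fun P => quotOnTensorIso O U P M) (by
    intro P' P g
    rw [← cancel_epi (((ModSite.tensorBi O).flip.obj M).map ((ModSite.quotOnπ O U).app P'))]
    have nat : g ≫ (ModSite.quotOnπ O U).app P =
        (ModSite.quotOnπ O U).app P' ≫ (ModSite.quotOn O U).map g :=
      (ModSite.quotOnπ O U).naturality g
    have e1 : ((ModSite.tensorBi O).flip.obj M).map ((ModSite.quotOnπ O U).app P') ≫
        (ModSite.quotOn O U ⋙ (ModSite.tensorBi O).flip.obj M).map g =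
        ((ModSite.tensorBi O).flip.obj M).map g ≫
          ((ModSite.tensorBi O).flip.obj M).map ((ModSite.quotOnπ O U).app P) := by
      rw [Functor.comp_map, ← Functor.map_comp, ← Functor.map_comp, nat]
    rw [← Category.assoc, e1, Category.assoc, quotOnTensorIso_π, ← Category.assoc,
      quotOnTensorIso_π]
    exact (ModSite.quotOnπ O U).naturality (((ModSite.tensorBi O).flip.obj M).map g))

/-- `Γ_Z ∘ ℋom(M, -) ≅ ℋom(M, -) ∘ Γ_Z`. -/
noncomputable def sectOnSheafHomComm (M : ModSite.Mod O) [ModSite.HasSheafHom M] :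
    ModSite.sheafHom M ⋙ ModSite.sectOn O U ≅ ModSite.sectOn O U ⋙ ModSite.sheafHom M :=
  (((QuotOnAdj.adj O U).comp (ModSite.sheafHomAdj M)).ofNatIsoLeft
    (thetaQ O U M)).rightAdjointUniq ((ModSite.sheafHomAdj M).comp (QuotOnAdj.adj O U))

end Groth.Agent.H31.QuotOnTensor
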