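import Groth.Agent.H31.MonoRestr
import Groth.Agent.H31.ModH
import Groth.Prelude.Def_ModSite2

namespace Groth.Agent.H31.QuotZ

open CategoryTheory Abelian Limits Opposite
open Groth.Agent.H31.SieveExt Groth.Agent.H31.LocTriv Groth.Agent.H31.MonoRestr

universe u

variable {C : Type u} [SmallCategory C] (J : GrothendieckTopology C) (U : C)

/-- the map `eps U ⟶ pt` to the explicit terminal sheaf. -/
noncomputable def tau : ToposFin.eps J U ⟶ ModH.T0 J :=
  ⟨{ app := fun _ => ↾(fun _ => PUnit.unit) }⟩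

/-- `ℤ/ℤ_U`, with the explicit terminal sheaf. -/
noncomputable abbrev quotZ' : Sheaf J AddCommGrpCat.{u} := cokernel (ZsMap (tau J U))

instance epi_ZsMap {Y X : Sheaf J (Type u)} (p : Y ⟶ X) [Epi p] : Epi (ZsMap p) := by
  have : (Sheaf.composeAndSheafify J AddCommGrpCat.free.{u}).IsLeftAdjoint :=
    (Sheaf.adjunction J AddCommGrpCat.adj.{u}).isLeftAdjoint
  exact (inferInstance : Epi ((Sheaf.composeAndSheafify J AddCommGrpCat.free.{u}).map p))

/-- the short exact sequence `0 → ℤ[U'] → ℤ → ℤ/ℤ_U → 0`, `U'` the image of `eps U → pt`. -/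
noncomputable def ses : ShortComplex (Sheaf J AddCommGrpCat.{u}) :=
  ShortComplex.mk (ZsMap (Sheaf.imageι (tau J U))) (cokernel.π (ZsMap (Sheaf.imageι (tau J U))))
    (cokernel.condition _)

lemma ses_shortExact : (ses J U).ShortExact where
  exact := ShortComplex.exact_of_g_is_cokernel _ (cokernelIsCokernel _)
  mono_f := by
    change Mono (ZsMap (Sheaf.imageι (tau J U)))
    infer_instance
  epi_g := by
    change Epi (cokernel.π _)
    infer_instance

/-- `coker(ℤ[U'] → ℤ) ≅ coker(ℤ[eps U] → ℤ)`. -/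
noncomputable def sesX₃Iso : (ses J U).X₃ ≅ quotZ' J U := by
  have h : ZsMap (tau J U) = ZsMap (Sheaf.toImage (tau J U)) ≫ ZsMap (Sheaf.imageι (tau J U)) := by
    rw [← ZsMap_comp, Sheaf.toImage_ι]
  exact (cokernelEpiComp (ZsMap (Sheaf.toImage (tau J U)))
    (ZsMap (Sheaf.imageι (tau J U)))).symm ≪≫ cokernelIsoOfEq h.symm

variable {J}

theorem subsingleton_ext_ses_X₃ [HasExt.{u} (Sheaf J AddCommGrpCat.{u})]
    (G : Sheaf J AddCommGrpCat.{u}) (hG : CohCx.IsTotallyAcyclic G)
    (n : ℕ) : Subsingleton (Ext (ses J U).X₃ G (n + 1)) := by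
  have hS := ses_shortExact J U
  refine subsingleton_of_forall_eq 0 (fun x₃ => ?_)
  have h2 : Subsingleton (Ext (ses J U).X₂ G (n + 1)) := hG (ModH.T0 J) n
  obtain ⟨x₁, hx₁⟩ := Ext.contravariant_sequence_exact₃ hS G x₃ (Subsingleton.elim _ _)
    (show 1 + n = n + 1 by omega)
  rcases n with _ | m
  · obtain ⟨s, rfl⟩ := (Ext.mk₀_bijective _ _).2 x₁
    obtain ⟨r, hr⟩ := restr_surjective G hG (Sheaf.imageι (tau J U)) s
    have : Ext.mk₀ s = (Ext.mk₀ (ses J U).f).comp (Ext.mk₀ r) (zero_add 0) := by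
      rw [Ext.mk₀_comp_mk₀]
      exact congrArg Ext.mk₀ hr.symm
    rw [← hx₁, this, ← Ext.comp_assoc hS.extClass (Ext.mk₀ (ses J U).f) (Ext.mk₀ r)
      (add_zero 1) (zero_add 0) (by omega), hS.extClass_comp, Ext.zero_comp]
  · have h1 : Subsingleton (Ext (ses J U).X₁ G (m + 1)) := hG (Sheaf.image (tau J U)) m
    rw [← hx₁, Subsingleton.elim x₁ 0, Ext.comp_zero]

theorem subsingleton_ext_quotZ' [HasExt.{u} (Sheaf J AddCommGrpCat.{u})]
    (G : Sheaf J AddCommGrpCat.{u}) (hG : CohCx.IsTotallyAcyclic G)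
    (n : ℕ) : Subsingleton (Ext (quotZ' J U) G (n + 1)) := by
  have := subsingleton_ext_ses_X₃ U G hG n
  exact (ModH.extAddEquivOfIso (sesX₃Iso J U) G (n + 1)).symm.toEquiv.subsingleton

variable (J)

/-- the explicit terminal sheaf is terminal. -/
noncomputable def isTerminalT0 : IsTerminal (ModH.T0 J) :=
  IsTerminal.ofUniqueHom (fun X => ⟨{ app := fun _ => ↾(fun _ => PUnit.unit) }⟩) (fun X m => by
    apply Sheaf.hom_ext
    ext V x
    rfl)

/-- `ℤ/ℤ_U` with the explicit terminal sheaf is the prelude's `quotZ`. -/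
noncomputable def quotZIso : quotZ' J U ≅ ToposFin.quotZ (ToposFin.eps J U) :=
  cokernel.mapIso (ZsMap (tau J U))
    ((ToposFin.freeAb J).map (terminal.from (ToposFin.eps J U))) (Iso.refl _)
    ((ToposFin.freeAb J).mapIso ((isTerminalT0 J).uniqueUpToIso terminalIsTerminal)) (by
      have h : ZsMap (tau J U) = (ToposFin.freeAb J).map (tau J U) := rfl
      rw [h, Iso.refl_hom, Category.id_comp, Functor.mapIso_hom, ← Functor.map_comp]
      congr 1
      exact terminalIsTerminal.hom_ext _ _)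

end Groth.Agent.H31.QuotZ
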