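import Groth.Agent.H31.QuotZ
import Groth.Agent.H31.QuotOnTensor2

namespace Groth.Agent.H31.QuotZPhi

open CategoryTheory Abelian Limits Opposite
open Groth.Agent.H31.SieveExt Groth.Agent.H31.LocTriv Groth.Agent.H31.MonoRestr
  Groth.Agent.H31.QuotZ Groth.Agent.H31.ExtZero

universe u

section general

variable {𝒜 ℬ : Type*} [Category 𝒜] [Preadditive 𝒜] [Category ℬ] [Preadditive ℬ] (E : 𝒜 ⥤ ℬ)
  {A' A : 𝒜} {B' B : ℬ} (a : A' ⟶ A) (b : B' ⟶ B) [HasCokernel a] [HasCokernel b]
  (ψ : ∀ M : 𝒜, (A ⟶ M) ≃+ (B ⟶ E.obj M))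
  (hψ : ∀ {M M' : 𝒜} (g : M ⟶ M') (x : A ⟶ M), ψ M' (x ≫ g) = ψ M x ≫ E.map g)
  (h : ∀ (M : 𝒜) (s : A ⟶ M), a ≫ s = 0 ↔ b ≫ ψ M s = 0)

/-- a natural bijection of hom-sets compatible with two maps induces one on cokernels. -/
noncomputable def cokerHomEquiv (M : 𝒜) : (cokernel a ⟶ M) ≃+ (cokernel b ⟶ E.obj M) where
  toFun g := cokernel.desc b (ψ M (cokernel.π a ≫ g))
    ((h M _).1 (by rw [cokernel.condition_assoc, zero_comp]))
  invFun t := cokernel.desc a ((ψ M).symm (cokernel.π b ≫ t))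
    ((h M _).2 (by rw [AddEquiv.apply_symm_apply, cokernel.condition_assoc, zero_comp]))
  left_inv g := by
    apply coequalizer.hom_ext
    simp
  right_inv t := by
    apply coequalizer.hom_ext
    simp
  map_add' g g' := by
    apply coequalizer.hom_ext
    simp

include hψ in
lemma cokerHomEquiv_naturality {M M' : 𝒜} (g : M ⟶ M') (x : cokernel a ⟶ M) :
    cokerHomEquiv E a b ψ h M' (x ≫ g) = cokerHomEquiv E a b ψ h M x ≫ E.map g := by
  apply coequalizer.hom_ext
  simp [cokerHomEquiv, ← hψ]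

end general

variable {C : Type u} [SmallCategory C] {J : GrothendieckTopology C}
  (O : Sheaf J CommRingCat.{u}) (U : C)

lemma phi_zero (F : ModSite.Mod O) : ModH.phi (ModSite.ringSh O) F 0 = 0 :=
  (ModH.phiAdd (ModSite.ringSh O) F).map_zero

lemma homEquiv_zsMap_tau_comp_phi (F : ModSite.Mod O) (s : ModSite.unit O ⟶ F) :
    homEquiv J (ToposFin.eps J U).obj (ModSite.toAb F)
        (ZsMap (tau J U) ≫ ModH.phi (ModSite.ringSh O) F s) =
      (tau J U).hom ≫ ((F.val.presheaf ⋙ forget Ab).sectionsEquivHom PUnit.{u + 1})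
        (F.unitHomEquiv s) := by
  rw [homEquiv_naturality_left]
  congr 1
  exact Equiv.apply_symm_apply _ _

lemma zsMap_tau_comp_phi_eq_zero_iff (F : ModSite.Mod O) (s : ModSite.unit O ⟶ F) :
    ZsMap (tau J U) ≫ ModH.phi (ModSite.ringSh O) F s = 0 ↔
      ∀ (V : C) (_ : (ToposFin.eps J U).obj.obj (op V)),
        s.val.app (op V) (1 : (ModSite.ringSh O).obj.obj (op V)) = 0 := by
  constructor
  · intro h0 V x
    have h1 : ZsMap (tau J U) ≫ ModH.phi _ F s = ZsMap (tau J U) ≫ ModH.phi _ F 0 := by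
      rw [h0, phi_zero, comp_zero]
    have h2 := congrArg (homEquiv J (ToposFin.eps J U).obj (ModSite.toAb F)) h1
    rw [homEquiv_zsMap_tau_comp_phi, homEquiv_zsMap_tau_comp_phi] at h2
    have h3 := congrArg (fun t : (ToposFin.eps J U).obj ⟶ (ModSite.toAb F).obj ⋙ forget _ =>
      (t.app (op V)) x) h2
    exact h3
  · intro h0
    have : ZsMap (tau J U) ≫ ModH.phi _ F s = ZsMap (tau J U) ≫ ModH.phi _ F 0 := by
      apply (homEquiv J (ToposFin.eps J U).obj (ModSite.toAb F)).injective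
      rw [homEquiv_zsMap_tau_comp_phi, homEquiv_zsMap_tau_comp_phi]
      ext V x
      exact h0 V.unop x
    rw [this, phi_zero, comp_zero]

lemma counit_comp_eq_zero_iff_one (F : ModSite.Mod O) (s : ModSite.unit O ⟶ F) :
    (ModSite.extZeroAdj O U).counit.app (ModSite.unit O) ≫ s = 0 ↔
      ∀ (V : C) (_ : V ⟶ U), s.val.app (op V) (1 : (ModSite.ringSh O).obj.obj (op V)) = 0 := by
  rw [QuotOnAdj.counit_comp_eq_zero_iff]
  constructor
  · intro h V f
    have := congrArg (fun t : (ModSite.restr O U).obj (ModSite.unit O) ⟶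
      (ModSite.restr O U).obj F => t.val.app (op (Over.mk f))
        (1 : (ModSite.ringSh O).obj.obj (op V))) h
    exact this
  · intro h
    apply SheafOfModules.hom_ext
    apply PresheafOfModules.hom_ext
    intro Y
    apply ModuleCat.hom_ext
    apply LinearMap.ext
    intro (r : (ModSite.ringSh O).obj.obj (op Y.unop.left))
    have h1 := h Y.unop.left Y.unop.hom
    have h2 : s.val.app (op Y.unop.left) (r • (1 : (ModSite.ringSh O).obj.obj (op Y.unop.left))) =
        r • s.val.app (op Y.unop.left) (1 : (ModSite.ringSh O).obj.obj (op Y.unop.left)) :=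
      map_smul (s.val.app (op Y.unop.left)).hom r _
    rw [h1, smul_zero] at h2
    have h3 : r • (1 : (ModSite.ringSh O).obj.obj (op Y.unop.left)) = r := mul_one r
    rw [h3] at h2
    exact h2

/-- CRUX: a global section of `F` dies on `U` iff the corresponding map `ℤ ⟶ F` kills `ℤ[U]`. -/
lemma counit_comp_eq_zero_iff_zsMap (F : ModSite.Mod O) (s : ModSite.unit O ⟶ F) :
    (ModSite.extZeroAdj O U).counit.app (ModSite.unit O) ≫ s = 0 ↔
      ZsMap (tau J U) ≫ ModH.phi (ModSite.ringSh O) F s = 0 := by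
  rw [counit_comp_eq_zero_iff_one, zsMap_tau_comp_phi_eq_zero_iff]
  constructor
  · intro h V x
    have hmem := Presheaf.imageSieve_mem J (toSheafify J (yoneda.obj U)) x
    refine sect_ext_of_sieve O F _ hmem _ 0 (fun W g hg => ?_)
    obtain ⟨f, _⟩ := hg
    have h1 := h W f
    have nat := PresheafOfModules.naturality_apply s.val g.op
      (1 : (ModSite.ringSh O).obj.obj (op V))
    refine nat.symm.trans ?_
    have h2 : (ModSite.unit O).val.map g.op (1 : (ModSite.ringSh O).obj.obj (op V)) =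
        (1 : (ModSite.ringSh O).obj.obj (op W)) := map_one ((ModSite.ringSh O).obj.map g.op).hom
    have h3 := congrArg (fun t => s.val.app (op W) t) h2
    exact h3.trans (h1.trans (map_zero _).symm)
  · intro h V f
    exact h V ((toSheafify J (yoneda.obj U)).app (op V) f)

/-- `Hom_O(O/O_U, F) ≃+ Hom(ℤ/ℤ_U, F_ab)`. -/
noncomputable def phiZ (F : ModSite.Mod O) :
    ((ModSite.quotOn O U).obj (ModSite.unit O) ⟶ F) ≃+ (quotZ' J U ⟶ ModSite.toAb F) :=
  cokerHomEquiv (SheafOfModules.toSheaf (ModSite.ringSh O))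
    ((ModSite.extZeroAdj O U).counit.app (ModSite.unit O)) (ZsMap (tau J U))
    (fun M => ModH.phiAdd (ModSite.ringSh O) M)
    (fun M s => counit_comp_eq_zero_iff_zsMap O U M s) F

lemma phiZ_naturality {F F' : ModSite.Mod O} (g : F ⟶ F')
    (x : (ModSite.quotOn O U).obj (ModSite.unit O) ⟶ F) :
    phiZ O U F' (x ≫ g) = phiZ O U F x ≫ (SheafOfModules.toSheaf (ModSite.ringSh O)).map g :=
  cokerHomEquiv_naturality (SheafOfModules.toSheaf (ModSite.ringSh O))
    ((ModSite.extZeroAdj O U).counit.app (ModSite.unit O)) (ZsMap (tau J U))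
    (fun M => ModH.phiAdd (ModSite.ringSh O) M)
    (fun {_ _} g x => ModH.phi_naturality (ModSite.ringSh O) g x)
    (fun M s => counit_comp_eq_zero_iff_zsMap O U M s) g x

/-- `Ext^n_O(O/O_U, F) ≃+ H^n_Z(F)`. -/
theorem nonempty_ext_quotOn_unit_addEquiv_HZ [HasExt.{u} (ModSite.Mod O)]
    (F : ModSite.Mod O) (n : ℕ) :
    Nonempty (Ext ((ModSite.quotOn O U).obj (ModSite.unit O)) F n ≃+ ModSite.HZ U F n) := by
  have := ModExt.enoughInjectives (ModSite.ringSh O)
  have : PreservesFiniteColimits (SheafOfModules.toSheaf.{u} (ModSite.ringSh O)) :=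
    (Groth.Agent.H31.toSheaf_preservesColimits (ModSite.ringSh O)).preservesFiniteColimits
  obtain ⟨e⟩ := DeltaComp.nonempty_addEquiv (SheafOfModules.toSheaf (ModSite.ringSh O))
    ((ModSite.quotOn O U).obj (ModSite.unit O)) (quotZ' J U) (fun M => phiZ O U M)
    (fun {_ _} g x => phiZ_naturality O U g x)
    (fun I hI n => subsingleton_ext_quotZ' U _
      (ModAcyc.totallyAcyclic_of_injective (ModSite.ringSh O) I) n) n F
  exact ⟨e.trans (ModH.extAddEquivOfIso (quotZIso J U) _ n)⟩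

end Groth.Agent.H31.QuotZPhi
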