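import Groth.Agent.H31.QuotZPhi

namespace Groth.Agent.H31.QuotZSS

open CategoryTheory Abelian Limits Opposite
open Groth.Agent.H30 Groth.Agent.H31.QuotZ Groth.Agent.H31.QuotZPhi Groth.Agent.H31.QuotOnTensor

universe u

variable {C : Type u} [SmallCategory C] {J : GrothendieckTopology C}
  (O : Sheaf J CommRingCat.{u}) (U : C)

/-- `H^{n+1}_Z(F) = 0` for `F` with totally acyclic underlying abelian sheaf. -/
lemma subsingleton_HZ_of_totallyAcyclic (F : ModSite.Mod O)
    (hF : CohCx.IsTotallyAcyclic (ModSite.toAb F)) (n : ℕ) :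
    Subsingleton (ModSite.HZ U F (n + 1)) := by
  have := subsingleton_ext_quotZ' U _ hF n
  exact (ModH.extAddEquivOfIso (quotZIso J U) (ModSite.toAb F) (n + 1)).symm.toEquiv.subsingleton

variable [ModSite.HasPushOver O U]

/-- `ℋom(M, -) ⋙ Hom(O/O_U, -) ≅ Hom(M/M_U, -)`. -/
noncomputable def tauHomZ (M : ModSite.Mod O) [ModSite.HasSheafHom M] :
    ModSite.sheafHom M ⋙ preadditiveCoyoneda.obj (op ((ModSite.quotOn O U).obj (ModSite.unit O))) ≅
      preadditiveCoyoneda.obj (op ((ModSite.quotOn O U).obj M)) :=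
  ConstPush.adjHomIso (ModSite.sheafHomAdj M) ((ModSite.quotOn O U).obj (ModSite.unit O)) ≪≫
    preadditiveCoyoneda.mapIso (quotOnUnitTensorIso O U M).symm.op

theorem ss_HZ_extSh [HasExt.{u} (ModSite.Mod O)] (M N : ModSite.Mod O) [ModSite.HasSheafHom M]
    [HasInjectiveResolutions (ModSite.Mod O)] :
    ∃ (E : E₂CohomologicalSpectralSequence AddCommGrpCat.{u})
      (a : SpSeq.Abutment E (fun n : ℤ =>
        if 0 ≤ n then AddCommGrpCat.of (ExtSupp.ExtZ U M N n.toNat) else AddCommGrpCat.of PUnit.{u + 1})),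
      (∀ n, a.IsFinite n) ∧ SpSeq.IsBounded E ∧
      ∀ p q : ℤ, Nonempty ((E.page 2 le_rfl).X (p, q) ≅
        (if 0 ≤ p ∧ 0 ≤ q then AddCommGrpCat.of (ModSite.HZ U ((ModSite.extSh M q.toNat).obj N) p.toNat)
         else AddCommGrpCat.of PUnit.{u + 1})) := by
  let _ : HasDerivedCategory.{u + 1} (ModSite.Mod O) := HasDerivedCategory.standard _
  let _ : HasDerivedCategory.{u + 1} AddCommGrpCat.{u} := HasDerivedCategory.standard _
  have := ModExt.enoughInjectives (ModSite.ringSh O)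
  have hS : ∀ (F : ModSite.Mod O) (p : ℕ), Nonempty
      (((preadditiveCoyoneda.obj (op ((ModSite.quotOn O U).obj (ModSite.unit O)))).rightDerived p).obj F ≅
        AddCommGrpCat.of (ModSite.HZ U F p)) := by
    intro F p
    obtain ⟨e⟩ := ExtDerived.nonempty_iso_rightDerived
      ((ModSite.quotOn O U).obj (ModSite.unit O)) p F
    obtain ⟨e'⟩ := nonempty_ext_quotOn_unit_addEquiv_HZ O U F p
    exact ⟨e.symm ≪≫ AddEquiv.toAddCommGrpIso e'⟩
  have hT : ∀ Q : ModSite.Mod O, Injective Q → ∀ q : ℕ, 0 < q →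
      IsZero (((preadditiveCoyoneda.obj (op ((ModSite.quotOn O U).obj (ModSite.unit O)))).rightDerived q).obj
        ((ModSite.sheafHom M).obj Q)) := by
    intro Q hQ q hq
    obtain ⟨e⟩ := hS ((ModSite.sheafHom M).obj Q) q
    refine IsZero.of_iso ?_ e
    obtain ⟨q', rfl⟩ : ∃ q', q = q' + 1 := ⟨q - 1, by omega⟩
    have := subsingleton_HZ_of_totallyAcyclic O U ((ModSite.sheafHom M).obj Q)
      (SheafHomAcyc.isTotallyAcyclic_sheafHom O M Q) q'
    exact AddCommGrpCat.isZero_of_subsingleton _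
  exact GrothSSExt.grothendieck_spectralSequence' (ModSite.sheafHom M)
    (preadditiveCoyoneda.obj (op ((ModSite.quotOn O U).obj (ModSite.unit O)))) hT N
    (fun n => AddCommGrpCat.of (ExtSupp.ExtZ U M N n))
    (fun p q => AddCommGrpCat.of (ModSite.HZ U ((ModSite.extSh M q).obj N) p))
    (AddCommGrpCat.of PUnit.{u + 1}) (AddCommGrpCat.isZero_of_subsingleton _)
    (fun n => ⟨(GrothSSExt.rightDerivedIsoOfIso (tauHomZ O U M) n).app N ≪≫
      (ExtDerived.nonempty_iso_rightDerived ((ModSite.quotOn O U).obj M) n N).some.symm⟩)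
    (fun p q => hS _ p)

end Groth.Agent.H31.QuotZSS
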