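import Groth.Agent.H31.QuotZSS

namespace Groth.Agent.H31.QuotZSS

open CategoryTheory Abelian Limits Opposite
open Groth.Agent.H30 Groth.Agent.H31.QuotZ Groth.Agent.H31.QuotZPhi Groth.Agent.H31.QuotOnTensor

universe u

variable {C : Type u} [SmallCategory C] {J : GrothendieckTopology C}
  (O : Sheaf J CommRingCat.{u}) (U : C)

lemma hasExt_mod : HasExt.{u} (ModSite.Mod O) := by
  have := ModExt.enoughInjectives (ModSite.ringSh O)
  exact hasExt_of_enoughInjectives.{u} (ModSite.Mod O)

theorem ss_HC_HZsh (M : ModSite.Mod O)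
    [ModSite.HasPushOver O U] [HasInjectiveResolutions (ModSite.Mod O)] :
    ∃ (E : E₂CohomologicalSpectralSequence AddCommGrpCat.{u})
      (a : SpSeq.Abutment E (fun n : ℤ =>
        if 0 ≤ n then AddCommGrpCat.of (ModSite.HZ U M n.toNat) else AddCommGrpCat.of PUnit.{u + 1})),
      (∀ n : ℤ, a.IsFinite n) ∧ SpSeq.IsBounded E ∧
      ∀ p q : ℤ, Nonempty ((E.page 2 le_rfl).X (p, q) ≅
        (if 0 ≤ p ∧ 0 ≤ q then AddCommGrpCat.of (ModSite.HC O ((ModSite.HZsh O U q.toNat).obj M) p.toNat)
          else AddCommGrpCat.of PUnit.{u + 1})) := by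
  have := hasExt_mod O
  let _ : HasDerivedCategory.{u + 1} (ModSite.Mod O) := HasDerivedCategory.standard _
  let _ : HasDerivedCategory.{u + 1} AddCommGrpCat.{u} := HasDerivedCategory.standard _
  have := ModExt.enoughInjectives (ModSite.ringSh O)
  have hT : ∀ Q : ModSite.Mod O, Injective Q → ∀ q : ℕ, 0 < q →
      IsZero (((preadditiveCoyoneda.obj (op (ModSite.unit O))).rightDerived q).obj
        ((ModSite.sectOn O U).obj Q)) := by
    intro Q hQ q hq
    have := QuotOnExact.injective_sectOn (U := U) Q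
    obtain ⟨q', rfl⟩ : ∃ q', q = q' + 1 := ⟨q - 1, by omega⟩
    exact Functor.isZero_rightDerived_obj_injective_succ _ q' _
  exact GrothSSExt.grothendieck_spectralSequence' (ModSite.sectOn O U)
    (preadditiveCoyoneda.obj (op (ModSite.unit O))) hT M
    (fun n => AddCommGrpCat.of (ModSite.HZ U M n))
    (fun p q => AddCommGrpCat.of (ModSite.HC O ((ModSite.HZsh O U q).obj M) p))
    (AddCommGrpCat.of PUnit.{u + 1}) (AddCommGrpCat.isZero_of_subsingleton _)
    (fun n => ⟨(GrothSSExt.rightDerivedIsoOfIso (QuotOnSS.tauSect U (ModSite.unit O)) n).app M ≪≫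
      (ExtDerived.nonempty_iso_rightDerived ((ModSite.quotOn O U).obj (ModSite.unit O)) n M).some.symm ≪≫
      AddEquiv.toAddCommGrpIso (nonempty_ext_quotOn_unit_addEquiv_HZ O U M n).some⟩)
    (fun p q => LocalGlobalExt.nonempty_iso_rightDerived_unit O _ p)

end Groth.Agent.H31.QuotZSS
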