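import Mathlib.CategoryTheory.Limits.Shapes.Pullback.HasPullback
import Mathlib.CategoryTheory.Limits.Preserves.Shapes.Pullbacks
import Mathlib.CategoryTheory.Limits.EpiMono
import Mathlib.CategoryTheory.Limits.Shapes.Diagonal
import Mathlib.CategoryTheory.Functor.ReflectsIso.Basic

set_option autoImplicit false
universe w v₁ v₂ u₁ u₂

namespace Groth.Agent.H31

open CategoryTheory CategoryTheory.Limits

/-- If a family of pullback-preserving functors reflects isomorphisms among monomorphisms,
then it jointly reflects all isomorphisms. -/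
theorem isIso_of_forall_isIso_map_of_mono {E : Type u₁} [Category.{v₁} E] [HasPullbacks E]
    {κ : Type w} {E' : κ → Type u₂} [∀ k, Category.{v₂} (E' k)] (φ : ∀ k, E ⥤ E' k)
    [∀ k, PreservesLimitsOfShape WalkingCospan (φ k)]
    (h : ∀ ⦃X Y : E⦄ (u : X ⟶ Y), Mono u → (∀ k, IsIso ((φ k).map u)) → IsIso u)
    ⦃X Y : E⦄ (f : X ⟶ Y) (hf : ∀ k, IsIso ((φ k).map f)) : IsIso f := by
  have hc := pullbackIsPullback f f
  -- the first projection of the kernel pair is inverted by every φ k
  have hfst : ∀ k, IsIso ((φ k).map (pullback.fst f f)) := by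
    intro k
    have : Mono ((φ k).map f) := by
      have := hf k
      infer_instance
    exact (mono_iff_isIso_fst ((isLimitMapConePullbackConeEquiv (φ k) pullback.condition).1
      (isLimitOfPreserves (φ k) hc))).1 this
  -- the diagonal is a mono inverted by every φ k
  have hdiag : ∀ k, IsIso ((φ k).map (pullback.diagonal f)) := by
    intro k
    have := hfst k
    have hcomp : (φ k).map (pullback.diagonal f) ≫ (φ k).map (pullback.fst f f) = 𝟙 _ := by
      rw [← Functor.map_comp, pullback.diagonal_fst, CategoryTheory.Functor.map_id]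
    have h1 : IsIso (𝟙 ((φ k).obj X)) := inferInstance
    exact IsIso.of_isIso_fac_right hcomp
  have hΔ : IsIso (pullback.diagonal f) := h _ inferInstance hdiag
  have hfstiso : IsIso (pullback.fst f f) := by
    have hcomp : pullback.diagonal f ≫ pullback.fst f f = 𝟙 _ := pullback.diagonal_fst f
    have h1 : IsIso (𝟙 X) := inferInstance
    exact IsIso.of_isIso_fac_left hcomp
  have hmono : Mono f := (mono_iff_isIso_fst hc).2 hfstiso
  exact h f hmono hf

end Groth.Agent.H31
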