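import Groth.Agent.H31.RpushToAb
import Groth.Agent.S4456
import Groth.Agent.H30.AffinePush

set_option autoImplicit false
universe u
open CategoryTheory CategoryTheory.Limits AlgebraicGeometry TopologicalSpace Groth.Agent.H31.RpushToAb

namespace Groth.Agent.H31.RpushToAb2

/-- a module whose underlying abelian sheaf is zero is zero. -/
lemma isZero_of_isZero_toAb {X : Scheme.{u}} (M : X.Modules) (h : IsZero (Coh.toAb M)) : IsZero M := by
  rw [IsZero.iff_id_eq_zero]
  apply (SheafOfModules.toSheaf X.ringCatSheaf).map_injective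
  exact h.eq_of_src _ _

theorem isZero_Rpush_push_restrict {X Y : Scheme.{u}} (f : X ⟶ Y) [IsSeparated f]
    (U : X.Opens) [IsAffineHom (U.ι ≫ f)] (F : X.Modules) (hF : Coh.IsQCoh F)
    [HasInjectiveResolutions X.Modules] (j : ℕ) (hj : 0 < j) :
    IsZero ((Coh.Rpush f j).obj ((Scheme.Modules.pushforward U.ι).obj
      ((Scheme.Modules.restrictFunctor U.ι).obj F))) := by
  have : IsAffineHom U.ι := IsAffineHom.of_comp U.ι f
  have : Coh.IsQCoh F := hF
  have hG : Coh.IsQCoh ((Scheme.Modules.restrictFunctor U.ι).obj F) :=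
    Scheme.Modules.isQuasicoherent_restrictFunctor U.ι F
  apply isZero_of_isZero_toAb
  obtain ⟨e⟩ := nonempty_iso f ((Scheme.Modules.pushforward U.ι).obj
      ((Scheme.Modules.restrictFunctor U.ι).obj F)) j
  refine IsZero.of_iso ?_ e
  obtain ⟨e2⟩ := Groth.Agent.S4456.result U.ι f ((Scheme.Modules.restrictFunctor U.ι).obj F) j
  refine IsZero.of_iso ?_ e2
  obtain ⟨k, rfl⟩ : ∃ k, j = k + 1 := ⟨j - 1, by omega⟩
  exact Groth.Agent.H30.AffinePush.isZero_RpushAb (U.ι ≫ f) _ k

end Groth.Agent.H31.RpushToAb2
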