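import Groth.Agent.H31.ContraResSch
import Groth.Agent.H31.RpushToAb2
import Groth.Agent.H31.SheafHomAcyc
import Groth.Agent.H31.PushAcyc
import Groth.Agent.H30.GrothSSExt
import Groth.Agent.H31.ModExt

/-!
# The spectral sequence `R^a g_* ℰxt^b_f(F, G) ⇒ ℰxt^{a+b}_{gf}(F, G)`
-/

set_option autoImplicit false
open CategoryTheory Limits Opposite AlgebraicGeometry TopologicalSpace ZeroObject
universe u

namespace Groth.Agent.H31.RelExtSS

open Groth.Agent.H45 Groth.Agent.H30 Groth.Agent.H31.RelExtLES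

variable {X Y Z : Scheme.{u}} (f : X ⟶ Y) (g : Y ⟶ Z)

/-- `f_* ℋom(F, Q)` is `g_*`-acyclic for `Q` injective. -/
theorem isZero_Rpush_pf_sheafHom [HasInjectiveResolutions Y.Modules] (F Q : ModSite.Mod X.sheaf)
    [ModSite.HasSheafHom (O := X.sheaf) F] (hQ : Injective Q) (q : ℕ) (hq : 0 < q) :
    IsZero ((Coh.Rpush g q).obj ((pf f).obj ((ModSite.sheafHom (O := X.sheaf) F).obj Q))) := by
  apply RpushToAb2.isZero_of_isZero_toAb
  obtain ⟨e⟩ := RpushToAb.nonempty_iso g ((pf f).obj ((ModSite.sheafHom (O := X.sheaf) F).obj Q)) q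
  refine IsZero.of_iso ?_ e
  obtain ⟨j, rfl⟩ : ∃ j, q = j + 1 := ⟨q - 1, by omega⟩
  have hG := Groth.Agent.H31.SheafHomAcyc.isTotallyAcyclic_sheafHom X.sheaf F Q
  have hfl : PreservesFiniteLimits (PushAdj.Gam (Opens.grothendieckTopology X)
      (Opens.grothendieckTopology Y) (Opens.map f.base)) :=
    Functor.SmallCategories.instPreservesFiniteLimitsSheafSheafPullbackOfRepresentablyFlat _ _ _ _
  have h2 := PushAcyc.isTotallyAcyclic_push (J := Opens.grothendieckTopology X)
    (K := Opens.grothendieckTopology Y) (u := Opens.map f.base) _ hG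
  exact PushRD.isZero_Rpush_of_totallyAcyclic (J := Opens.grothendieckTopology Y)
    (K := Opens.grothendieckTopology Z) (u := Opens.map g.base) _ h2 j


/-- `(ℋom(F, -) ⋙ f_*) ⋙ g_* ≅ ℋom(F, -) ⋙ (f ≫ g)_*`. -/
noncomputable def compIso (F : ModSite.Mod X.sheaf) [ModSite.HasSheafHom (O := X.sheaf) F] :
    (ModSite.sheafHom (O := X.sheaf) F ⋙ Scheme.Modules.pushforward f) ⋙
        Scheme.Modules.pushforward g ≅
      ModSite.sheafHom (O := X.sheaf) F ⋙ Scheme.Modules.pushforward (f ≫ g) :=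
  Functor.associator _ _ _ ≪≫
    Functor.isoWhiskerLeft (ModSite.sheafHom (O := X.sheaf) F) (Scheme.Modules.pushforwardComp f g)

theorem spectralSequence (F G : ModSite.Mod X.sheaf) [ModSite.HasSheafHom (O := X.sheaf) F]
    [HasInjectiveResolutions (ModSite.Mod X.sheaf)] [HasInjectiveResolutions Y.Modules]
    [(ModSite.sheafHom (O := X.sheaf) F ⋙ Scheme.Modules.pushforward f).Additive]
    [(ModSite.sheafHom (O := X.sheaf) F ⋙ Scheme.Modules.pushforward (f ≫ g)).Additive] :
    ∃ (E : E₂CohomologicalSpectralSequence Z.Modules)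
      (a : SpSeq.Abutment E (fun n : ℤ =>
        if 0 ≤ n then ((ModSite.sheafHom (O := X.sheaf) F ⋙
          Scheme.Modules.pushforward (f ≫ g)).rightDerived n.toNat).obj G else (0 : Z.Modules))),
      (∀ n : ℤ, a.IsFinite n) ∧ SpSeq.IsBounded E ∧
      ∀ p q : ℤ, Nonempty ((E.page 2 le_rfl).X (p, q) ≅
        (if 0 ≤ p ∧ 0 ≤ q then (Coh.Rpush g p.toNat).obj (((ModSite.sheafHom (O := X.sheaf) F ⋙
            Scheme.Modules.pushforward f).rightDerived q.toNat).obj G)
          else (0 : Z.Modules))) := by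
  let _ : HasDerivedCategory.{u + 1} Y.Modules := HasDerivedCategory.standard _
  let _ : HasDerivedCategory.{u + 1} Z.Modules := HasDerivedCategory.standard _
  have hE : EnoughInjectives Y.Modules := ModExt.enoughInjectives Y.ringCatSheaf
  have hlim : PreservesFiniteLimits (Scheme.Modules.pushforward g) :=
    (inferInstance : PreservesFiniteLimits (pf g))
  exact GrothSSExt.grothendieck_spectralSequence'
    (ModSite.sheafHom (O := X.sheaf) F ⋙ Scheme.Modules.pushforward f)
    (Scheme.Modules.pushforward g)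
    (fun Q hQ q hq => isZero_Rpush_pf_sheafHom f g F Q hQ q hq) G
    (fun n => ((ModSite.sheafHom (O := X.sheaf) F ⋙
      Scheme.Modules.pushforward (f ≫ g)).rightDerived n).obj G)
    (fun p q => (Coh.Rpush g p).obj (((ModSite.sheafHom (O := X.sheaf) F ⋙
      Scheme.Modules.pushforward f).rightDerived q).obj G))
    0 (isZero_zero _)
    (fun n => ⟨(GrothSSExt.rightDerivedIsoOfIso (compIso f g F) n).app G⟩)
    (fun p q => ⟨Iso.refl _⟩)

end Groth.Agent.H31.RelExtSS
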