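import Groth.Agent.H31.SchRestr1
import Groth.Agent.H33.SchemeDer.BaseChange

/-!
# Restriction to an open and relative Ext sheaves
-/

set_option autoImplicit false
set_option linter.unusedSectionVars false
open CategoryTheory Limits Opposite AlgebraicGeometry
universe v v' v'' v''' u u' u'' u'''

namespace Groth.Agent.H31.SchRestr

section Generic

variable {A : Type u} [Category.{v} A] [Abelian A] [HasInjectiveResolutions A]
  {A' : Type u'} [Category.{v'} A'] [Abelian A'] [HasInjectiveResolutions A']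
  {B : Type u''} [Category.{v''} B] [Abelian B]
  {B' : Type u'''} [Category.{v'''} B'] [Abelian B']
  (H : A ⥤ B) [H.Additive] (H' : A' ⥤ B') [H'.Additive]
  (R : A ⥤ A') [R.Additive] [PreservesFiniteLimits R] [PreservesFiniteColimits R]
  (hR : ∀ Q : A, Injective Q → Injective (R.obj Q))
  (R' : B ⥤ B') [R'.Additive] [PreservesFiniteLimits R'] [PreservesFiniteColimits R']
  (e : H ⋙ R' ≅ R ⋙ H')

/-- If `H ⋙ R' ≅ R ⋙ H'` with `R`, `R'` exact and `R` preserving injectives, then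
`RᵖH ⋙ R' ≅ R ⋙ RᵖH'`. -/
noncomputable def derivedSquareIso (p : ℕ) : H.rightDerived p ⋙ R' ≅ R ⋙ H'.rightDerived p :=
  (Groth.Agent.H31.PostDerived.rightDerivedPostIso H R' p).symm ≪≫
    Groth.Agent.H30.GrothSSExt.rightDerivedIsoOfIso e p ≪≫
    Groth.Agent.H30.DerivedComp.rightDerivedCompIso R hR H' p

end Generic


section Rel

open Scheme.Modules

universe w

variable {X Y : Scheme.{w}} (f : X ⟶ Y) (W : Y.Opens) (F : X.Modules)
  [ModSite.HasSheafHom (O := X.sheaf) F]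
  [ModSite.HasSheafHom (O := ((f ⁻¹ᵁ W : X.Opens) : Scheme.{w}).sheaf)
    ((restrictFunctor (f ⁻¹ᵁ W).ι).obj F)]

/-- `(f_* ℋom(F, -))|_W ≅ (f|_W)_* ℋom(F|_{f⁻¹W}, (-)|_{f⁻¹W})`. -/
noncomputable def relSheafHomRestrIso :
    (ModSite.sheafHom (O := X.sheaf) F ⋙ Scheme.Modules.pushforward f) ⋙ restrictFunctor W.ι ≅
      rs (f ⁻¹ᵁ W) ⋙
        (ModSite.sheafHom (O := ((f ⁻¹ᵁ W : X.Opens) : Scheme.{w}).sheaf)
          ((restrictFunctor (f ⁻¹ᵁ W).ι).obj F) ⋙ Scheme.Modules.pushforward (f ∣_ W)) :=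
  Functor.associator _ _ _ ≪≫
    Functor.isoWhiskerLeft _ (Groth.Agent.H33.SchemeDer.baseChangeIso f W) ≪≫
    (Functor.associator _ _ _).symm ≪≫
    Functor.isoWhiskerRight (sheafHomRestrIso (f ⁻¹ᵁ W) F) _ ≪≫
    Functor.associator _ _ _

variable [HasInjectiveResolutions (ModSite.Mod X.sheaf)]
  [HasInjectiveResolutions (ModSite.Mod ((f ⁻¹ᵁ W : X.Opens) : Scheme.{w}).sheaf)]
  [(ModSite.sheafHom (O := X.sheaf) F ⋙ Scheme.Modules.pushforward f).Additive]
  [(ModSite.sheafHom (O := ((f ⁻¹ᵁ W : X.Opens) : Scheme.{w}).sheaf)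
      ((restrictFunctor (f ⁻¹ᵁ W).ι).obj F) ⋙ Scheme.Modules.pushforward (f ∣_ W)).Additive]

/-- relative Ext sheaves commute with restriction to an open of the base -/
noncomputable def relExtRestrIso (p : ℕ) :
    (ModSite.sheafHom (O := X.sheaf) F ⋙ Scheme.Modules.pushforward f).rightDerived p ⋙
        restrictFunctor W.ι ≅
      rs (f ⁻¹ᵁ W) ⋙
        (ModSite.sheafHom (O := ((f ⁻¹ᵁ W : X.Opens) : Scheme.{w}).sheaf)
          ((restrictFunctor (f ⁻¹ᵁ W).ι).obj F) ⋙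
            Scheme.Modules.pushforward (f ∣_ W)).rightDerived p :=
  derivedSquareIso _ _ (rs (f ⁻¹ᵁ W)) (fun Q hQ => @injective_restrict _ (f ⁻¹ᵁ W) Q hQ)
    (restrictFunctor W.ι) (relSheafHomRestrIso f W F) p

end Rel

end Groth.Agent.H31.SchRestr
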