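import Groth.Agent.H31.AbsCartan

namespace Groth.Agent.H31.SectExact

open CategoryTheory Abelian Limits Opposite AlgebraicTopology Simplicial SimplicialObject
open Groth.Agent.H31.CechRes

universe v' u' u

variable {C : Type u} [SmallCategory C] {J : GrothendieckTopology C}
  {K' K : Sheaf J (Type u)} (f : K' ⟶ K)

section ab

variable (Lp : (Cᵒᵖ ⥤ Type u) ⥤ (Cᵒᵖ ⥤ AddCommGrpCat.{u}))
  (Φ : ∀ _ : Cᵒᵖ, Type u ⥤ AddCommGrpCat.{u})
  (e : ∀ U : Cᵒᵖ, Lp ⋙ (evaluation Cᵒᵖ AddCommGrpCat.{u}).obj U ≅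
    (evaluation Cᵒᵖ (Type u)).obj U ⋙ Φ U)

/-- sectionwise identification. -/
noncomputable def eUL (U : Cᵒᵖ) :
    ((Augmented.whiskering _ _).obj ((evaluation Cᵒᵖ AddCommGrpCat.{u}).obj U)).obj
      (((Augmented.whiskering _ _).obj Lp).obj (augT f)) ≅
    ((Augmented.whiskering _ _).obj (Φ U)).obj (augU f U) :=
  ((Augmented.whiskering _ _).mapIso (e U)).app (augT f)

include e in
lemma quasiIso_ε_Lp :
    QuasiIso (AlternatingFaceMapComplex.ε.app (((Augmented.whiskering _ _).obj Lp).obj (augT f))) := by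
  rw [HomologicalComplex.quasiIso_iff_evaluation]
  intro U
  rw [AFMCMap.quasiIso_map_ε_iff, quasiIso_ε_iff_of_iso (eUL f Lp Φ e U)]
  exact (((edU f U).map (Φ U)).homotopyEquiv).quasiIso_hom

end ab

section comp

variable {𝒞 : Type*} [Category 𝒞] {𝒟 : Type*} [Category 𝒟] {ℰ : Type*} [Category ℰ]

/-- whiskering an augmented simplicial object twice. -/
def whiskeringCompIso (F : 𝒞 ⥤ 𝒟) (G : 𝒟 ⥤ ℰ) (X : Augmented 𝒞) :
    ((Augmented.whiskering _ _).obj G).obj (((Augmented.whiskering _ _).obj F).obj X) ≅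
      ((Augmented.whiskering _ _).obj (F ⋙ G)).obj X :=
  Comma.isoMk (Iso.refl _) (Iso.refl _) (by
    ext n
    simp [Augmented.whiskering, Augmented.whiskeringObj]
    exact Category.id_comp _)

lemma exactAt_succ' {A : Type*} [Category A] [Abelian A] {P : ChainComplex A ℕ} {M : A}
    (π : P ⟶ (ChainComplex.single₀ A).obj M) [QuasiIso π] (n : ℕ) : P.ExactAt (n + 1) := by
  rw [← quasiIsoAt_iff_exactAt' π (n + 1) (ChainComplex.exactAt_succ_single_obj _ _)]
  infer_instance

end comp

section modules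

variable (R : Sheaf J RingCat.{u})

/-- sheafification of presheaves of modules. -/
noncomputable abbrev shfR : PresheafOfModules.{u} R.obj ⥤ SheafOfModules.{u} R :=
  PresheafOfModules.sheafification (𝟙 R.obj)

/-- the sheafification adjunction. -/
noncomputable abbrev adjR : shfR R ⊣ SheafOfModules.forget R :=
  PresheafOfModules.sheafificationAdjunction (𝟙 R.obj)

instance : (shfR R).Additive := (adjR R).left_adjoint_additive

/-- free presheaf of modules. -/
noncomputable abbrev freeR : (Cᵒᵖ ⥤ Type u) ⥤ PresheafOfModules.{u} R.obj :=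
  PresheafOfModules.free R.obj

/-- sectionwise free module functor. -/
noncomputable abbrev ΦR (U : Cᵒᵖ) : Type u ⥤ AddCommGrpCat.{u} :=
  ModuleCat.free (R.obj.obj U) ⋙ forget₂ _ _

/-- sectionwise description of the free presheaf of modules. -/
noncomputable def eR (U : Cᵒᵖ) :
    (freeR R ⋙ PresheafOfModules.toPresheaf R.obj) ⋙ (evaluation Cᵒᵖ AddCommGrpCat.{u}).obj U ≅
      (evaluation Cᵒᵖ (Type u)).obj U ⋙ ΦR R U :=
  NatIso.ofComponents (fun T => Iso.refl _) (by
    intro T T' τ
    exact (Category.comp_id _).trans (Category.id_comp _).symm)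

lemma quasiIso_ε_freeR :
    QuasiIso (AlternatingFaceMapComplex.ε.app
      (((Augmented.whiskering _ _).obj (freeR R)).obj (augT f))) := by
  rw [← HomologicalComplex.quasiIso_map_iff_of_preservesHomology _
    (PresheafOfModules.toPresheaf R.obj), AFMCMap.quasiIso_map_ε_iff,
    quasiIso_ε_iff_of_iso (whiskeringCompIso _ _ _)]
  exact quasiIso_ε_Lp f (freeR R ⋙ PresheafOfModules.toPresheaf R.obj) (ΦR R) (eR R)

/-- the free sheaf of modules on a sheaf of sets. -/
noncomputable abbrev LR : Sheaf J (Type u) ⥤ SheafOfModules.{u} R :=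
  sheafToPresheaf J (Type u) ⋙ freeR R ⋙ shfR R

lemma quasiIso_ε_LR :
    QuasiIso (AlternatingFaceMapComplex.ε.app
      (((Augmented.whiskering _ _).obj (freeR R ⋙ shfR R)).obj (augT f))) := by
  rw [← quasiIso_ε_iff_of_iso (whiskeringCompIso _ _ _), ← AFMCMap.quasiIso_map_ε_iff]
  have := quasiIso_ε_freeR f R
  infer_instance

lemma exactAt_PL_LR (q : ℕ) : (AbsCartan.PL (LR R) f).ExactAt (q + 1) := by
  have := quasiIso_ε_LR f R
  exact exactAt_succ' (AlternatingFaceMapComplex.ε.app
      (((Augmented.whiskering _ _).obj (freeR R ⋙ shfR R)).obj (augT f))) q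

end modules

end Groth.Agent.H31.SectExact
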