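import Groth.Agent.H31.ExtCanonSch
import Groth.Agent.H31.QuotZSS2
import Groth.Agent.H86.Serre.Basic
import Groth.Agent.H71.QCoh.LocFreeRank

/-!
# From `Ext^j(F, ω) ≃ H^{r-j}(F)^∨` to `H^i(F)^∨ ≃ H^{r-i}(ℋom(F, ω))` for `F` finite locally free
-/

set_option autoImplicit false
open CategoryTheory Limits Opposite Abelian AlgebraicGeometry
universe u

namespace Groth.Agent.H31.SerreDualLF

variable {X : Scheme.{u}}

/-- the category of modules on a scheme has `Ext` groups in the universe of the scheme -/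
lemma hasExt (X : Scheme.{u}) : HasExt.{u} X.Modules :=
  Groth.Agent.H31.QuotZSS.hasExt_mod X.sheaf

lemma isCoh_of_isFinLocFree (F : X.Modules) (hF : FlatMod.IsFinLocFree F) : Coh.IsCoh F := by
  have := Groth.Agent.H86.Serre.isQuasicoherent_of_isFinLocFree _ hF
  exact ⟨inferInstance, Groth.Agent.H71.QCoh.isFiniteType_of_isFinLocFree _ hF⟩

variable (A : Type u) [CommRing A] (X) [X.Over (Spec (CommRingCat.of A))] [HasExt.{u} X.Modules]

theorem nonempty_dual_linearEquiv (F ω : X.Modules) (hF : FlatMod.IsFinLocFree F)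
    [DCoh.HasSheafHom F] (r i : ℕ) (hi : i ≤ r)
    (h : Nonempty (Ext F ω (r - i) ≃ₗ[A] Module.Dual A (Coh.HH X F (r - (r - i))))) :
    Nonempty (Module.Dual A (Coh.HH X F i) ≃ₗ[A] Coh.HH X ((DCoh.sheafHom F).obj ω) (r - i)) := by
  obtain ⟨e1⟩ := h
  obtain ⟨e2⟩ := ExtCanonSch.nonempty_ext_linearEquiv_HH X A F ω hF (r - i)
  have h' : r - (r - i) = i := Nat.sub_sub_self hi
  rw [h'] at e1
  exact ⟨e1.symm.trans e2⟩

end Groth.Agent.H31.SerreDualLF
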