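import Groth.Agent.H31.AdjCoprod
import Groth.Agent.H31.ExtZeroProj
import Groth.Agent.H31.FreeOn
import Groth.Agent.H31.RestrExact
import Groth.Agent.H45.SheafTensor.SheafHom
import Groth.Prelude.Def_ExtSupp

/-!
# The internal hom in its first variable: left exactness, and exactness on injectives
-/

set_option autoImplicit false
set_option linter.unusedSectionVars false
open CategoryTheory Limits Opposite
universe u

namespace Groth.Agent.H31.SheafHomFirstVar

open Groth.Agent.H45 Groth.Agent.H31.ExtZero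

variable {C : Type u} [SmallCategory C] {J : GrothendieckTopology C} {O : Sheaf J CommRingCat.{u}}

section Basic

variable {M M' : ModSite.Mod O} [ModSite.HasSheafHom M] [ModSite.HasSheafHom M'] (g : M' ⟶ M)

/-- Transposing `f ≫ ℋom(g, N)` is precomposing the transpose of `f` with `T ⊗ g`. -/
lemma homEquiv_symm_comp_sheafHomMap {T N : ModSite.Mod O} (f : T ⟶ (ModSite.sheafHom M).obj N) :
    ((ModSite.sheafHomAdj M').homEquiv T N).symm (f ≫ (ExtSupp.sheafHomMap g).app N) =
      ((ModSite.tensorBi O).obj T).map g ≫ ((ModSite.sheafHomAdj M).homEquiv T N).symm f :=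
  AdjCoprod.homEquiv_symm_comp_proj (ModSite.sheafHomAdj M)
    (fun _ : Unit => ModSite.sheafHomAdj M') (fun _ => (ModSite.tensorBi O).flip.map g) () f

/-- The dual form: `homEquiv (T ⊗ g ≫ k) = homEquiv k ≫ ℋom(g, N)`. -/
lemma homEquiv_map_comp {T N : ModSite.Mod O} (k : ((ModSite.tensorBi O).flip.obj M).obj T ⟶ N) :
    ((ModSite.sheafHomAdj M').homEquiv T N) (((ModSite.tensorBi O).obj T).map g ≫ k) =
      ((ModSite.sheafHomAdj M).homEquiv T N) k ≫ (ExtSupp.sheafHomMap g).app N := by
  apply ((ModSite.sheafHomAdj M').homEquiv T N).symm.injective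
  rw [Equiv.symm_apply_apply, homEquiv_symm_comp_sheafHomMap, Equiv.symm_apply_apply]

end Basic

section LeftExact

variable (S : ShortComplex (ModSite.Mod O))
  [ModSite.HasSheafHom S.X₁] [ModSite.HasSheafHom S.X₂] [ModSite.HasSheafHom S.X₃]
  (N : ModSite.Mod O)

lemma homEquiv_symm_zero (M T N : ModSite.Mod O) [ModSite.HasSheafHom M] :
    ((ModSite.sheafHomAdj M).homEquiv T N).symm 0 = 0 := by
  rw [Adjunction.homEquiv_counit, Functor.map_zero, zero_comp]

lemma sheafHomMap_comp_zero :
    (ExtSupp.sheafHomMap S.g).app N ≫ (ExtSupp.sheafHomMap S.f).app N = 0 := by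
  apply ((ModSite.sheafHomAdj S.X₁).homEquiv _ N).symm.injective
  rw [homEquiv_symm_comp_sheafHomMap, homEquiv_symm_zero]
  have h := homEquiv_symm_comp_sheafHomMap S.g (N := N) (𝟙 ((ModSite.sheafHom S.X₃).obj N))
  rw [Category.id_comp] at h
  rw [h, ← Category.assoc, ← Functor.map_comp, S.zero, Functor.map_zero, zero_comp]

variable (hS : S.Exact) [Epi S.g]

omit [ModSite.HasSheafHom S.X₁] [ModSite.HasSheafHom S.X₂] [ModSite.HasSheafHom S.X₃] in
include hS in
lemma tensor_exact_and_epi (T : ModSite.Mod O) :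
    (S.map ((ModSite.tensorBi O).obj T)).Exact ∧ Epi (((ModSite.tensorBi O).obj T).map S.g) := by
  have key : PreservesFiniteColimits ((ModSite.tensorBi O).obj T) ↔
      ∀ S : ShortComplex (ModSite.Mod O), S.Exact ∧ Epi S.g →
        (S.map ((ModSite.tensorBi O).obj T)).Exact ∧ Epi (((ModSite.tensorBi O).obj T).map S.g) :=
    (Functor.preservesFiniteColimits_tfae ((ModSite.tensorBi O).obj T)).out 3 1
  exact key.1 (PreservesColimitsOfSize.preservesFiniteColimits _) S ⟨hS, inferInstance⟩

include hS in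
lemma exists_desc {T : ModSite.Mod O} (x : T ⟶ (ModSite.sheafHom S.X₂).obj N)
    (hx : x ≫ (ExtSupp.sheafHomMap S.f).app N = 0) :
    ∃ y : T ⟶ (ModSite.sheafHom S.X₃).obj N, y ≫ (ExtSupp.sheafHomMap S.g).app N = x := by
  obtain ⟨h1, h2⟩ := tensor_exact_and_epi S hS T
  have hk : (S.map ((ModSite.tensorBi O).obj T)).f ≫
      ((ModSite.sheafHomAdj S.X₂).homEquiv T N).symm x = 0 := by
    have := homEquiv_symm_comp_sheafHomMap S.f (N := N) x
    rw [hx, homEquiv_symm_zero] at this
    exact this.symm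
  have h2' : Epi (S.map ((ModSite.tensorBi O).obj T)).g := h2
  obtain ⟨l, hl⟩ := h1.desc' _ hk
  refine ⟨((ModSite.sheafHomAdj S.X₃).homEquiv T N) l, ?_⟩
  apply ((ModSite.sheafHomAdj S.X₂).homEquiv T N).symm.injective
  rw [homEquiv_symm_comp_sheafHomMap, Equiv.symm_apply_apply]
  exact hl

include hS in
lemma mono_sheafHomMap_g : Mono ((ExtSupp.sheafHomMap S.g).app N) := by
  constructor
  intro T y₁ y₂ h
  obtain ⟨h1, h2⟩ := tensor_exact_and_epi S hS T
  apply ((ModSite.sheafHomAdj S.X₃).homEquiv T N).symm.injective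
  rw [← cancel_epi (((ModSite.tensorBi O).obj T).map S.g), ← homEquiv_symm_comp_sheafHomMap,
    ← homEquiv_symm_comp_sheafHomMap, h]

include hS in
/-- `ℋom(X₃, N)` is the kernel of `ℋom(X₂, N) ⟶ ℋom(X₁, N)` for `X₁ ⟶ X₂ ⟶ X₃ ⟶ 0` exact. -/
noncomputable def isLimitKernelFork :
    IsLimit (KernelFork.ofι ((ExtSupp.sheafHomMap S.g).app N) (sheafHomMap_comp_zero S N)) :=
  haveI := mono_sheafHomMap_g S N hS
  KernelFork.IsLimit.ofι _ _
    (fun {T} x hx => (exists_desc S N hS x hx).choose)
    (fun {T} x hx => (exists_desc S N hS x hx).choose_spec)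
    (fun {T} x hx m hm => by
      rw [← cancel_mono ((ExtSupp.sheafHomMap S.g).app N), hm]
      exact (exists_desc S N hS x hx).choose_spec.symm)

include hS in
lemma exact_sheafHomMap :
    (ShortComplex.mk ((ExtSupp.sheafHomMap S.g).app N) ((ExtSupp.sheafHomMap S.f).app N)
      (sheafHomMap_comp_zero S N)).Exact :=
  ShortComplex.exact_of_f_is_kernel _ (isLimitKernelFork S N hS)

end LeftExact

section Injective

variable {M M' : ModSite.Mod O} [ModSite.HasSheafHom M] [ModSite.HasSheafHom M'] (a : M' ⟶ M)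
  [Mono a] (Q : ModSite.Mod O) [Injective Q]

/-- every morphism from a flat module to `ℋom(M', Q)` lifts to `ℋom(M, Q)`, for `M' ↪ M` and
`Q` injective. -/
lemma exists_lift_of_isFlat {T : ModSite.Mod O} (hT : ModSite.IsFlat T)
    (x : T ⟶ (ModSite.sheafHom M').obj Q) :
    ∃ y : T ⟶ (ModSite.sheafHom M).obj Q, y ≫ (ExtSupp.sheafHomMap a).app Q = x := by
  have h1 : PreservesFiniteLimits ((ModSite.tensorBi O).obj T) :=
    IsFlat.preservesFiniteLimits_tensorBi_obj hT
  have h2 : Mono (((ModSite.tensorBi O).obj T).map a) := inferInstance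
  refine ⟨((ModSite.sheafHomAdj M).homEquiv T Q)
    (Injective.factorThru (((ModSite.sheafHomAdj M').homEquiv T Q).symm x)
      (((ModSite.tensorBi O).obj T).map a)), ?_⟩
  apply ((ModSite.sheafHomAdj M').homEquiv T Q).symm.injective
  rw [homEquiv_symm_comp_sheafHomMap, Equiv.symm_apply_apply, Injective.comp_factorThru]

/-- `ℋom(M, Q) ⟶ ℋom(M', Q)` is surjective on sections over every object. -/
theorem surjective_sheafHomMap_app (W : C) :
    Function.Surjective (((ExtSupp.sheafHomMap a).app Q).val.app (op W)) := by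
  intro s
  obtain ⟨y, hy⟩ := exists_lift_of_isFlat a Q (isFlat_freeOn O W)
    ((freeOnHomEquiv O W _).symm s)
  refine ⟨freeOnHomEquiv O W _ y, ?_⟩
  have := freeOnHomEquiv_naturality O W y ((ExtSupp.sheafHomMap a).app Q)
  rw [hy, Equiv.apply_symm_apply] at this
  exact this.symm

end Injective

end Groth.Agent.H31.SheafHomFirstVar
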