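import Groth.Agent.H31.SheafHomFree
import Groth.Agent.H31.ExtShRestr
import Groth.Agent.H31.ExtExcision

/-!
# The internal hom out of a locally finite free module is exact
-/

set_option autoImplicit false
open CategoryTheory Limits Opposite
universe u

namespace Groth.Agent.H31.SheafHomLocFree

open Groth.Agent.H45 Groth.Agent.H31.ExtZero Groth.Agent.H31.RestrExact

variable {C : Type u} [SmallCategory C] {J : GrothendieckTopology C} (O : Sheaf J CommRingCat.{u})

/-- A module which is null on every member of a family covering the final object is zero. -/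
theorem isZero_of_coversTop {ι : Type*} (U : ι → C) (hU : J.CoversTop U) (F : ModSite.Mod O)
    (h : ∀ i, ModSite.IsNullOn O (U i) F) : IsZero F := by
  rw [IsZero.iff_id_eq_zero]
  apply SheafOfModules.hom_ext
  apply PresheafOfModules.hom_ext
  intro W
  apply ModuleCat.hom_ext
  apply LinearMap.ext
  intro (x : F.val.obj (op W.unop))
  show x = 0
  refine sect_ext_of_sieve O F _ (hU W.unop) _ 0 (fun W' g hg => ?_)
  obtain ⟨i, ⟨f⟩⟩ := hg
  exact ((ExtSupp.isNullOn_iff O (U i) F).1 (h i) f _).trans
    ((ExtSupp.isNullOn_iff O (U i) F).1 (h i) f _).symm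

/-- Being an epimorphism is local. -/
theorem epi_of_epi_restr {ι : Type*} (U : ι → C) (hU : J.CoversTop U) {A B : ModSite.Mod O}
    (p : A ⟶ B) (h : ∀ i, Epi ((ModSite.restr O (U i)).map p)) : Epi p := by
  apply Preadditive.epi_of_isZero_cokernel
  apply isZero_of_coversTop O U hU
  intro i
  have h1 : Epi ((ModSite.restr O (U i)).map (cokernel.π p)) := epi_restr_map O (U i) _
  have h2 : (ModSite.restr O (U i)).map (cokernel.π p) = 0 := by
    have := h i
    rw [← cancel_epi ((ModSite.restr O (U i)).map p), ← Functor.map_comp, cokernel.condition,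
      Functor.map_zero, comp_zero]
  exact IsZero.of_epi_eq_zero _ h2

/-- If `M` is locally free of finite rank (on a family covering the final object), then
`ℋom(M, -)` preserves epimorphisms. -/
theorem preservesEpimorphisms_sheafHom {ι : Type*} (U : ι → C) (hU : J.CoversTop U)
    (M : ModSite.Mod O) [ModSite.HasSheafHom M]
    (hM : ∀ i, ∃ (n : ℕ) (g : Fin n → (ModSite.unit (O.over (U i)) ⟶ (ModSite.restr O (U i)).obj M)),
      Nonempty (IsColimit (Cofan.mk _ g))) :
    (ModSite.sheafHom M).PreservesEpimorphisms := by
  constructor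
  intro N N' g hg
  apply epi_of_epi_restr O U hU
  intro i
  obtain ⟨n, gg, ⟨hc⟩⟩ := hM i
  have : ModSite.HasSheafHom ((ModSite.restr O (U i)).obj M) := hasSheafHom _ _
  have hp := SheafHomFree.preservesEpimorphisms_sheafHom (O.over (U i)) _ gg hc
  have h1 : Epi ((ModSite.restr O (U i)).map g) := epi_restr_map O (U i) g
  let e := ExtShRestr.sheafHomRestrIso O (U i) M
  have h2 : (ModSite.restr O (U i)).map ((ModSite.sheafHom M).map g) =
      e.hom.app N ≫ (ModSite.sheafHom ((ModSite.restr O (U i)).obj M)).map
        ((ModSite.restr O (U i)).map g) ≫ e.inv.app N' := by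
    have := e.hom.naturality g
    dsimp only [Functor.comp_map] at this
    rw [← Category.assoc, ← this, Category.assoc, Iso.hom_inv_id_app, Category.comp_id]
  rw [h2]
  have h3 : Epi ((ModSite.sheafHom ((ModSite.restr O (U i)).obj M)).map
      ((ModSite.restr O (U i)).map g)) := hp.preserves _
  have h4 : Epi (e.inv.app N') := by
    have : IsIso (e.inv.app N') := ⟨e.hom.app N', by simp, by simp⟩
    infer_instance
  have h5 : Epi (e.hom.app N) := by
    have : IsIso (e.hom.app N) := ⟨e.inv.app N, by simp, by simp⟩
    infer_instance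
  have h6 := epi_comp ((ModSite.sheafHom ((ModSite.restr O (U i)).obj M)).map
      ((ModSite.restr O (U i)).map g)) (e.inv.app N')
  exact epi_comp _ _

/-- If `M` is locally free of finite rank, then `ℋom(M, -)` is right exact. -/
theorem preservesFiniteColimits_sheafHom {ι : Type*} (U : ι → C) (hU : J.CoversTop U)
    (M : ModSite.Mod O) [ModSite.HasSheafHom M]
    (hM : ∀ i, ∃ (n : ℕ) (g : Fin n → (ModSite.unit (O.over (U i)) ⟶ (ModSite.restr O (U i)).obj M)),
      Nonempty (IsColimit (Cofan.mk _ g))) :
    PreservesFiniteColimits (ModSite.sheafHom M) := by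
  have hp := preservesEpimorphisms_sheafHom O U hU M hM
  have hadd : (ModSite.sheafHom M).Additive := (ModSite.sheafHomAdj M).right_adjoint_additive
  have hl : PreservesFiniteLimits (ModSite.sheafHom M) := by
    have : PreservesLimitsOfSize.{0, 0} (ModSite.sheafHom M) :=
      (ModSite.sheafHomAdj M).rightAdjoint_preservesLimits
    exact PreservesLimitsOfSize.preservesFiniteLimits _
  rw [Functor.preservesFiniteColimits_iff_forall_exact_map_and_epi]
  intro S hS
  have := hS.epi_g
  exact ⟨((Functor.preservesFiniteLimits_iff_forall_exact_map_and_mono _).1 hl S hS).1,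
    hp.preserves S.g⟩

end Groth.Agent.H31.SheafHomLocFree
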