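import Mathlib

set_option autoImplicit false
open CategoryTheory CategoryTheory.Limits Opposite
universe u

namespace Groth.Agent.H31

section
variable {C : Type u} [SmallCategory C] (J : GrothendieckTopology C)

/-- Morphisms from the sheafified representable are sections. -/
noncomputable def sheafifyYonedaEquiv (X : C) (G : Sheaf J (Type u)) :
    ((presheafToSheaf J (Type u)).obj (yoneda.obj X) ⟶ G) ≃ G.obj.obj (op X) :=
  ((sheafificationAdjunction J (Type u)).homEquiv _ _).trans yonedaEquiv

theorem sheafifyYonedaEquiv_naturality {X Y : C} (f : Y ⟶ X) (G : Sheaf J (Type u))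
    (m : (presheafToSheaf J (Type u)).obj (yoneda.obj X) ⟶ G) :
    sheafifyYonedaEquiv J Y G ((presheafToSheaf J (Type u)).map (yoneda.map f) ≫ m) =
      G.obj.map f.op (sheafifyYonedaEquiv J X G m) := by
  unfold sheafifyYonedaEquiv
  simp only [Equiv.trans_apply]
  rw [Adjunction.homEquiv_naturality_left]
  exact (yonedaEquiv_naturality _ f).symm

/-- Criterion for the sheafified cofan to be a coproduct. -/
theorem isColimit_sheafify_cofan_of_sections {X : C} {ι : Type u} (Y : ι → C) (s : ∀ i, Y i ⟶ X)
    (key : ∀ (G : Sheaf J (Type u)) (x : ∀ i, G.obj.obj (op (Y i))),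
      ∃! t : G.obj.obj (op X), ∀ i, G.obj.map (s i).op t = x i) :
    Nonempty (IsColimit (Cofan.mk ((presheafToSheaf J (Type u)).obj (yoneda.obj X))
      (fun i => (presheafToSheaf J (Type u)).map (yoneda.map (s i))))) := by
  refine ⟨Cofan.IsColimit.mk _
    (fun t => (sheafifyYonedaEquiv J X t.pt).symm
      (key t.pt (fun i => sheafifyYonedaEquiv J (Y i) t.pt (t.inj i))).choose) ?_ ?_⟩
  · intro t i
    apply (sheafifyYonedaEquiv J (Y i) t.pt).injective
    show sheafifyYonedaEquiv J (Y i) t.pt
      ((presheafToSheaf J (Type u)).map (yoneda.map (s i)) ≫ _) = _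
    rw [sheafifyYonedaEquiv_naturality, Equiv.apply_symm_apply]
    exact (key t.pt (fun i => sheafifyYonedaEquiv J (Y i) t.pt (t.inj i))).choose_spec.1 i
  · intro t m hm
    rw [Equiv.eq_symm_apply]
    apply (key t.pt (fun i => sheafifyYonedaEquiv J (Y i) t.pt (t.inj i))).choose_spec.2
    intro i
    rw [← sheafifyYonedaEquiv_naturality]
    congr 1
    exact hm i
end


end Groth.Agent.H31
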