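import Mathlib
import Groth.Prelude.Def_CohCx
import Groth.Agent.H31.DimShift

namespace Groth.Agent.H31.SieveExt

open CategoryTheory Abelian Limits Opposite

universe u

variable {C : Type u} [SmallCategory C] (J : GrothendieckTopology C)

/-- The free abelian sheaf on a presheaf of sets. -/
noncomputable abbrev Zs (T : Cᵒᵖ ⥤ Type u) : Sheaf J AddCommGrpCat.{u} :=
  (presheafToSheaf J AddCommGrpCat.{u}).obj (T ⋙ AddCommGrpCat.free.{u})

/-- `Hom(ℤ[T]^#, G) ≃ Hom(T, G)`. -/
noncomputable def homEquiv (T : Cᵒᵖ ⥤ Type u) (G : Sheaf J AddCommGrpCat.{u}) :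
    (Zs J T ⟶ G) ≃ (T ⟶ G.obj ⋙ forget AddCommGrpCat.{u}) :=
  ((sheafificationAdjunction J AddCommGrpCat.{u}).homEquiv _ _).trans
    ((Adjunction.whiskerRight Cᵒᵖ AddCommGrpCat.adj.{u}).homEquiv T G.obj)

lemma homEquiv_naturality (T : Cᵒᵖ ⥤ Type u) {G G' : Sheaf J AddCommGrpCat.{u}}
    (φ : Zs J T ⟶ G) (g : G ⟶ G') :
    homEquiv J T G' (φ ≫ g) = homEquiv J T G φ ≫ Functor.whiskerRight g.hom (forget _) := by
  simp only [homEquiv, Equiv.trans_apply, Adjunction.homEquiv_naturality_right]
  rfl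

/-- The unit `T ⟶ ℤ[T]^#`. -/
noncomputable def unitT (T : Cᵒᵖ ⥤ Type u) : T ⟶ (Zs J T).obj ⋙ forget AddCommGrpCat.{u} :=
  homEquiv J T _ (𝟙 _)

lemma homEquiv_eq (T : Cᵒᵖ ⥤ Type u) {G : Sheaf J AddCommGrpCat.{u}} (φ : Zs J T ⟶ G) :
    homEquiv J T G φ = unitT J T ≫ Functor.whiskerRight φ.hom (forget _) := by
  rw [unitT, ← homEquiv_naturality, Category.id_comp]

lemma homEquiv_app (T : Cᵒᵖ ⥤ Type u) {G : Sheaf J AddCommGrpCat.{u}} (φ : Zs J T ⟶ G)
    (Y : Cᵒᵖ) (x : T.obj Y) :
    (homEquiv J T G φ).app Y x = φ.hom.app Y ((unitT J T).app Y x) := by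
  rw [homEquiv_eq]
  rfl

lemma Zs_hom_ext {T : Cᵒᵖ ⥤ Type u} {G : Sheaf J AddCommGrpCat.{u}} (φ ψ : Zs J T ⟶ G)
    (h : ∀ (Y : Cᵒᵖ) (x : T.obj Y), φ.hom.app Y ((unitT J T).app Y x) =
      ψ.hom.app Y ((unitT J T).app Y x)) : φ = ψ := by
  apply (homEquiv J T G).injective
  ext Y x
  exact ((homEquiv_app J T φ Y x).trans (h Y x)).trans (homEquiv_app J T ψ Y x).symm

/-- sheaf condition in Yoneda form. -/
lemma yonedaCond (G : Sheaf J AddCommGrpCat.{u}) {X : C} (R : Sieve X) (hR : R ∈ J X)
    (f : R.functor ⟶ G.obj ⋙ forget AddCommGrpCat.{u}) :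
    ∃! g : yoneda.obj X ⟶ G.obj ⋙ forget AddCommGrpCat.{u}, R.functorInclusion ≫ g = f :=
  Presieve.isSheafFor_iff_yonedaSheafCondition.1
    ((isSheaf_iff_isSheaf_of_type _ _).1
      ((Presheaf.isSheaf_iff_isSheaf_forget J G.obj (forget _)).1 G.property) R hR) f

/-- Underlying presheaf, as a sheaf for the trivial topology. -/
noncomputable abbrev iota : Sheaf J AddCommGrpCat.{u} ⥤ Sheaf (⊥ : GrothendieckTopology C) AddCommGrpCat.{u} :=
  sheafToPresheaf J AddCommGrpCat.{u} ⋙ (sheafBotEquivalence AddCommGrpCat.{u}).inverse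


/-- left adjoint of `iota`. -/
noncomputable abbrev aL : Sheaf (⊥ : GrothendieckTopology C) AddCommGrpCat.{u} ⥤ Sheaf J AddCommGrpCat.{u} :=
  (sheafBotEquivalence AddCommGrpCat.{u}).functor ⋙ presheafToSheaf J AddCommGrpCat.{u}

noncomputable def adjL : aL J ⊣ iota J :=
  (sheafBotEquivalence AddCommGrpCat.{u}).toAdjunction.comp (sheafificationAdjunction J AddCommGrpCat.{u})

instance : (aL J).PreservesMonomorphisms := inferInstance

instance : (iota J).Additive where
  map_add := rfl

instance : PreservesFiniteLimits (iota J) := inferInstance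

lemma injective_iota (I : Sheaf J AddCommGrpCat.{u}) [Injective I] : Injective ((iota J).obj I) :=
  (adjL J).map_injective I inferInstance

instance : EnoughInjectives (Sheaf J AddCommGrpCat.{u}) := inferInstance

/-- sectionwise surjectivity. -/
def SectSurj {G G' : Sheaf J AddCommGrpCat.{u}} (g : G ⟶ G') : Prop :=
  ∀ X : C, Function.Surjective (g.hom.app (op X))

variable {J}

lemma SectSurj.yoneda_lift {G G' : Sheaf J AddCommGrpCat.{u}} {g : G ⟶ G'} (h : SectSurj J g)
    {X : C} (t : yoneda.obj X ⟶ G'.obj ⋙ forget AddCommGrpCat.{u}) :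
    ∃ t' : yoneda.obj X ⟶ G.obj ⋙ forget AddCommGrpCat.{u},
      t' ≫ Functor.whiskerRight g.hom (forget _) = t := by
  obtain ⟨s', hs'⟩ := h X (yonedaEquiv t)
  refine ⟨yonedaEquiv.symm s', yonedaEquiv.injective ?_⟩
  rw [yonedaEquiv_comp, Equiv.apply_symm_apply]
  exact hs'

lemma sectSurj_of_yoneda_lift {G G' : Sheaf J AddCommGrpCat.{u}} {g : G ⟶ G'}
    (h : ∀ (X : C) (t : yoneda.obj X ⟶ G'.obj ⋙ forget AddCommGrpCat.{u}),
      ∃ t' : yoneda.obj X ⟶ G.obj ⋙ forget AddCommGrpCat.{u},
        t' ≫ Functor.whiskerRight g.hom (forget _) = t) : SectSurj J g := by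
  intro X s
  obtain ⟨t', ht'⟩ := h X (yonedaEquiv.symm s)
  refine ⟨yonedaEquiv t', ?_⟩
  have := congrArg yonedaEquiv ht'
  rw [yonedaEquiv_comp, Equiv.apply_symm_apply] at this
  exact this

variable (J)

/-- the representable free sheaf -/
noncomputable abbrev ZX (X : C) : Sheaf J AddCommGrpCat.{u} := Zs J (yoneda.obj X)

variable {J}

lemma sectSurj_of_ext_one {S : ShortComplex (Sheaf J AddCommGrpCat.{u})} (hS : S.ShortExact)
    (h : ∀ X : C, Subsingleton (Ext (ZX J X) S.X₁ 1)) : SectSurj J S.g := by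
  apply sectSurj_of_yoneda_lift
  intro X t
  have := h X
  obtain ⟨ψ, hψ⟩ := DimShift.exists_lift_of_subsingleton_ext_one hS (ZX J X)
    ((homEquiv J _ S.X₃).symm t)
  refine ⟨homEquiv J _ _ ψ, ?_⟩
  rw [← homEquiv_naturality, hψ, Equiv.apply_symm_apply]

lemma ext_one_of_sectSurj {S : ShortComplex (Sheaf J AddCommGrpCat.{u})} (hS : S.ShortExact)
    [Injective S.X₂] (h : SectSurj J S.g) (X : C) : Subsingleton (Ext (ZX J X) S.X₁ 1) := by
  refine DimShift.subsingleton_ext_one_of_exists_lift hS _ (fun φ => ?_)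
  obtain ⟨t', ht'⟩ := h.yoneda_lift (homEquiv J _ _ φ)
  refine ⟨(homEquiv J _ _).symm t', (homEquiv J _ _).injective ?_⟩
  rw [homEquiv_naturality, Equiv.apply_symm_apply, ht']


variable (J)

/-- The sieve free presheaf, as a sheaf for the trivial topology. -/
noncomputable abbrev ZR {X : C} (R : Sieve X) : Sheaf (⊥ : GrothendieckTopology C) AddCommGrpCat.{u} :=
  Zs ⊥ R.functor

/-- restriction to a covering sieve is bijective on sheaves. -/
noncomputable def restrEquiv (G : Sheaf J AddCommGrpCat.{u}) {X : C} (R : Sieve X) (hR : R ∈ J X) :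
    (yoneda.obj X ⟶ G.obj ⋙ forget AddCommGrpCat.{u}) ≃
      (R.functor ⟶ G.obj ⋙ forget AddCommGrpCat.{u}) :=
  Equiv.ofBijective (fun g => R.functorInclusion ≫ g)
    ⟨fun g g' h => (yonedaCond J G R hR (R.functorInclusion ≫ g)).unique rfl h.symm,
     fun f => (yonedaCond J G R hR f).exists⟩

/-- maps from `ℤ[R]` to the presheaf of a sheaf are sections over `X`. -/
noncomputable def sieveEquiv (G : Sheaf J AddCommGrpCat.{u}) {X : C} (R : Sieve X) (hR : R ∈ J X) :
    (ZR R ⟶ (iota J).obj G) ≃ (yoneda.obj X ⟶ G.obj ⋙ forget AddCommGrpCat.{u}) :=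
  (homEquiv ⊥ R.functor ((iota J).obj G)).trans (restrEquiv J G R hR).symm

lemma sieveEquiv_naturality {G G' : Sheaf J AddCommGrpCat.{u}} (g : G ⟶ G') {X : C} (R : Sieve X)
    (hR : R ∈ J X) (φ : ZR R ⟶ (iota J).obj G) :
    sieveEquiv J G' R hR (φ ≫ (iota J).map g) =
      sieveEquiv J G R hR φ ≫ Functor.whiskerRight g.hom (forget _) := by
  apply (restrEquiv J G' R hR).injective
  refine ((restrEquiv J G' R hR).apply_symm_apply _).trans ?_
  refine (homEquiv_naturality ⊥ R.functor φ ((iota J).map g)).trans ?_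
  change _ = R.functorInclusion ≫ _ ≫ _
  rw [← Category.assoc]
  congr 1
  exact ((restrEquiv J G R hR).apply_symm_apply _).symm

variable {J}

lemma sieve_ext_one_of_sectSurj {S : ShortComplex (Sheaf J AddCommGrpCat.{u})}
    [Injective S.X₂] (hιS : (S.map (iota J)).ShortExact) (h : SectSurj J S.g)
    {X : C} (R : Sieve X) (hR : R ∈ J X) :
    Subsingleton (Ext (ZR R) ((iota J).obj S.X₁) 1) := by
  have : Injective (S.map (iota J)).X₂ := injective_iota J S.X₂
  refine DimShift.subsingleton_ext_one_of_exists_lift hιS _ (fun φ => ?_)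
  obtain ⟨t', ht'⟩ := h.yoneda_lift (sieveEquiv J _ R hR φ)
  refine ⟨(sieveEquiv J _ R hR).symm t', (sieveEquiv J _ R hR).injective ?_⟩
  erw [sieveEquiv_naturality]
  rw [Equiv.apply_symm_apply, ht']

lemma epi_iota_map_of_sectSurj {G G' : Sheaf J AddCommGrpCat.{u}} {g : G ⟶ G'}
    (h : SectSurj J g) : Epi ((iota J).map g) := by
  have : Presheaf.IsLocallySurjective ⊥ ((iota J).map g).hom :=
    Presheaf.isLocallySurjective_of_surjective _ _ (fun U => h U.unop)
  exact (Sheaf.isLocallySurjective_iff_epi' _ ((iota J).map g)).1 this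

lemma shortExact_iota {S : ShortComplex (Sheaf J AddCommGrpCat.{u})} (hS : S.ShortExact)
    (h : SectSurj J S.g) : (S.map (iota J)).ShortExact := by
  have := hS.mono_f
  exact
    { exact := hS.exact.map_of_mono_of_preservesKernel (iota J) inferInstance inferInstance
      mono_f := (inferInstance : Mono ((iota J).map S.f))
      epi_g := epi_iota_map_of_sectSurj h }

lemma sectSurj_of_sieve_ext_one {S : ShortComplex (Sheaf J AddCommGrpCat.{u})} (hS : S.ShortExact)
    (h : ∀ (X : C) (R : Sieve X), R ∈ J X →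
      Subsingleton (Ext (ZR R) ((iota J).obj S.X₁) 1)) : SectSurj J S.g := by
  intro X s
  have hepi : Epi S.g := hS.epi_g
  have hmono : Mono S.f := hS.mono_f
  have hls : Presheaf.IsLocallySurjective J S.g.hom :=
    (Sheaf.isLocallySurjective_iff_epi' _ S.g).2 hepi
  let R : Sieve X := Presheaf.imageSieve S.g.hom s
  have hR : R ∈ J X := Presheaf.imageSieve_mem J S.g.hom (U := op X) s
  let t : yoneda.obj X ⟶ S.X₃.obj ⋙ forget AddCommGrpCat.{u} := yonedaEquiv.symm s
  let gι := (iota J).map S.g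
  let t₀ : ZR R ⟶ (iota J).obj S.X₃ := (homEquiv ⊥ R.functor _).symm (R.functorInclusion ≫ t)
  have ht₀ : t₀ ≫ cokernel.π gι = 0 := by
    apply Zs_hom_ext
    intro Y x
    have h1 : t₀.hom.app Y ((unitT ⊥ R.functor).app Y x) = (R.functorInclusion ≫ t).app Y x := by
      rw [← homEquiv_app]
      exact congrFun (congrArg (fun (a : R.functor ⟶ _) => (a.app Y : _ → _))
        ((homEquiv ⊥ R.functor _).apply_symm_apply _)) x
    obtain ⟨i, hi⟩ := x.2
    have h2 : (R.functorInclusion ≫ t).app Y x = S.g.hom.app _ i := by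
      rw [hi]
      rfl
    have h3 : (gι ≫ cokernel.π gι).hom.app Y i = 0 := by
      rw [cokernel.condition]
      rfl
    show (cokernel.π gι).hom.app Y (t₀.hom.app Y _) = 0
    rw [h1, h2]
    exact h3
  let t₁ : ZR R ⟶ Abelian.image gι := kernel.lift _ t₀ ht₀
  have ht₁ : t₁ ≫ Abelian.image.ι gι = t₀ := kernel.lift_ι _ _ _
  -- the short exact sequence in presheaves
  have hzero : (iota J).map S.f ≫ Abelian.factorThruImage gι = 0 := by
    rw [← cancel_mono (Abelian.image.ι gι), Category.assoc, Abelian.image.fac, zero_comp,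
      ← Functor.map_comp, S.zero, Functor.map_zero]
  let S' : ShortComplex (Sheaf (⊥ : GrothendieckTopology C) AddCommGrpCat.{u}) :=
    ShortComplex.mk ((iota J).map S.f) (Abelian.factorThruImage gι) hzero
  let φ' : S' ⟶ S.map (iota J) :=
    { τ₁ := 𝟙 _
      τ₂ := 𝟙 _
      τ₃ := Abelian.image.ι gι
      comm₁₂ := (Category.id_comp _).trans (Category.comp_id _).symm
      comm₂₃ := (Category.id_comp _).trans (Abelian.image.fac gι).symm }
  have hS' : S'.ShortExact :=
    { exact := by
        have : Epi φ'.τ₁ := (inferInstance : Epi (𝟙 ((iota J).obj S.X₁)))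
        have : IsIso φ'.τ₂ := (inferInstance : IsIso (𝟙 ((iota J).obj S.X₂)))
        have : Mono φ'.τ₃ := (inferInstance : Mono (Abelian.image.ι gι))
        exact (ShortComplex.exact_iff_of_epi_of_isIso_of_mono φ').2
          (hS.exact.map_of_mono_of_preservesKernel (iota J) inferInstance inferInstance)
      mono_f := (inferInstance : Mono ((iota J).map S.f))
      epi_g := (inferInstance : Epi (Abelian.factorThruImage gι)) }
  have := h X R hR
  obtain ⟨tt, htt⟩ := DimShift.exists_lift_of_subsingleton_ext_one hS' (ZR R) t₁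
  have h2 : tt ≫ gι = t₀ := by
    rw [← ht₁, ← htt, Category.assoc]
    congr 1
    exact (Abelian.image.fac gι).symm
  obtain ⟨t', ht', -⟩ := yonedaCond J S.X₂ R hR (homEquiv ⊥ R.functor _ tt)
  have key : t' ≫ Functor.whiskerRight S.g.hom (forget _) = t := by
    apply (restrEquiv J S.X₃ R hR).injective
    change R.functorInclusion ≫ t' ≫ _ = R.functorInclusion ≫ t
    rw [← Category.assoc, ht']
    refine (homEquiv_naturality ⊥ R.functor tt gι).symm.trans ?_
    rw [h2]
    exact (homEquiv ⊥ R.functor _).apply_symm_apply _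
  refine ⟨yonedaEquiv t', ?_⟩
  have := congrArg yonedaEquiv key
  rw [yonedaEquiv_comp, Equiv.apply_symm_apply] at this
  exact this

variable (J)

/-- the canonical embedding into an injective, as a short exact sequence. -/
noncomputable def ses (F : Sheaf J AddCommGrpCat.{u}) : ShortComplex (Sheaf J AddCommGrpCat.{u}) :=
  ShortComplex.mk (Injective.ι F) (cokernel.π (Injective.ι F)) (cokernel.condition _)

lemma ses_shortExact (F : Sheaf J AddCommGrpCat.{u}) : (ses J F).ShortExact :=
  { exact := ShortComplex.exact_cokernel _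
    mono_f := (inferInstance : Mono (Injective.ι F))
    epi_g := (inferInstance : Epi (cokernel.π (Injective.ι F))) }

instance (F : Sheaf J AddCommGrpCat.{u}) : Injective (ses J F).X₂ :=
  (inferInstance : Injective (Injective.under F))

variable {J}

theorem sieve_ext_of_acyclic (q : ℕ) : ∀ (F : Sheaf J AddCommGrpCat.{u}),
    (∀ (X : C) (q' : ℕ), Subsingleton (Ext (ZX J X) F (q' + 1))) →
    ∀ (X : C) (R : Sieve X), R ∈ J X → Subsingleton (Ext (ZR R) ((iota J).obj F) (q + 1)) := by
  induction q with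
  | zero =>
    intro F h X R hR
    have hS := ses_shortExact J F
    have hss : SectSurj J (ses J F).g := sectSurj_of_ext_one hS (fun X => h X 0)
    exact sieve_ext_one_of_sectSurj (shortExact_iota hS hss) hss R hR
  | succ q ih =>
    intro F h X R hR
    have hS := ses_shortExact J F
    have hss : SectSurj J (ses J F).g := sectSurj_of_ext_one hS (fun X => h X 0)
    have hιS := shortExact_iota hS hss
    have : Injective ((ses J F).map (iota J)).X₂ := injective_iota J (ses J F).X₂
    have hQ : ∀ (X : C) (q' : ℕ), Subsingleton (Ext (ZX J X) (ses J F).X₃ (q' + 1)) :=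
      fun X q' => (DimShift.subsingleton_ext_succ_iff hS _ q').1 (h X (q' + 1))
    exact (DimShift.subsingleton_ext_succ_iff hιS _ q).2 (ih _ hQ X R hR)

theorem acyclic_of_sieve_ext (q : ℕ) : ∀ (F : Sheaf J AddCommGrpCat.{u}),
    (∀ (X : C) (R : Sieve X), R ∈ J X → ∀ q' : ℕ,
      Subsingleton (Ext (ZR R) ((iota J).obj F) (q' + 1))) →
    ∀ (X : C), Subsingleton (Ext (ZX J X) F (q + 1)) := by
  induction q with
  | zero =>
    intro F h X
    have hS := ses_shortExact J F
    have hss : SectSurj J (ses J F).g :=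
      sectSurj_of_sieve_ext_one hS (fun X R hR => h X R hR 0)
    exact ext_one_of_sectSurj hS hss X
  | succ q ih =>
    intro F h X
    have hS := ses_shortExact J F
    have hss : SectSurj J (ses J F).g :=
      sectSurj_of_sieve_ext_one hS (fun X R hR => h X R hR 0)
    have hιS := shortExact_iota hS hss
    have : Injective ((ses J F).map (iota J)).X₂ := injective_iota J (ses J F).X₂
    have hQ : ∀ (X : C) (R : Sieve X), R ∈ J X → ∀ q' : ℕ,
        Subsingleton (Ext (ZR R) ((iota J).obj (ses J F).X₃) (q' + 1)) :=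
      fun X R hR q' => (DimShift.subsingleton_ext_succ_iff hιS _ q').1 (h X R hR (q' + 1))
    exact (DimShift.subsingleton_ext_succ_iff hS _ q).2 (ih _ hQ X)

end Groth.Agent.H31.SieveExt
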