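import Groth.Agent.H31.ExtCanonSch
import Groth.Agent.H47.TildeExact
import Groth.Prelude.Def_KLin

set_option autoImplicit false
set_option linter.unusedSectionVars false
open CategoryTheory Limits Opposite AlgebraicGeometry
universe u

namespace Groth.Agent.H31.TildeHom

variable (R : CommRingCat.{u})

/-- `Spec R` over itself -/
noncomputable local instance ovr : (Spec R).Over (Spec (CommRingCat.of R)) := ⟨𝟙 (Spec R)⟩

/-- global sections, as an `A`-module -/
noncomputable abbrev Γf : (Spec R).Modules ⥤ ModuleCat.{u} R :=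
  moduleSpecΓFunctor (R := R)

/-- the associated sheaf functor -/
noncomputable abbrev til : ModuleCat.{u} R ⥤ (Spec R).Modules :=
  tilde.functor R

instance (N : ModuleCat.{u} R) : ((til R).obj N).IsQuasicoherent :=
  inferInstanceAs ((tilde.functor R).obj N).IsQuasicoherent

noncomputable example : Linear R (Spec R).Modules := inferInstance

lemma Γf_map_smul (E : (Spec R).Modules) (a : R) :
    (Γf R).map (a • 𝟙 E) = a • 𝟙 ((Γf R).obj E) := by
  ext s
  change ((a • 𝟙 E).app ⊤) s = a • s
  rw [KLin.smul_app_apply]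
  rw [Scheme.Modules.Hom.id_app]
  refine Eq.trans ?_ (Scheme.Modules.smul_Spec_def (M := E) (U := ⊤) a s).symm
  have h : Coh.toGlobal (Spec R ↘ Spec (CommRingCat.of R)) a =
      (Scheme.ΓSpecIso R).inv a := by
    change ((Spec R ↘ Spec (CommRingCat.of R)).appTop).hom
      ((Scheme.ΓSpecIso R).inv.hom a) = _
    have h0 : (Spec R ↘ Spec (CommRingCat.of R)) = 𝟙 _ := rfl
    rw [h0, Scheme.Hom.id_appTop]
    rfl
  rw [h]
  rfl


open Groth.Agent.H31.ExtCanonSite Groth.Agent.H31.ExtCanonSch DerComp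

lemma smul_id_eq (G : (Spec R).Modules) (a : R) :
    a • 𝟙 G = smulEnd (gs (Coh.toGlobal (Spec R ↘ Spec (CommRingCat.of R)) a)) G := by
  rw [KLin.smul_id]
  exact smulModΓ_eq G _

/-- the internal hom, as a module on the scheme -/
noncomputable abbrev ihom (F G : (Spec R).Modules)
    [ModSite.HasSheafHom (O := (Spec R).sheaf) F] :
    (Spec R).Modules :=
  (ModSite.sheafHom (O := (Spec R).sheaf) F).obj G

lemma sheafHom_map_smul (F G : (Spec R).Modules)
    [ModSite.HasSheafHom (O := (Spec R).sheaf) F] (a : R) :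
    (ModSite.sheafHom (O := (Spec R).sheaf) F).map (a • 𝟙 G) =
      a • 𝟙 (ihom R F G) := by
  rw [smul_id_eq, smul_id_eq]
  exact sheafHom_map_smulEnd _ F G

section Generic

variable {R : Type*} [CommRing R] {C D : Type*} [Category C] [Category D] [Preadditive C]
  [Preadditive D] [Linear R C] [Linear R D] {L : C ⥤ D} {Rt : D ⥤ C} (adj : L ⊣ Rt)

/-- the hom-set bijection of an adjunction is linear as soon as the right adjoint is -/
noncomputable def homLinearEquiv [L.Additive] (hR : ∀ (Y : D) (a : R), Rt.map (a • 𝟙 Y) = a • 𝟙 _)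
    (X : C) (Y : D) : (L.obj X ⟶ Y) ≃ₗ[R] (X ⟶ Rt.obj Y) :=
  { adj.homAddEquiv X Y with
    map_smul' := fun a f => by
      change adj.homEquiv X Y (a • f) = a • adj.homEquiv X Y f
      have h : a • f = f ≫ (a • 𝟙 Y) := by rw [Linear.comp_smul, Category.comp_id]
      rw [h, Adjunction.homEquiv_naturality_right, hR, Linear.comp_smul, Category.comp_id] }

end Generic


/-- the `A`-linear structure, on the category of modules of the ringed site -/
noncomputable instance linMod : Linear R (ModSite.Mod (Spec R).sheaf) :=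
  KLin.linearOver R (Spec R)

open Groth.Agent.H31.ExtInvertible in
/-- `Hom(F, G) ≃ₗ Hom(O, ℋom(F, G))` -/
noncomputable def evEquiv (F G : (Spec R).Modules)
    [ModSite.HasSheafHom (O := (Spec R).sheaf) F] :
    (F ⟶ G) ≃ₗ[R] (ModSite.unit (Spec R).sheaf ⟶ ihom R F G) :=
  haveI : (T (Spec R).sheaf F).Additive :=
    (ModSite.sheafHomAdj (O := (Spec R).sheaf) F).left_adjoint_additive
  (Linear.homCongr R (leftUnitor (Spec R).sheaf F).symm (Iso.refl G)).trans
    (homLinearEquiv (R := R) (ModSite.sheafHomAdj (O := (Spec R).sheaf) F)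
      (fun Y a => sheafHom_map_smul R F Y a) (ModSite.unit (Spec R).sheaf) G)


section Ev

open Groth.Agent.H31.ExtInvertible Groth.Agent.H31.SheafHomFirstVar

variable {R}
variable {F F' G : (Spec R).Modules}
  [ModSite.HasSheafHom (O := (Spec R).sheaf) F]
  [ModSite.HasSheafHom (O := (Spec R).sheaf) F']

lemma evEquiv_apply (x : F ⟶ G) :
    evEquiv R F G x = (ModSite.sheafHomAdj (O := (Spec R).sheaf) F).homEquiv _ _
      ((leftUnitor (Spec R).sheaf F).hom ≫ x) := by
  change (ModSite.sheafHomAdj (O := (Spec R).sheaf) F).homEquiv _ _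
    ((leftUnitor (Spec R).sheaf F).hom ≫ x ≫ 𝟙 G) = _
  exact congrArg _ (congrArg _ (Category.comp_id x))

lemma leftUnitor_naturality {O : Sheaf (Opens.grothendieckTopology (Spec R))
    CommRingCat.{u}} {F F' : ModSite.Mod O} (g : F' ⟶ F) :
    ((ModSite.tensorBi O).obj (ModSite.unit O)).map g ≫ (leftUnitor O F).hom =
      (leftUnitor O F').hom ≫ g := by
  have h1 := ((Groth.Agent.H45.tensorBiFlipIso O).hom.app (ModSite.unit O)).naturality g
  have h2 := (SheafHomFree.flipUnitIso O).hom.naturality g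
  simp only [leftUnitor, σ, Iso.trans_hom, Iso.app_hom, Category.assoc]
  rw [← Category.assoc, h1, Category.assoc, h2]
  rfl

/-- naturality of `evEquiv` in the first variable -/
lemma evEquiv_comp (g : F' ⟶ F) (x : F ⟶ G) :
    evEquiv R F' G (g ≫ x) = evEquiv R F G x ≫
      (ExtSupp.sheafHomMap (O := (Spec R).sheaf) g).app G := by
  rw [evEquiv_apply, evEquiv_apply, ← homEquiv_map_comp]
  congr 1
  exact ((Category.assoc _ _ _).symm.trans (congrArg (· ≫ x) (leftUnitor_naturality g).symm)).trans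
    (Category.assoc _ _ _)

end Ev


section Beta

/-- the adjunction `tilde ⊣ Γ`, as linear equivalences -/
noncomputable def adjLin (M : ModuleCat.{u} R) (E : (Spec R).Modules) :
    ((til R).obj M ⟶ E) ≃ₗ[R] (M ⟶ (Γf R).obj E) :=
  homLinearEquiv (R := R) (tilde.adjunction (R := R)) (Γf_map_smul R) M E

lemma adjLin_apply (M : ModuleCat.{u} R) (E : (Spec R).Modules)
    (x : (til R).obj M ⟶ E) :
    adjLin R M E x = (tilde.adjunction (R := R)).homEquiv M E x := rfl

/-- sections as maps out of the structure sheaf -/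
noncomputable def secEquiv (E : (Spec R).Modules) :
    (ModSite.unit (Spec R).sheaf ⟶ E) ≃ₗ[R] (Γf R).obj E :=
  (adjLin R (ModuleCat.of R R) E).trans
    ((ModuleCat.homLinearEquiv (S := R)).trans (LinearMap.ringLmapEquivSelf R R _))

lemma secEquiv_comp {E E' : (Spec R).Modules}
    (y : ModSite.unit (Spec R).sheaf ⟶ E) (φ : E ⟶ E') :
    secEquiv R E' (y ≫ φ) = ((Γf R).map φ).hom (secEquiv R E y) := by
  let y' : (til R).obj (ModuleCat.of R R) ⟶ E := y
  change ((tilde.adjunction (R := R)).homEquiv (ModuleCat.of R R) E' (y' ≫ φ)).hom (1 : R) = _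
  rw [Adjunction.homEquiv_naturality_right]
  rfl


variable (G : (Spec R).Modules)

/-- `Γ(X, ℋom(M~, G)) ≃ₗ Hom_R(M, Γ(X, G))` -/
noncomputable def β (M : ModuleCat.{u} R)
    [ModSite.HasSheafHom (O := (Spec R).sheaf) ((til R).obj M)] :
    (Γf R).obj (ihom R ((til R).obj M) G) ≃ₗ[R] (M ⟶ (Γf R).obj G) :=
  (secEquiv R _).symm.trans ((evEquiv R _ G).symm.trans (adjLin R M G))

lemma β_naturality {M M' : ModuleCat.{u} R}
    [ModSite.HasSheafHom (O := (Spec R).sheaf) ((til R).obj M)]
    [ModSite.HasSheafHom (O := (Spec R).sheaf) ((til R).obj M')] (f : M' ⟶ M)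
    (s : (Γf R).obj (ihom R ((til R).obj M) G)) :
    β R G M' (((Γf R).map ((ExtSupp.sheafHomMap (O := (Spec R).sheaf) ((til R).map f)).app G)).hom s) =
      f ≫ β R G M s := by
  obtain ⟨y, rfl⟩ := (secEquiv R _).surjective s
  obtain ⟨x, rfl⟩ := (evEquiv R _ G).surjective y
  rw [← secEquiv_comp, ← evEquiv_comp]
  simp only [β, LinearEquiv.trans_apply, LinearEquiv.symm_apply_apply]
  exact (tilde.adjunction (R := R)).homEquiv_naturality_left f x

end Beta

end Groth.Agent.H31.TildeHom
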