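import Groth.Agent.H31.TildeHom1
import Groth.Agent.H31.CohExt1
import Groth.Agent.H12.QCohAbelian

set_option autoImplicit false
set_option linter.unusedSectionVars false
open CategoryTheory Limits Opposite AlgebraicGeometry
universe u

namespace Groth.Agent.H31.TildeHom

variable (R : CommRingCat.{u})

/-- the free module of rank `r`, as an object of `ModuleCat R` -/
noncomputable abbrev free (r : ℕ) : ModuleCat.{u} R := ModuleCat.of R (Fin r →₀ R)

/-- the inclusions of the factors of the free module -/
noncomputable abbrev freeι (r : ℕ) (i : Fin r) : ModuleCat.of R R ⟶ free R r :=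
  ModuleCat.ofHom (Finsupp.lsingle i)

/-- the free module is a coproduct of copies of `R` -/
noncomputable def isColimitFree (r : ℕ) : IsColimit (Cofan.mk (free R r) (freeι R r)) :=
  Cofan.IsColimit.mk _
    (fun s => ModuleCat.ofHom <| Finsupp.lsum R (N := s.pt) (fun i ↦ (s.inj i).hom))
    (fun s i => by
      apply ModuleCat.hom_ext
      apply LinearMap.ext
      intro x
      simp [freeι])
    (fun s m h => by
      apply ModuleCat.hom_ext
      refine Finsupp.lhom_ext' fun i ↦ LinearMap.ext fun x ↦ ?_
      have := congrArg (fun φ => φ.hom x) (h i)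
      simpa [freeι] using this)

variable {R}

lemma exists_epi_free (M : ModuleCat.{u} R) [Module.Finite R M] :
    ∃ (r : ℕ) (p : free R r ⟶ M), Epi p := by
  obtain ⟨r, f, hf⟩ := Module.Finite.exists_fin' R M
  let e : (Fin r →₀ R) ≃ₗ[R] (Fin r → R) := Finsupp.linearEquivFunOnFinite R R (Fin r)
  refine ⟨r, ModuleCat.ofHom (f.comp e.toLinearMap), ?_⟩
  rw [ModuleCat.epi_iff_surjective]
  exact hf.comp e.surjective

lemma exists_presentation (M : ModuleCat.{u} R) [Module.FinitePresentation R M] :
    ∃ (r s : ℕ) (a : free R s ⟶ free R r) (p : free R r ⟶ M) (w : a ≫ p = 0),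
      Epi p ∧ (ShortComplex.mk a p w).Exact := by
  obtain ⟨r, p, hp⟩ := exists_epi_free M
  have hps : Function.Surjective p.hom := (ModuleCat.epi_iff_surjective p).1 hp
  have hK : (LinearMap.ker p.hom).FG := Module.FinitePresentation.fg_ker p.hom hps
  have : Module.Finite R (LinearMap.ker p.hom) := Module.Finite.iff_fg.2 hK
  obtain ⟨s, q, hq⟩ := exists_epi_free (ModuleCat.of R (LinearMap.ker p.hom))
  have hqs : Function.Surjective q.hom := (ModuleCat.epi_iff_surjective q).1 hq
  refine ⟨r, s, q ≫ ModuleCat.ofHom (LinearMap.ker p.hom).subtype, p, ?_, hp, ?_⟩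
  · apply ModuleCat.hom_ext
    apply LinearMap.ext
    intro x
    exact (q.hom x).2
  · rw [ShortComplex.moduleCat_exact_iff]
    intro x hx
    obtain ⟨y, hy⟩ := hqs ⟨x, hx⟩
    exact ⟨y, congrArg Subtype.val hy⟩


section QC

variable (R)

attribute [local instance] Groth.Agent.H45.hasSheafHom

/-- `(R^r)~` is a coproduct of copies of the structure sheaf -/
noncomputable def isColimitTilFree (r : ℕ) :
    IsColimit (Cofan.mk ((til R).obj (free R r))
      (fun i => ((til R).map (freeι R r i) : ModSite.unit (Spec R).sheaf ⟶ _))) :=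
  haveI : PreservesColimitsOfSize.{0, 0} (til R) :=
    (tilde.adjunction (R := R)).leftAdjoint_preservesColimits
  isColimitCofanMkObjOfIsColimit (til R) _ _ (isColimitFree R r)

lemma isQuasicoherent_ihom_free (r : ℕ) (G : (Spec R).Modules) [G.IsQuasicoherent] :
    (ihom R ((til R).obj (free R r)) G).IsQuasicoherent := by
  have : HasFiniteBiproducts (Spec R).Modules := Abelian.hasFiniteBiproducts
  have : (∐ fun _ : Fin r => G).IsQuasicoherent :=
    Groth.Agent.H12.AffHomCrit.isQuasicoherent_sigma _
  exact Groth.Agent.H12.QCohAbelian.isQuasicoherent_of_iso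
    ((biproduct.isoCoproduct (fun _ : Fin r => G)).symm ≪≫
      biproduct.isoProduct (fun _ : Fin r => G) ≪≫
      (CohExt.sheafHomCofanIso (Spec R).sheaf ((til R).obj (free R r)) _
        (isColimitTilFree R r) G).symm)


open Groth.Agent.H31.SheafHomFirstVar in
/-- **`ℋom(M~, G)` is quasi-coherent for `M` finitely presented and `G` quasi-coherent.** -/
theorem isQuasicoherent_ihom (M : ModuleCat.{u} R) [Module.FinitePresentation R M]
    (G : (Spec R).Modules) [G.IsQuasicoherent] :
    (ihom R ((til R).obj M) G).IsQuasicoherent := by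
  obtain ⟨r, s, a, p, w, hp, hex⟩ := exists_presentation M
  have : PreservesColimitsOfSize.{0, 0} (til R) :=
    (tilde.adjunction (R := R)).leftAdjoint_preservesColimits
  have hg : Epi ((til R).map p) := (til R).map_epi p
  have hS' : ((ShortComplex.mk a p w).map (til R)).Exact :=
    hex.map_of_epi_of_preservesCokernel (til R) hp inferInstance
  let S : ShortComplex (ModSite.Mod (Spec R).sheaf) :=
    ShortComplex.mk ((til R).map a) ((til R).map p) ((ShortComplex.mk a p w).map (til R)).zero
  have : Epi S.g := hg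
  have hS : S.Exact := hS'
  have hl := isLimitKernelFork S G hS
  have e := IsLimit.conePointUniqueUpToIso hl
    (kernelIsKernel ((ExtSupp.sheafHomMap (O := (Spec R).sheaf) S.f).app G))
  have h1 := isQuasicoherent_ihom_free R r G
  have h2 := isQuasicoherent_ihom_free R s G
  have h3 : (kernel ((ExtSupp.sheafHomMap (O := (Spec R).sheaf) S.f).app G) :
      (Spec R).Modules).IsQuasicoherent :=
    Groth.Agent.H12.QCohAbelian.isQuasicoherent_kernel
      (M := ihom R ((til R).obj (free R r)) G) (N := ihom R ((til R).obj (free R s)) G)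
      ((ExtSupp.sheafHomMap (O := (Spec R).sheaf) S.f).app G)
  exact @Groth.Agent.H12.QCohAbelian.isQuasicoherent_of_iso _ _ _ e.symm h3


section Theta

variable (G : (Spec R).Modules) [G.IsQuasicoherent]

/-- `Hom_R(M, Γ(X, G))` as an `R`-module -/
noncomputable abbrev homMod (M : ModuleCat.{u} R) : ModuleCat.{u} R :=
  ModuleCat.of R (M ⟶ (Γf R).obj G)

/-- precomposition -/
noncomputable abbrev homModMap {M M' : ModuleCat.{u} R} (f : M' ⟶ M) :
    homMod R G M ⟶ homMod R G M' :=
  ModuleCat.ofHom (Linear.leftComp R ((Γf R).obj G) f)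

/-- **`ℋom(M~, G) ≅ Hom_R(M, Γ(X, G))~` for `M` finitely presented and `G` quasi-coherent** -/
noncomputable def θ (M : ModuleCat.{u} R) [Module.FinitePresentation R M] :
    ihom R ((til R).obj M) G ≅ (til R).obj (homMod R G M) :=
  haveI := isQuasicoherent_ihom R M G
  haveI : IsIso ((tilde.adjunction (R := R)).counit.app (ihom R ((til R).obj M) G)) :=
    inferInstanceAs (IsIso (Scheme.Modules.fromTildeΓ (ihom R ((til R).obj M) G)))
  (asIso ((tilde.adjunction (R := R)).counit.app (ihom R ((til R).obj M) G))).symm ≪≫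
    (til R).mapIso (β R G M).toModuleIso

lemma θ_naturality {M M' : ModuleCat.{u} R} [Module.FinitePresentation R M]
    [Module.FinitePresentation R M'] (f : M' ⟶ M) :
    (ExtSupp.sheafHomMap (O := (Spec R).sheaf) ((til R).map f)).app G ≫ (θ R G M').hom =
      (θ R G M).hom ≫ (til R).map (homModMap R G f) := by
  haveI := isQuasicoherent_ihom R M G
  haveI := isQuasicoherent_ihom R M' G
  haveI : IsIso ((tilde.adjunction (R := R)).counit.app (ihom R ((til R).obj M) G)) :=
    inferInstanceAs (IsIso (Scheme.Modules.fromTildeΓ (ihom R ((til R).obj M) G)))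
  haveI : IsIso ((tilde.adjunction (R := R)).counit.app (ihom R ((til R).obj M') G)) :=
    inferInstanceAs (IsIso (Scheme.Modules.fromTildeΓ (ihom R ((til R).obj M') G)))
  let φ : ihom R ((til R).obj M) G ⟶ ihom R ((til R).obj M') G :=
    (ExtSupp.sheafHomMap (O := (Spec R).sheaf) ((til R).map f)).app G
  have hβ : (Γf R).map φ ≫ (β R G M').toModuleIso.hom =
      (β R G M).toModuleIso.hom ≫ homModMap R G f := by
    apply ModuleCat.hom_ext
    apply LinearMap.ext
    intro s
    exact β_naturality R G f s
  have hc := (tilde.adjunction (R := R)).counit.naturality φ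
  change φ ≫ inv ((tilde.adjunction (R := R)).counit.app _) ≫ (til R).map _ =
    (inv ((tilde.adjunction (R := R)).counit.app _) ≫ (til R).map _) ≫ _
  rw [Category.assoc, ← Functor.map_comp, ← hβ, Functor.map_comp, ← Category.assoc,
    ← Category.assoc]
  congr 1
  rw [IsIso.comp_inv_eq, Category.assoc, IsIso.eq_inv_comp]
  exact hc.symm

end Theta


/-- `Hom_R(M, Γ(X, N~)) ≅ Hom_R(M, N)` -/
noncomputable def homModTilIso (M N : ModuleCat.{u} R) :
    homMod R ((til R).obj N) M ≅ ModuleCat.of R (M ⟶ N) :=
  (Linear.homCongr R (Iso.refl M) ((tilde.toTildeΓNatIso (R := R)).symm.app N)).toModuleIso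

/-- **`ℋom(M~, N~) ≅ Hom_R(M, N)~` for `M` finitely presented** -/
noncomputable def sheafHomTildeIso (M N : ModuleCat.{u} R) [Module.FinitePresentation R M] :
    ihom R ((til R).obj M) ((til R).obj N) ≅ (til R).obj (ModuleCat.of R (M ⟶ N)) :=
  θ R ((til R).obj N) M ≪≫ (til R).mapIso (homModTilIso R M N)

end QC

end Groth.Agent.H31.TildeHom
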